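import Cfsg.Prelude.Def_Blocks
import Cfsg.Agent.Lib.CharNormal.Glauberman
import Cfsg.Agent.Lib.CharNormal.Clifford
import Cfsg.Agent.Lib.Char.Ito

/-!
# Characters of the subgroups of an ambient finite group

Characters of a subgroup `H` of `Γ` are handled through their extensions by zero `z χ : Γ → ℂ`.

* `cj g χ`: conjugation by an element normalising `H`;
* `m χ β`: multiplicity of `β ∈ Irr B` in the restriction of `χ ∈ Irr H` (`0` unless `B ≤ H`);
* Clifford's theorem and the divisibility of the degree ratio in this language.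
-/

set_option autoImplicit false
set_option linter.unusedSectionVars false
set_option linter.unusedVariables false

noncomputable section

namespace CfsgLib.CharBlocks.RelMcKay

open CfsgLib.Char CfsgLib.CharNormal
open scoped ComplexConjugate

variable {Γ : Type*} [Group Γ]

/-- Irreducible characters of a subgroup. -/
abbrev Ch (H : Subgroup Γ) : Type _ := Cfsg.IrrCharacter H

/-- The normaliser of a subgroup. -/
abbrev Nz (H : Subgroup Γ) : Subgroup Γ := Subgroup.normalizer (H : Set Γ)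

variable [Finite Γ] {H B D : Subgroup Γ}

/-- Extension by zero. -/
def z (χ : Ch H) : Γ → ℂ := Cfsg.extendByZero H (χ : H → ℂ)

theorem z_coe (χ : Ch H) (x : H) : z χ (x : Γ) = (χ : H → ℂ) x := extendByZero_coe _ x

theorem z_of_mem (χ : Ch H) {x : Γ} (hx : x ∈ H) : z χ x = (χ : H → ℂ) ⟨x, hx⟩ :=
  extendByZero_of_mem _ hx

theorem z_of_notMem (χ : Ch H) {x : Γ} (hx : x ∉ H) : z χ x = 0 := extendByZero_of_notMem _ hx

theorem Ch_ext {χ χ' : Ch H} (h : ∀ x ∈ H, z χ x = z χ' x) : χ = χ' :=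
  Subtype.ext (funext fun x => by rw [← z_coe, ← z_coe, h x x.2])

theorem z_conj_self (χ : Ch H) {g : Γ} (hg : g ∈ H) (x : Γ) : z χ (g * x * g⁻¹) = z χ x := by
  by_cases hx : x ∈ H
  · rw [z_of_mem χ hx, z_of_mem χ (H.mul_mem (H.mul_mem hg hx) (H.inv_mem hg))]
    exact isClassFunction_of_isIrr χ.2 ⟨x, hx⟩ ⟨g, hg⟩
  · rw [z_of_notMem χ hx, z_of_notMem χ fun h => hx ?_]
    simpa [mul_assoc] using H.mul_mem (H.mul_mem (H.inv_mem hg) h) hg

/-- The degree. -/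
def dg (χ : Ch H) : ℕ := Cfsg.charDegree (χ : H → ℂ)

theorem apply_one_eq (χ : Ch H) : (χ : H → ℂ) 1 = (dg χ : ℂ) := by
  obtain ⟨n, -, hn⟩ := exists_degree_pos χ.2
  rw [dg, Cfsg.charDegree, hn, Complex.natCast_re, Nat.floor_natCast]

theorem z_one (χ : Ch H) : z χ 1 = (dg χ : ℂ) := by
  rw [z_of_mem χ H.one_mem, ← apply_one_eq]; rfl

theorem dg_pos (χ : Ch H) : 0 < dg χ := Nat.pos_of_ne_zero fun h =>
  irr_one_ne_zero χ.2 (by rw [apply_one_eq, h, Nat.cast_zero])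

/-! ### Conjugation -/

/-- `x ↦ g⁻¹ x g` on a subgroup normalised by `g`. -/
def cjEquiv (g : Γ) (hg : g ∈ Nz H) : H ≃* H where
  toFun x := ⟨g⁻¹ * x * g, by
    simpa using (Subgroup.mem_normalizer_iff.mp ((Nz H).inv_mem hg) x).mp x.2⟩
  invFun x := ⟨g * x * g⁻¹, (Subgroup.mem_normalizer_iff.mp hg x).mp x.2⟩
  left_inv x := Subtype.ext (by simp [mul_assoc])
  right_inv x := Subtype.ext (by simp [mul_assoc])
  map_mul' x y := Subtype.ext (by simp [mul_assoc])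

open Classical in
/-- The conjugate `x ↦ χ (g⁻¹ x g)`. -/
def cj (g : Γ) (χ : Ch H) : Ch H :=
  if hg : g ∈ Nz H then ⟨(χ : H → ℂ) ∘ cjEquiv g hg, by
    classical
    have := Fintype.ofFinite H
    exact isIrr_comp_mulEquiv χ.2 (cjEquiv g hg)⟩ else χ

theorem z_cj {g : Γ} (hg : g ∈ Nz H) (χ : Ch H) (x : Γ) : z (cj g χ) x = z χ (g⁻¹ * x * g) := by
  have hmem : x ∈ H ↔ g⁻¹ * x * g ∈ H := by
    simpa using Subgroup.mem_normalizer_iff.mp ((Nz H).inv_mem hg) x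
  by_cases hx : x ∈ H
  · rw [z_of_mem _ hx, z_of_mem χ (hmem.mp hx), cj, dif_pos hg]
    rfl
  · rw [z_of_notMem _ hx, z_of_notMem χ fun h => hx (hmem.mpr h)]

theorem cj_of_mem {g : Γ} (hg : g ∈ H) (χ : Ch H) : cj g χ = χ := Ch_ext fun x _ => by
  rw [z_cj (Subgroup.le_normalizer hg)]
  simpa using z_conj_self χ (H.inv_mem hg) x

theorem cj_one (χ : Ch H) : cj (1 : Γ) χ = χ := cj_of_mem H.one_mem χ

theorem cj_mul {g h : Γ} (hg : g ∈ Nz H) (hh : h ∈ Nz H) (χ : Ch H) :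
    cj (g * h) χ = cj g (cj h χ) := Ch_ext fun x _ => by
  rw [z_cj ((Nz H).mul_mem hg hh), z_cj hg, z_cj hh]
  simp [mul_assoc]

theorem cj_inv_eq {g : Γ} (hg : g ∈ Nz H) {χ χ' : Ch H} (h : cj g χ = χ') : cj g⁻¹ χ' = χ := by
  rw [← h, ← cj_mul ((Nz H).inv_mem hg) hg, inv_mul_cancel, cj_one]

theorem cj_injective {g : Γ} (hg : g ∈ Nz H) : Function.Injective (cj g : Ch H → Ch H) :=
  fun χ χ' h => (cj_inv_eq hg h).symm.trans (cj_inv_eq hg rfl)

theorem dg_cj {g : Γ} (hg : g ∈ Nz H) (χ : Ch H) : dg (cj g χ) = dg χ := by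
  have h := z_cj hg χ 1
  rw [mul_one, inv_mul_cancel, z_one, z_one] at h
  exact_mod_cast h

/-- `χ` is fixed by every element of `A`. -/
def Fix (A : Subgroup Γ) (χ : Ch H) : Prop := ∀ g ∈ A, cj g χ = χ

theorem Fix.apply {A : Subgroup Γ} {χ : Ch H} (h : Fix A χ) (hA : A ≤ Nz H) {g : Γ} (hg : g ∈ A)
    (x : Γ) : z χ (g * x * g⁻¹) = z χ x := by
  conv_lhs => rw [← h g hg]
  rw [z_cj (hA hg)]
  simp [mul_assoc]

/-- The stabiliser of `χ` in `A`. -/
def stb (A : Subgroup Γ) (χ : Ch H) : Subgroup Γ where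
  carrier := {g | g ∈ A ∧ g ∈ Nz H ∧ cj g χ = χ}
  one_mem' := ⟨A.one_mem, (Nz H).one_mem, cj_one χ⟩
  mul_mem' := fun {a b} ha hb => ⟨A.mul_mem ha.1 hb.1, (Nz H).mul_mem ha.2.1 hb.2.1, by
    rw [cj_mul ha.2.1 hb.2.1, hb.2.2, ha.2.2]⟩
  inv_mem' := fun {a} ha => ⟨A.inv_mem ha.1, (Nz H).inv_mem ha.2.1, cj_inv_eq ha.2.1 ha.2.2⟩

theorem mem_stb {A : Subgroup Γ} (hA : A ≤ Nz H) {χ : Ch H} {g : Γ} :
    g ∈ stb A χ ↔ g ∈ A ∧ cj g χ = χ :=
  ⟨fun h => ⟨h.1, h.2.2⟩, fun h => ⟨h.1, hA h.1, h.2⟩⟩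

theorem stb_le (A : Subgroup Γ) (χ : Ch H) : stb A χ ≤ A := fun _ h => h.1

theorem fix_stb (A : Subgroup Γ) (χ : Ch H) : Fix (stb A χ) χ := fun _ h => h.2.2

/-! ### Multiplicities -/

attribute [local instance] Fintype.ofFinite

/-- The multiplicity of `β` in the restriction of `χ`. -/
def m (χ : Ch H) (β : Ch B) : ℕ :=
  @dite _ (B ≤ H) (Classical.dec _) (fun h => mult (Subgroup.inclusion h) χ β) fun _ => 0

theorem m_eq_classInner (h : B ≤ H) (χ : Ch H) (β : Ch B) :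
    (m χ β : ℂ) = Cfsg.classInner (fun b : B => z χ (b : Γ)) (β : B → ℂ) := by
  rw [m, dif_pos h, ← classInner_eq_mult]
  congr 1
  exact funext fun b => (z_coe χ (Subgroup.inclusion h b)).symm

theorem m_sum (h : B ≤ H) (χ : Ch H) (β : Ch B) :
    (m χ β : ℂ) * (Nat.card B : ℂ) = ∑ b : B, z χ (b : Γ) * conj (z β (b : Γ)) := by
  rw [m_eq_classInner h, classInner_def, mul_comm ((Nat.card B : ℂ))⁻¹,
    inv_mul_cancel_right₀ card_ne_zero']
  simp only [z_coe β]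

theorem z_decomp (h : B ≤ H) (χ : Ch H) {x : Γ} (hx : x ∈ B) :
    z χ x = ∑ β : Ch B, (m χ β : ℂ) * z β x := by
  have h1 := comp_eq_sum_mult (Subgroup.inclusion h) χ ⟨x, hx⟩
  rw [← z_coe χ] at h1
  refine h1.trans (Finset.sum_congr rfl fun β _ => ?_)
  rw [m, dif_pos h, z_of_mem β hx]

theorem dg_decomp (h : B ≤ H) (χ : Ch H) : dg χ = ∑ β : Ch B, m χ β * dg β := by
  have h1 := z_decomp h χ B.one_mem
  simp only [z_one] at h1
  exact_mod_cast h1

theorem m_trans (hDB : D ≤ B) (hBH : B ≤ H) (χ : Ch H) (δ : Ch D) :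
    m χ δ = ∑ β : Ch B, m χ β * m β δ := by
  have h1 : (m χ δ : ℂ) = ∑ β : Ch B, (m χ β : ℂ) * (m β δ : ℂ) := by
    rw [m_eq_classInner (hDB.trans hBH)]
    rw [show (fun d : D => z χ (d : Γ)) = ∑ β : Ch B, (m χ β : ℂ) • fun d : D => z β (d : Γ) from
      funext fun d => by simp [z_decomp hBH χ (hDB d.2)], classInner_sum_left]
    simp only [classInner_smul_left, ← m_eq_classInner hDB]
  exact_mod_cast h1

theorem m_trans_ne_zero (hDB : D ≤ B) (hBH : B ≤ H) {χ : Ch H} {β : Ch B} {δ : Ch D}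
    (h1 : m χ β ≠ 0) (h2 : m β δ ≠ 0) : m χ δ ≠ 0 := by
  rw [m_trans hDB hBH]
  intro h
  rcases Nat.mul_eq_zero.mp (Finset.sum_eq_zero_iff.mp h β (Finset.mem_univ _)) with h3 | h3
  exacts [h1 h3, h2 h3]

theorem exists_between (hDB : D ≤ B) (hBH : B ≤ H) {χ : Ch H} {δ : Ch D} (h : m χ δ ≠ 0) :
    ∃ β : Ch B, m χ β ≠ 0 ∧ m β δ ≠ 0 := by
  rw [m_trans hDB hBH] at h
  obtain ⟨β, -, hβ⟩ := Finset.exists_ne_zero_of_sum_ne_zero h
  exact ⟨β, mul_ne_zero_iff.mp hβ⟩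

theorem exists_under (h : B ≤ H) (χ : Ch H) : ∃ β : Ch B, m χ β ≠ 0 := by
  by_contra hc
  push Not at hc
  have := dg_decomp h χ
  simp only [hc, zero_mul, Finset.sum_const_zero] at this
  exact (dg_pos χ).ne' this

theorem m_same (χ β : Ch H) [Decidable (χ = β)] : m χ β = if χ = β then 1 else 0 := by
  have h : (m χ β : ℂ) = if (χ : H → ℂ) = (β : H → ℂ) then 1 else 0 := by
    rw [m_eq_classInner le_rfl, ← classInner_irr χ.2 β.2]
    exact congrArg₂ Cfsg.classInner (funext fun b => z_coe χ b) rfl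
  split_ifs with he
  · rw [if_pos (congrArg Subtype.val he)] at h; exact_mod_cast h
  · rw [if_neg fun h' => he (Subtype.ext h')] at h; exact_mod_cast h

theorem m_cj {g : Γ} (h : B ≤ H) (hH : g ∈ Nz H) (hB : g ∈ Nz B) (χ : Ch H) (β : Ch B) :
    m (cj g χ) (cj g β) = m χ β := by
  have h1 : (m (cj g χ) (cj g β) : ℂ) * (Nat.card B : ℂ) = (m χ β : ℂ) * (Nat.card B : ℂ) := by
    rw [m_sum h, m_sum h]
    refine Fintype.sum_equiv (cjEquiv g hB).toEquiv _ _ fun b => ?_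
    rw [z_cj hH, z_cj hB]
    rfl
  exact_mod_cast mul_right_cancel₀ card_ne_zero' h1

/-! ### Bridge to a normal subgroup of a subgroup -/

variable {K X : Subgroup Γ}

/-- A character of `K` seen on `K.subgroupOf X`. -/
def sub (h : K ≤ X) (θ : Ch K) : Cfsg.IrrCharacter (K.subgroupOf X) :=
  ⟨(θ : K → ℂ) ∘ Subgroup.subgroupOfEquivOfLe h, isIrr_comp_mulEquiv θ.2 _⟩

theorem sub_apply (h : K ≤ X) (θ : Ch K) (n : K.subgroupOf X) :
    (sub h θ : K.subgroupOf X → ℂ) n = z θ ((n : X) : Γ) :=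
  (z_coe θ (Subgroup.subgroupOfEquivOfLe h n)).symm

theorem sub_injective (h : K ≤ X) : Function.Injective (sub (Γ := Γ) h) := fun θ θ' he =>
  Ch_ext fun x hx => by
    have h1 := congrFun (congrArg Subtype.val he) ⟨⟨x, h hx⟩, hx⟩
    rwa [sub_apply, sub_apply] at h1

theorem classInner_res_sub (h : K ≤ X) (χ : Ch X) (θ : Ch K) :
    Cfsg.classInner (fun n : K.subgroupOf X => (χ : X → ℂ) n) (sub h θ : K.subgroupOf X → ℂ) =
      m χ θ := by
  rw [m_eq_classInner h,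
    ← classInner_comp_mulEquiv (Subgroup.subgroupOfEquivOfLe h) (fun b : K => z χ (b : Γ))]
  refine congrArg₂ Cfsg.classInner (funext fun n => ?_) rfl
  exact (z_coe χ (n : X)).symm

theorem normal_sub (hN : X ≤ Nz K) : (K.subgroupOf X).Normal :=
  ⟨fun n hn g => (Subgroup.mem_normalizer_iff.mp (hN g.2) _).mp hn⟩

theorem conjFun_sub (h : K ≤ X) (hN : X ≤ Nz K) [(K.subgroupOf X).Normal] (g : X) (θ : Ch K) :
    conjFun (K.subgroupOf X) g (sub h θ : K.subgroupOf X → ℂ) =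
      (sub h (cj (g : Γ)⁻¹ θ) : K.subgroupOf X → ℂ) := funext fun n => by
  rw [conjFun_apply, sub_apply, sub_apply, z_cj ((Nz K).inv_mem (hN g.2))]
  simp

/-- Two constituents are conjugate. -/
theorem exists_cj_of_constituents (h : K ≤ X) (hN : X ≤ Nz K) {χ : Ch X} {θ θ' : Ch K}
    (h1 : m χ θ ≠ 0) (h2 : m χ θ' ≠ 0) : ∃ x ∈ X, cj x θ = θ' := by
  have := normal_sub hN
  obtain ⟨g, hg⟩ := exists_conj_of_constituents (K.subgroupOf X) χ.2 (sub h θ).2 (sub h θ').2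
    (by rw [classInner_res_sub]; exact Nat.cast_ne_zero.mpr h1)
    (by rw [classInner_res_sub]; exact Nat.cast_ne_zero.mpr h2)
  rw [conjFun_sub h hN] at hg
  exact ⟨_, X.inv_mem g.2, sub_injective h (Subtype.ext hg)⟩

theorem m_cj_right (h : K ≤ X) (hN : X ≤ Nz K) (χ : Ch X) {x : Γ} (hx : x ∈ X) (θ : Ch K) :
    m χ (cj x θ) = m χ θ := by
  conv_lhs => rw [← cj_of_mem hx χ]
  exact m_cj h (Subgroup.le_normalizer hx) (hN hx) χ θ

theorem eq_of_fix_constituents (h : K ≤ X) (hN : X ≤ Nz K) {χ : Ch X} {θ θ' : Ch K}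
    (hfix : Fix X θ) (h1 : m χ θ ≠ 0) (h2 : m χ θ' ≠ 0) : θ' = θ := by
  obtain ⟨x, hx, rfl⟩ := exists_cj_of_constituents h hN h1 h2
  exact hfix x hx

theorem res_eq_of_fix (h : K ≤ X) (hN : X ≤ Nz K) {χ : Ch X} {θ : Ch K} (hfix : Fix X θ)
    (h1 : m χ θ ≠ 0) {x : Γ} (hx : x ∈ K) : z χ x = (m χ θ : ℂ) * z θ x := by
  rw [z_decomp h χ hx, Finset.sum_eq_single θ]
  · intro θ' _ hne
    rw [not_ne_iff.mp fun h2 => hne (eq_of_fix_constituents h hN hfix h1 h2), Nat.cast_zero,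
      zero_mul]
  · simp

theorem dg_eq_of_fix (h : K ≤ X) (hN : X ≤ Nz K) {χ : Ch X} {θ : Ch K} (hfix : Fix X θ)
    (h1 : m χ θ ≠ 0) : dg χ = m χ θ * dg θ := by
  have := res_eq_of_fix h hN hfix h1 K.one_mem
  rw [z_one, z_one] at this
  exact_mod_cast this

theorem dg_dvd (h : K ≤ X) (hN : X ≤ Nz K) {χ : Ch X} {θ : Ch K} (h1 : m χ θ ≠ 0) :
    dg θ ∣ dg χ ∧ dg χ / dg θ ∣ K.relIndex X := by
  have := normal_sub hN
  exact degree_quotient_dvd_index (K.subgroupOf X) χ.2 (sub h θ).2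
    (by rw [classInner_res_sub]; exact Nat.cast_ne_zero.mpr h1) (apply_one_eq χ)
    (by rw [show ((sub h θ : K.subgroupOf X → ℂ) 1) = (θ : K → ℂ) 1 from
      congrArg (θ : K → ℂ) (map_one _)]; exact apply_one_eq θ)

theorem exists_over (h : K ≤ X) (hN : X ≤ Nz K) (θ : Ch K) : ∃ χ : Ch X, m χ θ ≠ 0 := by
  have := normal_sub hN
  obtain ⟨χ, hχ⟩ := exists_irr_over (K.subgroupOf X) (sub h θ).2
  rw [classInner_res_sub] at hχ
  exact ⟨χ, fun h0 => hχ (by rw [h0, Nat.cast_zero])⟩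

/-- A `Fintype` instance on subgroups that does not depend on decidability of membership. -/
@[reducible] def subFintype {G : Type*} [Group G] [Finite G] (H : Subgroup G) : Fintype H :=
  Fintype.ofFinite H

end CfsgLib.CharBlocks.RelMcKay
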