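import Cfsg.Agent.Lib.CharBlocks.RelMcKay.ExtCorr
import Cfsg.Agent.Lib.CharNormal.InvariantLayers

/-!
# The count over an invariant character of a `p'`-layer

If `K / L` is a `p'`-group, `θ` is invariant in `G = K N` with `N = G ⊓ N(P)` and corresponds
to `φ`, then `G` and `N` have equally many characters of degree prime to `p` over `θ` and `φ`.
-/

set_option autoImplicit false
set_option linter.unusedSectionVars false
set_option linter.unusedVariables false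

noncomputable section

namespace CfsgLib.CharBlocks.RelMcKay

open CfsgLib.Char CfsgLib.CharNormal

attribute [local instance] Fintype.ofFinite
attribute [local instance high] subFintype

variable {Γ : Type*} [Group Γ] [Finite Γ] {p : ℕ} [Fact p.Prime]
variable {L K P G X Y N : Subgroup Γ}

theorem mem_nz_of_conj {g : Γ} (h : ∀ x ∈ P, g * x * g⁻¹ ∈ P) : g ∈ Nz P := by
  have key : P.map (MulAut.conj g).toMonoidHom = P :=
    Subgroup.eq_of_le_of_card_ge (Subgroup.map_le_iff_le_comap.mpr fun a ha => h a ha)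
      (by rw [Subgroup.card_map_of_injective (MulAut.conj g).injective])
  rw [Subgroup.mem_normalizer_iff]
  refine fun a => ⟨h a, fun ha => ?_⟩
  rw [← key] at ha
  obtain ⟨a', ha', he⟩ := ha
  obtain rfl : a' = a := (MulAut.conj g).injective he
  exact ha'

theorem mem_nz_sup {A B : Subgroup Γ} {g : Γ} (hA : g ∈ Nz A) (hB : g ∈ Nz B) :
    g ∈ Nz (A ⊔ B) := by
  refine mem_nz_of_conj fun x hx => ?_
  have h1 : A ⊔ B ≤ (A ⊔ B).comap (MulAut.conj g).toMonoidHom := sup_le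
    (fun a ha => Subgroup.mem_sup_left ((Subgroup.mem_normalizer_iff.mp hA a).mp ha))
    (fun a ha => Subgroup.mem_sup_right ((Subgroup.mem_normalizer_iff.mp hB a).mp ha))
  exact h1 hx

theorem m_eq_one_of_deg (hKX : K ≤ X) (hXK : X ≤ Nz K) {θ : Ch K} {e : Ch X} (hfix : Fix X θ)
    {a : ℕ} (ha : K.relIndex X = p ^ a) (hpe : ¬ p ∣ dg e) (h2 : m e θ ≠ 0) : m e θ = 1 := by
  have h3 := (dg_dvd hKX hXK h2).2
  rw [dg_eq_of_fix hKX hXK hfix h2, Nat.mul_div_cancel _ (dg_pos θ), ha] at h3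
  refine eq_one_of_pow_dvd (Fact.out : p.Prime) h3 fun hd => hpe ?_
  rw [dg_eq_of_fix hKX hXK hfix h2]
  exact hd.mul_right _

/-- `cnt` along the extensions to a `p`-section. -/
theorem cnt_eq_sum_ext (hKX : K ≤ X) (hXY : X ≤ Y) (hYK : Y ≤ Nz K) (hYX : Y ≤ Nz X)
    {θ : Ch K} (hfix : Fix Y θ) {a : ℕ} (ha : K.relIndex X = p ^ a) (hNY : N ≤ Y)
    (hY : Y ≤ X ⊔ N) [DecidablePred fun e : Ch X => IsExt θ e] :
    (cnt p Y θ : ℚ) = ∑ e ∈ Finset.univ.filter (fun e : Ch X => IsExt θ e),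
      (cnt p Y e : ℚ) / orb N e := by
  have hfixX : Fix X θ := fun g hg => hfix g (hXY hg)
  refine cnt_eq_sum hKX hXY hYX hNY _ (fun e he => ?_) (fun e he g hg => ?_) ?_ ?_
  · rw [(Finset.mem_filter.mp he).2.m_eq]; exact one_ne_zero
  · refine Finset.mem_filter.mpr ⟨Finset.mem_univ _, ?_⟩
    have h1 := (Finset.mem_filter.mp he).2.cj (hYX (hNY hg)) (hYK (hNY hg))
    rwa [hfix g (hNY hg)] at h1
  · intro χ hp hm
    obtain ⟨e, h1, h2⟩ := exists_between hKX hXY hm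
    refine ⟨e, Finset.mem_filter.mpr ⟨Finset.mem_univ _, ?_⟩, h1⟩
    have hpe : ¬ p ∣ dg e := fun hd => hp (hd.trans (dg_dvd hXY hYX h1).1)
    exact isExt_of_m_eq_one hKX (hXY.trans hYK) hfixX
      (m_eq_one_of_deg hKX (hXY.trans hYK) hfixX ha hpe h2)
  · intro χ e he e' he' hp h1 h2
    obtain ⟨x, hx, rfl⟩ := exists_cj_of_constituents hXY hYX h1 h2
    obtain ⟨k, hk, n, hn, rfl⟩ := CfsgLib.Solvable.exists_mul_of_mem_sup (hNY.trans hYX) (hY hx)
    refine ⟨n, hn, ?_⟩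
    rw [cj_mul (Subgroup.le_normalizer hk) (hYX (hNY hn)), cj_of_mem hk]

/-- Over an invariant character with a `p'`-index all characters count. -/
theorem cnt_eq_card_over (hXY : X ≤ Y) (hN : Y ≤ Nz X) {e : Ch X} (hfix : Fix Y e)
    (hidx : ¬ p ∣ X.relIndex Y) (he : ¬ p ∣ dg e) :
    cnt p Y e = Nat.card {χ : Ch Y // m χ e ≠ 0} := by
  refine Nat.card_congr (Equiv.subtypeEquivRight fun χ => ⟨fun h => h.2, fun h => ⟨?_, h⟩⟩)
  have h3 := (dg_dvd hXY hN h).2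
  rw [dg_eq_of_fix hXY hN hfix h, Nat.mul_div_cancel _ (dg_pos e)] at h3
  rw [dg_eq_of_fix hXY hN hfix h]
  exact fun hd => ((Fact.out : p.Prime).dvd_mul.mp hd).elim (fun h' => hidx (h'.trans h3)) he

theorem cnt_eq_zero (hXY : X ≤ Y) (hN : Y ≤ Nz X) {θ : Ch X} (hd : p ∣ dg θ) :
    cnt p Y θ = 0 := by
  rw [cnt, Nat.card_eq_zero]
  exact Or.inl ⟨fun ⟨χ, hp, hm⟩ => hp (hd.trans (dg_dvd hXY hN hm).1)⟩

theorem comm_mem_pair {C : Subgroup Γ} {v w : Γ} (hv : v ∈ Nz C) (hw : w ∈ Nz C)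
    (h : v * w * v⁻¹ * w⁻¹ ∈ C) :
    ∀ a ∈ Subgroup.zpowers v ⊔ Subgroup.zpowers w, ∀ b ∈ Subgroup.zpowers v ⊔ Subgroup.zpowers w,
      a * b * a⁻¹ * b⁻¹ ∈ C := by
  set J := Subgroup.zpowers v ⊔ Subgroup.zpowers w with hJ
  have hJC : J ≤ Nz C := sup_le (Subgroup.zpowers_le.mpr hv) (Subgroup.zpowers_le.mpr hw)
  have hcl : J ≤ Subgroup.closure {v, w} := sup_le
    (Subgroup.zpowers_le.mpr (Subgroup.subset_closure (Or.inl rfl)))
    (Subgroup.zpowers_le.mpr (Subgroup.subset_closure (Or.inr rfl)))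
  have hmem : ({v, w} : Set Γ) ⊆ J := by
    rintro x (rfl | rfl)
    exacts [Subgroup.mem_sup_left (Subgroup.mem_zpowers _),
      Subgroup.mem_sup_right (Subgroup.mem_zpowers _)]
  have hswap : ∀ {x y : Γ}, x * y * x⁻¹ * y⁻¹ ∈ C → y * x * y⁻¹ * x⁻¹ ∈ C := fun {x y} hxy => by
    simpa [mul_assoc] using C.inv_mem hxy
  have h1 : ∀ s ∈ ({v, w} : Set Γ), ∀ b ∈ J, b * s * b⁻¹ * s⁻¹ ∈ C := by
    intro s hs b hb
    refine comm_mem_closure (hJC (hmem hs)) hJC hcl hmem (fun t ht => ?_) hb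
    rcases ht with rfl | rfl <;> rcases hs with rfl | rfl
    exacts [by simp, h, hswap h, by simp]
  exact fun a ha b hb =>
    comm_mem_closure (hJC hb) hJC hcl hmem (fun s hs => hswap (h1 s hs b hb)) ha

/-- `Good` for an extension is extendibility of the character below. -/
theorem good_iff (hKX : K ≤ X) (hXK : X ≤ Nz K) {θ : Ch K} {e : Ch X} (he : IsExt θ e) {v w : Γ}
    (hvK : v ∈ Nz K) (hwK : w ∈ Nz K) (hvX : v ∈ Nz X) (hwX : w ∈ Nz X)
    (hve : cj v e = e) (hwe : cj w e = e) (hcomm : v * w * v⁻¹ * w⁻¹ ∈ K) :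
    Good e v w ↔ Extends θ (K ⊔ (Subgroup.zpowers v ⊔ Subgroup.zpowers w)) := by
  set J := Subgroup.zpowers v ⊔ Subgroup.zpowers w with hJ
  set Z := K ⊔ Subgroup.zpowers w with hZ
  set Q := X ⊔ Subgroup.zpowers w with hQ
  have hJK : J ≤ Nz K := sup_le (Subgroup.zpowers_le.mpr hvK) (Subgroup.zpowers_le.mpr hwK)
  have hab : ∀ a ∈ K ⊔ J, ∀ b ∈ K ⊔ J, a * b * a⁻¹ * b⁻¹ ∈ K := fun a ha b hb =>
    comm_mem_sup hJK (comm_mem_pair hvK hwK hcomm) ha hb
  have hvJ : v ∈ K ⊔ J :=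
    Subgroup.mem_sup_right (Subgroup.mem_sup_left (Subgroup.mem_zpowers v))
  have hZJ : Z ≤ K ⊔ J := sup_le_sup_left le_sup_right K
  have hJZ : K ⊔ J ≤ Nz Z := nz_of_conj fun g hg x hx => by
    have h1 := hab g hg x (hZJ hx)
    have h2 := Z.mul_mem (Subgroup.mem_sup_left (T := Subgroup.zpowers w) h1) hx
    simpa [mul_assoc] using h2
  have hvZ : v ∈ Nz Z := hJZ hvJ
  have hZN : Z ≤ Nz K := sup_le Subgroup.le_normalizer (Subgroup.zpowers_le.mpr hwK)
  have hvQ : v ∈ Nz Q := by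
    refine mem_nz_of_conj fun x hx => ?_
    have h1 : Q ≤ Q.comap (MulAut.conj v).toMonoidHom := sup_le
      (fun a ha => Subgroup.mem_sup_left ((Subgroup.mem_normalizer_iff.mp hvX a).mp ha))
      (Subgroup.zpowers_le.mpr (by
        have h2 := Q.mul_mem (Subgroup.mem_sup_left (T := Subgroup.zpowers w) (hKX hcomm))
          (Subgroup.mem_sup_right (S := X) (Subgroup.mem_zpowers w))
        rw [inv_mul_cancel_right] at h2
        exact h2))
    exact h1 hx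
  have hQN : Q ≤ Nz X := sup_le Subgroup.le_normalizer (Subgroup.zpowers_le.mpr hwX)
  have hwQ : w ∈ Q := Subgroup.mem_sup_right (Subgroup.mem_zpowers w)
  have hZQ : Z ≤ Q := sup_le_sup_right hKX _
  have hfixJ : ∀ η : Ch Z, cj v η = η → Fix (Subgroup.zpowers v) η := fun η h g hg =>
    (((Subgroup.zpowers_le (H := stb (K ⊔ J) η)).mpr ⟨hvJ, hvZ, h⟩) hg).2.2
  have hext := extends_iff_fixed (B := Z) (X := K ⊔ J) (J := Subgroup.zpowers v) le_sup_left hZJ
    hJZ hvJ (sup_le (le_sup_left.trans le_sup_left)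
      (sup_le le_sup_right (le_sup_right.trans le_sup_left)))
    (Subgroup.zpowers_le.mpr hvJ) (Subgroup.mem_zpowers v) θ
  rw [hext]
  constructor
  · rintro ⟨η, hη, hfix⟩
    obtain ⟨η', h1, h2⟩ := (he.trans hη).exists_mid le_sup_left hZQ
    refine ⟨η', h1, hfixJ η' (Ch_ext fun x hx => ?_)⟩
    have h3 := h2.cj hvQ hvZ
    rw [hfix] at h3
    rw [← h3.2 x hx, h2.2 x hx]
  · rintro ⟨ζ, hζ, hfix⟩
    obtain ⟨η, hη⟩ := exists_ext_cyclic (le_sup_left : X ≤ Q) hQN hwQ le_rfl e hwe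
    obtain ⟨η', h1, h2⟩ := (he.trans hη).exists_mid le_sup_left hZQ
    refine ⟨η, hη, ?_⟩
    -- all extensions are fixed
    have hfix' : cj v η' = η' := by
      obtain ⟨l, hl, rfl⟩ := hζ.exists_tw hZN h1
      refine Ch_ext fun x hx => ?_
      have hx' : v⁻¹ * x * v ∈ Z := by
        simpa using (Subgroup.mem_normalizer_iff.mp ((Nz Z).inv_mem hvZ) x).mp hx
      rw [z_cj hvZ, z_tw, z_tw, ← z_cj hvZ, hfix v (Subgroup.mem_zpowers v)]
      congr 1
      have hc : v⁻¹ * x * v * x⁻¹ ∈ K := by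
        simpa using hab v⁻¹ ((K ⊔ J).inv_mem hvJ) x (hZJ hx)
      rw [show v⁻¹ * x * v = (v⁻¹ * x * v * x⁻¹) * x by group,
        lv_mul _ (Subgroup.mem_sup_left hc) hx, hl.lv le_sup_left hc, one_mul]
    have h3 := hη.cj hvQ hvX
    rw [hve] at h3
    obtain ⟨μ, hμ, hμe⟩ := hη.exists_tw hQN h3
    have h4 := h2.cj hvQ hvZ
    rw [hfix'] at h4
    have h5 : RelMcKay.tw η' (μ.comp (Subgroup.inclusion hZQ)) = η' := Ch_ext fun x hx => by
      have h6 := h4.2 x hx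
      rw [hμe, z_tw, h2.2 x hx] at h6
      rw [z_tw, show lv (μ.comp (Subgroup.inclusion hZQ)) x = lv μ x by
        rw [lv_of_mem _ hx, lv_of_mem _ (hZQ hx)]; rfl]
      exact h6
    have h6 := h1.tw_eq_self (fun x hx => hμ _ (hKX hx)) h5
    have h7 : μ = 1 := MonoidHom.ext fun x => by
      obtain ⟨a, ha, b, hb, hx⟩ := CfsgLib.Solvable.exists_mul_of_mem_sup
        (Subgroup.zpowers_le.mpr hwX) x.2
      have hx' : x = ⟨a, Subgroup.mem_sup_left ha⟩ * Subgroup.inclusion hZQ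
          ⟨b, Subgroup.mem_sup_right hb⟩ := Subtype.ext hx
      rw [hx', map_mul, hμ _ ha, one_mul]
      exact DFunLike.congr_fun h6 _
    rw [hμe, h7, tw_one]

theorem exists_complement_rel {C T : Subgroup Γ} (hCX : C ≤ X) (hXT : X ≤ T) (hTC : T ≤ Nz C)
    (hTX : T ≤ Nz X) {a : ℕ} (hp : C.relIndex X = p ^ a) (hp' : ¬ p ∣ X.relIndex T) :
    ∃ W : Subgroup Γ, C ≤ W ∧ W ≤ T ∧ X ⊓ W = C ∧ T ≤ X ⊔ W := by
  have : Fintype Γ := Fintype.ofFinite Γ
  have := normal_sub hTX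
  have := normal_sub hTC
  obtain ⟨V, h1, h2, -, -⟩ := CfsgLib.CharNormal.exists_complement_mod (X.subgroupOf T)
    (C.subgroupOf T) (fun x hx => hCX hx) (by
      rw [Subgroup.relIndex_subgroupOf hXT, hp]
      exact ((Fact.out : p.Prime).coprime_iff_not_dvd.mpr hp').symm.pow_right a)
  set U := V.comap (QuotientGroup.mk' (C.subgroupOf T))
  refine ⟨U.map T.subtype, ?_, Subgroup.map_subtype_le _, le_antisymm ?_ (le_inf hCX ?_), ?_⟩
  · intro c hc
    have hcU : (⟨c, hXT (hCX hc)⟩ : T) ∈ X.subgroupOf T ⊓ U := by rw [h1]; exact hc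
    exact ⟨_, hcU.2, rfl⟩
  · rintro x ⟨hx, u, hu, rfl⟩
    have : u ∈ C.subgroupOf T := h1 ▸ (⟨hx, hu⟩ : u ∈ X.subgroupOf T ⊓ U)
    exact this
  · intro c hc
    have hcU : (⟨c, hXT (hCX hc)⟩ : T) ∈ X.subgroupOf T ⊓ U := by rw [h1]; exact hc
    exact ⟨_, hcU.2, rfl⟩
  · intro x hx
    obtain ⟨k, hk, u, hu, he⟩ := h2 ⟨x, hx⟩
    rw [show x = (k : Γ) * (u : Γ) from congrArg Subtype.val he]
    exact Subgroup.mul_mem_sup hk ⟨u, hu, rfl⟩

section

variable {ν : Ch L} {θ : Ch K} {φ : Ch (fixC L K P)}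

theorem Setup.cor_dg (h : Setup p L K P ν) (hθ : m θ ν ≠ 0) (hθP : Fix P θ) (hc : Cor p θ φ) :
    p ∣ dg θ ↔ p ∣ dg φ := by
  have h2 : (dg θ : ZMod p) = (m θ φ : ZMod p) * (dg φ : ZMod p) := by
    rw [dg_decomp (fixC_le L K P) θ, Nat.cast_sum, Finset.sum_eq_single φ]
    · rw [Nat.cast_mul]
    · intro β _ hne
      have hd : p ∣ m θ β := by
        by_contra hd
        exact hne ((h.corr.1 θ hθ hθP).unique hd hc)
      rw [Nat.cast_mul, (ZMod.natCast_eq_zero_iff _ p).mpr hd, zero_mul]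
    · simp
  rw [← ZMod.natCast_eq_zero_iff, h2, mul_eq_zero, ← ZMod.natCast_eq_zero_iff]
  exact or_iff_right fun h0 => hc ((ZMod.natCast_eq_zero_iff _ p).mp h0)

theorem Setup.inf_nz (h : Setup p L K P ν) {x : Γ} (hK : x ∈ K) (hx : x ∈ Nz P) :
    x ∈ fixC L K P := by
  refine (mem_fixC h.KL).mpr ⟨hK, fun r hr => h.inf_le ?_ ?_⟩
  · exact K.mul_mem ((Subgroup.mem_normalizer_iff.mp (h.RK hr) x).mp hK) (K.inv_mem hK)
  · have h1 := P.mul_mem hr
      ((Subgroup.mem_normalizer_iff.mp hx _).mp (P.inv_mem hr))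
    simpa [mul_assoc] using h1

theorem Setup.fixC_le_nz (h : Setup p L K P ν) : fixC L K P ≤ Nz P := by
  refine fun c hc => mem_nz_of_conj fun r hr => ?_
  have h1 := P.mul_mem (h.LR (L.inv_mem (((mem_fixC h.KL).mp hc).2 r hr))) hr
  simpa [mul_assoc] using h1

theorem Setup.cor_fix (h : Setup p L K P ν) (hθ : m θ ν ≠ 0) (hθP : Fix P θ) (hc : Cor p θ φ)
    {g : Γ} (hL : g ∈ Nz L) (hK : g ∈ Nz K) (hP : g ∈ Nz P) (hg : cj g θ = θ) : cj g φ = φ := by
  refine (h.corr.1 θ hθ hθP).unique ?_ hc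
  show ¬ p ∣ m θ (cj g φ)
  conv => enter [1, 2, 1]; rw [← hg]
  rw [m_cj (fixC_le L K P) hK (fixC_nz hL hK hP)]
  exact hc

/-- The count over an invariant `θ` agrees with the count over `φ`. -/
theorem Setup.core (h : Setup p L K P ν) (hθ : m θ ν ≠ 0) (hc : Cor p θ φ) (hKG : K ≤ G)
    (hPG : P ≤ G) (hGL : G ≤ Nz L) (hGK : G ≤ Nz K) (hGX : G ≤ Nz (K ⊔ P))
    (hG : G ≤ K ⊔ (G ⊓ Nz P)) (hidx : ¬ p ∣ P.relIndex G) (hθG : Fix G θ) (hνG : Fix G ν) :
    cnt p G θ = cnt p (G ⊓ Nz P) φ := by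
  classical
  have hθP : Fix P θ := fun g hg => hθG g (hPG hg)
  set N := G ⊓ Nz P with hN
  have hNG : N ≤ G := inf_le_left
  have hNC : N ≤ Nz (fixC L K P) := fun g hg => fixC_nz (hGL hg.1) (hGK hg.1) hg.2
  have hCN : (fixC L K P) ≤ N := le_inf ((fixC_le L K P).trans hKG) h.fixC_le_nz
  have hPN : P ≤ N := le_inf hPG Subgroup.le_normalizer
  have hX'N : (fixC L K P) ⊔ P ≤ N := sup_le hCN hPN
  have hXG : K ⊔ P ≤ G := sup_le hKG hPG
  have hNX' : N ≤ Nz ((fixC L K P) ⊔ P) := fun g hg => mem_nz_sup (hNC hg) hg.2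
  have hφν : m φ ν ≠ 0 := h.over_fixC hθ hc.ne_zero
  have hφN : Fix N φ := fun g hg =>
    h.cor_fix hθ hθP hc (hGL hg.1) (hGK hg.1) hg.2 (hθG g hg.1)
  rcases em (p ∣ dg θ) with hd | hd
  · rw [cnt_eq_zero hKG hGK hd, cnt_eq_zero hCN hNC ((h.cor_dg hθ hθP hc).mp hd)]
  obtain ⟨⟨a, ha⟩, b, hb⟩ := h.relIndex_sup
  obtain ⟨f, hf⟩ := h.ext_bijection hθ hθP hc
  have hGXN : G ≤ (K ⊔ P) ⊔ N := hG.trans (sup_le_sup_right le_sup_left N)
  have key : (cnt p G θ : ℚ) = (cnt p N φ : ℚ) := by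
    rw [cnt_eq_sum_ext le_sup_left hXG hGK hGX hθG ha hNG hGXN,
      cnt_eq_sum_ext le_sup_left hX'N hNC hNX' hφN hb le_rfl le_sup_right,
      Finset.sum_subtype (Finset.univ.filter fun e : Ch (K ⊔ P) => IsExt θ e)
        (p := fun e => IsExt θ e) (fun x => by simp) (fun e => (cnt p G e : ℚ) / orb N e),
      Finset.sum_subtype (Finset.univ.filter fun e : Ch ((fixC L K P) ⊔ P) => IsExt φ e)
        (p := fun e => IsExt φ e) (fun x => by simp) (fun e => (cnt p N e : ℚ) / orb N e)]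
    refine Fintype.sum_equiv f _ _ fun e => ?_
    have hext : ∀ g ∈ N, IsExt θ (cj g e.1) := fun g hg => by
      have h1 := e.2.cj (hGX hg.1) (hGK hg.1)
      rwa [hθG g hg.1] at h1
    have heq : ∀ g (hg : g ∈ N), cj g (f e).1 = (f ⟨cj g e.1, hext g hg⟩).1 := fun g hg =>
      hf g (hGK hg.1) hg.2 (hGL hg.1) (hφN g hg) e ⟨cj g e.1, hext g hg⟩ rfl
    have horb : orb N e.1 = orb N (f e).1 := by
      have hmem : ∀ e' : {e' : Ch (K ⊔ P) // ∃ g ∈ N, cj g e.1 = e'}, IsExt θ e'.1 := fun e' => by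
        obtain ⟨g, hg, he⟩ := e'.2
        exact he ▸ hext g hg
      refine Nat.card_eq_of_bijective (fun e' => ⟨(f ⟨e'.1, hmem e'⟩).1, ?_⟩) ⟨?_, ?_⟩
      · obtain ⟨e', g, hg, rfl⟩ := e'
        exact ⟨g, hg, heq g hg⟩
      · intro e₁ e₂ he
        have h1 : f ⟨e₁.1, hmem e₁⟩ = f ⟨e₂.1, hmem e₂⟩ :=
          Subtype.ext (congrArg (fun x => x.1) he)
        exact Subtype.ext (congrArg (fun x => x.1) (f.injective h1))
      · rintro ⟨d, g, hg, rfl⟩
        exact ⟨⟨cj g e.1, g, hg, rfl⟩, Subtype.ext (heq g hg).symm⟩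
    rw [horb]
    congr 2
    -- the stabilisers
    set T := stb G e.1 with hT
    set T' := stb N (f e).1 with hT'
    have hT'T : ∀ g ∈ N, g ∈ T ↔ g ∈ T' := fun g hg => by
      rw [mem_stb hGX, mem_stb hNX', heq g hg]
      refine ⟨fun h' => ⟨hg, ?_⟩, fun h' => ⟨hg.1, ?_⟩⟩
      · simp only [h'.2]
      · exact congrArg Subtype.val (f.injective (Subtype.ext h'.2) :
          (⟨cj g e.1, hext g hg⟩ : {e : Ch (K ⊔ P) // IsExt θ e}) = e)
    have hXT : K ⊔ P ≤ T := fun x hx => (mem_stb hGX).mpr ⟨hXG hx, cj_of_mem hx _⟩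
    have hX'T' : (fixC L K P) ⊔ P ≤ T' := fun x hx => (mem_stb hNX').mpr ⟨hX'N hx, cj_of_mem hx _⟩
    have hT'le : T' ≤ T := fun g hg => (hT'T g (stb_le _ _ hg)).mpr hg
    have hp1 : ¬ p ∣ T.relIndex G := fun h' => hidx (h'.trans
      (Subgroup.relIndex_dvd_of_le_left _ (le_sup_right.trans hXT)))
    have hp2 : ¬ p ∣ T'.relIndex N := fun h' => hidx ((h'.trans
      (Subgroup.relIndex_dvd_of_le_left _ (le_sup_right.trans hX'T'))).trans
      ⟨_, (Subgroup.relIndex_mul_relIndex P N G hPN hNG).symm⟩)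
    have hp3 : ¬ p ∣ (K ⊔ P).relIndex T := fun h' => hidx ((h'.trans
      (Subgroup.relIndex_dvd_of_le_left _ le_sup_right)).trans
      ⟨_, (Subgroup.relIndex_mul_relIndex P T G (le_sup_right.trans hXT) (stb_le _ _)).symm⟩)
    have hp4 : ¬ p ∣ ((fixC L K P) ⊔ P).relIndex T' := fun h' => hidx ((h'.trans
      (Subgroup.relIndex_dvd_of_le_left _ le_sup_right)).trans
      ⟨_, (Subgroup.relIndex_mul_relIndex P T' G (le_sup_right.trans hX'T')
        ((stb_le _ _).trans hNG)).symm⟩)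
    rw [cnt_stb hXG hGX e.1 hp1, cnt_stb hX'N hNX' (f e).1 hp2,
      cnt_eq_card_over hXT ((stb_le _ _).trans hGX) (fix_stb _ _) hp3
        (by rw [e.2.dg_eq]; exact hd),
      cnt_eq_card_over hX'T' ((stb_le _ _).trans hNX') (fix_stb _ _) hp4
        (by rw [(f e).2.dg_eq]; exact fun h' => hd ((h.cor_dg hθ hθP hc).mpr h'))]
    -- a common complement
    obtain ⟨W, hCW, hWT', hW, hT'W⟩ := exists_complement_rel (le_sup_left : (fixC L K P) ≤ (fixC L K P) ⊔ P) hX'T'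
      ((stb_le _ _).trans hNC) ((stb_le _ _).trans hNX') hb hp4
    have hWN : W ≤ N := hWT'.trans (stb_le _ _)
    have hXW : (K ⊔ P) ⊓ W = (fixC L K P) := by
      refine le_antisymm (fun x hx => ?_) (le_inf (le_sup_of_le_left (fixC_le L K P)) hCW)
      rw [← hW]
      refine ⟨?_, hx.2⟩
      obtain ⟨k, hk, r, hr, he⟩ := CfsgLib.Solvable.exists_mul_of_mem_sup h.RK hx.1
      rw [he]
      refine Subgroup.mul_mem_sup (h.inf_nz hk ?_) hr
      have h1 := (Nz P).mul_mem (hWN hx.2).2 ((Nz P).inv_mem (hPN hr).2)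
      rwa [he, mul_inv_cancel_right] at h1
    have hTW : T ≤ (K ⊔ P) ⊔ W := by
      intro x hx
      obtain ⟨k, hk, n, hn, rfl⟩ := CfsgLib.Solvable.exists_mul_of_mem_sup (hNG.trans hGK)
        (hG (stb_le _ _ hx))
      have hnT : n ∈ T := by
        simpa using T.mul_mem (T.inv_mem (hXT (Subgroup.mem_sup_left hk))) hx
      exact Subgroup.mul_mem _ (Subgroup.mem_sup_left (Subgroup.mem_sup_left hk))
        ((sup_le_sup_right (sup_le_sup_right (fixC_le L K P) P) W)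
          (hT'W ((hT'T n hn).mp hnT)))
    have hcard : Nat.card {χ : Ch T // m χ e.1 ≠ 0} * Nat.card W * Nat.card ↥((K ⊔ P) ⊓ W) =
        Nat.card {χ : Ch T' // m χ (f e).1 ≠ 0} * Nat.card W * Nat.card ↥(((fixC L K P) ⊔ P) ⊓ W) := by
      rw [card_over_mul hXT ((stb_le _ _).trans hGX) (fix_stb _ _) (hWT'.trans hT'le) hTW,
        card_over_mul hX'T' ((stb_le _ _).trans hNX') (fix_stb _ _) hWT' hT'W]
      have hmem : ∀ u ∈ W, ∀ w ∈ W,
          (u * w * u⁻¹ * w⁻¹ ∈ K ⊔ P ↔ u * w * u⁻¹ * w⁻¹ ∈ (fixC L K P) ⊔ P) := by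
        intro u hu w hw
        have hW' := W.mul_mem (W.mul_mem (W.mul_mem hu hw) (W.inv_mem hu)) (W.inv_mem hw)
        exact ⟨fun h' => Subgroup.mem_sup_left (hXW.le ⟨h', hW'⟩),
          fun h' => sup_le_sup_right (fixC_le L K P) P h'⟩
      have hgood : ∀ u ∈ W, ∀ w ∈ W, u * w * u⁻¹ * w⁻¹ ∈ (fixC L K P) →
          (Good e.1 u w ↔ Good (f e).1 u w) := by
        intro u hu w hw hc'
        have hu' := hWT' hu
        have hw' := hWT' hw
        have huG := stb_le _ _ (hT'le hu')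
        have hwG := stb_le _ _ (hT'le hw')
        set J₀ := Subgroup.zpowers u ⊔ Subgroup.zpowers w with hJ₀
        have hJW : J₀ ≤ W := sup_le (Subgroup.zpowers_le.mpr hu) (Subgroup.zpowers_le.mpr hw)
        have hJN : (fixC L K P) ⊔ J₀ ≤ W := sup_le hCW hJW
        rw [good_iff le_sup_left (sup_le Subgroup.le_normalizer h.RK) e.2 (hGK huG) (hGK hwG)
            (hGX huG) (hGX hwG) (hT'le hu').2.2 (hT'le hw').2.2 (fixC_le L K P hc'),
          good_iff le_sup_left h.sup_le_nz (f e).2 (hNC (hWN hu)) (hNC (hWN hw))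
            (hNX' (hWN hu)) (hNX' (hWN hw)) hu'.2.2 hw'.2.2 hc']
        have h1 := h.extends_iff (J := (fixC L K P) ⊔ J₀) (le_sup_of_le_left h.le_fixC)
          ((hJN.trans hWN).trans (hNG.trans hGL)) ((hJN.trans hWN).trans (hNG.trans hGK))
          ((hJN.trans hWN).trans inf_le_right) (fun g hg => hνG g (hNG (hWN (hJN hg))))
          (fun hd' => ?_) (fun x hx y hy => comm_mem_sup (hJW.trans (hWN.trans hNC))
            (comm_mem_pair (hNC (hWN hu)) (hNC (hWN hw)) hc') hx hy)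
          (fun x hx => h.inf_nz hx.2 (hWN (hJN hx.1)).2) hθ hθP
          (fun g hg => hθG g (hNG (hWN (hJN hg)))) hc
        · rwa [← sup_assoc K, sup_eq_left.mpr (fixC_le L K P), ← sup_assoc (fixC L K P) (fixC L K P), sup_idem] at h1
        · -- `J / L` has order prime to `p`
          have h2 : L.relIndex ((fixC L K P) ⊔ J₀) ∣ L.relIndex W :=
            ⟨_, (Subgroup.relIndex_mul_relIndex L _ W (le_sup_of_le_left h.le_fixC) hJN).symm⟩
          have h3 : L.relIndex (fixC L K P) * (fixC L K P).relIndex W = L.relIndex W :=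
            Subgroup.relIndex_mul_relIndex L (fixC L K P) W h.le_fixC hCW
          rcases (Fact.out : p.Prime).dvd_mul.mp (h3 ▸ hd'.trans h2) with h4 | h4
          · exact h.pK (h4.trans
              ⟨_, (Subgroup.relIndex_mul_relIndex L (fixC L K P) K h.le_fixC (fixC_le L K P)).symm⟩)
          · refine hp4 (h4.trans ?_)
            have h5 : (fixC L K P).relIndex W = ((fixC L K P) ⊔ P).relIndex W :=
              (congrArg (fun A => Subgroup.relIndex A W) hW).symm.trans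
                (Subgroup.inf_relIndex_right _ _)
            rw [h5]
            exact ⟨1, by
              rw [mul_one, ← relIndex_sup_of_le_nz (hWT'.trans ((stb_le _ _).trans hNX'))]
              exact congrArg _ (le_antisymm hT'W (sup_le hX'T' hWT'))⟩
      refine Nat.card_congr (Equiv.subtypeEquivRight fun q => ?_)
      rw [hmem _ q.1.2 _ q.2.2]
      refine and_congr_right fun hq => ⟨fun h' u hu hu' => ?_, fun h' u hu hu' => ?_⟩
      · have hC' := hW.le ⟨hu', W.mul_mem (W.mul_mem (W.mul_mem hu q.2.2) (W.inv_mem hu))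
          (W.inv_mem q.2.2)⟩
        exact (hgood u hu q.2 q.2.2 hC').mp (h' u hu ((hmem u hu q.2 q.2.2).mpr hu'))
      · have hC' := hXW.le ⟨hu', W.mul_mem (W.mul_mem (W.mul_mem hu q.2.2) (W.inv_mem hu))
          (W.inv_mem q.2.2)⟩
        exact (hgood u hu q.2 q.2.2 hC').mpr (h' u hu ((hmem u hu q.2 q.2.2).mp hu'))
    rw [hXW, hW] at hcard
    exact Nat.eq_of_mul_eq_mul_right Nat.card_pos (Nat.eq_of_mul_eq_mul_right Nat.card_pos hcard)
  exact_mod_cast key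

end

end CfsgLib.CharBlocks.RelMcKay
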