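import Cfsg.Agent.Lib.CharBlocks.RelMcKay.Cyclic
import Mathlib.GroupTheory.IndexNormal

/-!
# The relative Glauberman correspondence

`Setup.corr`: for a `p`-group `R / L` acting on the `p'`-group `K / L`, the invariant characters of
`K` over the invariant `ν ∈ Irr L` correspond bijectively to the characters over `ν` of the fixed
points, through "multiplicity prime to `p`".
-/

set_option autoImplicit false
set_option linter.unusedSectionVars false
set_option linter.unusedVariables false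

noncomputable section

namespace CfsgLib.CharBlocks.RelMcKay

attribute [local instance] Fintype.ofFinite
attribute [local instance high] subFintype

variable {Γ : Type*} [Group Γ] [Finite Γ] {p : ℕ} [Fact p.Prime] {L K R : Subgroup Γ} {ν : Ch L}

/-- An element normalising `L`, `K` and `R` normalises the fixed points. -/
theorem fixC_nz {g : Γ} (hL : g ∈ Nz L) (hK : g ∈ Nz K) (hR : g ∈ Nz R) :
    g ∈ Nz (fixC L K R) := by
  have key : ∀ g, g ∈ Nz L → g ∈ Nz K → g ∈ Nz R → ∀ c ∈ fixC L K R, g * c * g⁻¹ ∈ fixC L K R := by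
    intro g hL hK hR c hc
    refine ⟨(Subgroup.mem_normalizer_iff.mp hK c).mp hc.1,
      (Nz L).mul_mem ((Nz L).mul_mem hL hc.2.1) ((Nz L).inv_mem hL), fun r hr => ?_⟩
    have hr' : g⁻¹ * r * g ∈ R := by
      simpa using (Subgroup.mem_normalizer_iff.mp ((Nz R).inv_mem hR) r).mp hr
    have h1 := (Subgroup.mem_normalizer_iff.mp hL _).mp (hc.2.2 _ hr')
    simpa [mul_assoc] using h1
  rw [Subgroup.mem_normalizer_iff]
  refine fun c => ⟨key g hL hK hR c, fun hc => ?_⟩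
  have h1 := key g⁻¹ ((Nz L).inv_mem hL) ((Nz K).inv_mem hK) ((Nz R).inv_mem hR) _ hc
  simpa [mul_assoc] using h1

/-- A normal subgroup of index `p` above `L`. -/
theorem exists_index_p {L R : Subgroup Γ} (hLR : L ≤ R) (hRL : R ≤ Nz L) {k : ℕ}
    (hk : L.relIndex R = p ^ (k + 1)) :
    ∃ R₀ : Subgroup Γ, L ≤ R₀ ∧ R₀ ≤ R ∧ R₀.relIndex R = p ∧ R ≤ Nz R₀ := by
  have hp : p.Prime := Fact.out
  have := normal_sub hRL
  set Q := R ⧸ L.subgroupOf R
  have hQ : Nat.card Q = p ^ (k + 1) := by rw [← Subgroup.index_eq_card]; exact hk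
  obtain ⟨U, hU⟩ := Sylow.exists_subgroup_card_pow_prime p (n := k) (G := Q)
    (hQ ▸ pow_dvd_pow p (Nat.le_succ k))
  have hUi : U.index = p := by
    have h1 := U.index_mul_card
    rw [hU, hQ, pow_succ'] at h1
    exact Nat.eq_of_mul_eq_mul_right (pow_pos hp.pos k) h1
  have hUn : U.Normal := Subgroup.normal_of_index_eq_minFac_card (by
    rw [hUi, hQ, hp.pow_minFac (Nat.succ_ne_zero k)])
  set V := U.comap (QuotientGroup.mk' (L.subgroupOf R))
  have hVn : V.Normal := hUn.comap _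
  have hVR : V.map R.subtype ≤ R := Subgroup.map_subtype_le _
  refine ⟨V.map R.subtype, fun l hl => ⟨⟨l, hLR hl⟩, ?_, rfl⟩, hVR, ?_, ?_⟩
  · show ((⟨l, hLR hl⟩ : R) : Q) ∈ U
    rw [(QuotientGroup.eq_one_iff (⟨l, hLR hl⟩ : R)).mpr (Subgroup.mem_subgroupOf.mpr hl)]
    exact U.one_mem
  · rw [Subgroup.relIndex, ← Subgroup.comap_subtype,
      Subgroup.comap_map_eq_self_of_injective R.subtype_injective,
      Subgroup.index_comap_of_surjective U (QuotientGroup.mk'_surjective _), hUi]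
  · intro r hr
    rw [Subgroup.mem_normalizer_iff]
    have key : ∀ r ∈ R, ∀ x ∈ V.map R.subtype, r * x * r⁻¹ ∈ V.map R.subtype := by
      rintro r hr _ ⟨x, hx, rfl⟩
      exact ⟨⟨r, hr⟩ * x * ⟨r, hr⟩⁻¹, hVn.conj_mem x hx _, rfl⟩
    refine fun x => ⟨key r hr x, fun hx => ?_⟩
    have h1 := key r⁻¹ (R.inv_mem hr) _ hx
    simpa [mul_assoc] using h1

/-- The relative Glauberman correspondence. -/
theorem Setup.corr (h : Setup p L K R ν) :
    (∀ θ : Ch K, m θ ν ≠ 0 → Fix R θ → ∃! β : Ch (fixC L K R), Cor p θ β) ∧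
      ∀ β : Ch (fixC L K R), m β ν ≠ 0 →
        ∃! θ : Ch K, (m θ ν ≠ 0 ∧ Fix R θ) ∧ Cor p θ β := by
  classical
  obtain ⟨k, hk⟩ := h.pR
  induction k generalizing K R with
  | zero =>
    have hRL : R ≤ L := by rwa [pow_zero, Subgroup.relIndex_eq_one] at hk
    have hC : fixC L K R = K := le_antisymm (fixC_le L K R) fun x hx =>
      (mem_fixC h.KL).mpr ⟨hx, fun r hr => by
        have h1 := L.mul_mem (hRL hr)
          ((Subgroup.mem_normalizer_iff.mp (h.KL hx) r⁻¹).mp (L.inv_mem (hRL hr)))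
        simpa [mul_assoc] using h1⟩
    rw [hC]
    have key : ∀ θ β : Ch K, Cor p θ β ↔ θ = β := fun θ β => by
      rw [Cor, m_same]
      split_ifs with he
      · simp [he, (Fact.out : p.Prime).not_dvd_one]
      · simp [he]
    refine ⟨fun θ _ _ => ⟨θ, (key θ θ).mpr rfl, fun β hβ => ((key θ β).mp hβ).symm⟩,
      fun β hβ => ⟨β, ⟨⟨hβ, fun r hr => cj_of_mem (h.LK (hRL hr)) β⟩, (key β β).mpr rfl⟩,
        fun θ hθ => (key θ β).mp hθ.2⟩⟩
  | succ k ih =>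
    obtain ⟨R₀, hLR₀, hR₀R, hidx, hRn⟩ := exists_index_p h.LR h.RL hk
    have hp : p.Prime := Fact.out
    obtain ⟨s, hs, hs0⟩ : ∃ s ∈ R, s ∉ R₀ := by
      by_contra hc
      push Not at hc
      rw [Subgroup.relIndex_eq_one.mpr hc] at hidx
      exact hp.one_lt.ne hidx
    have hgen : R ≤ R₀ ⊔ Subgroup.zpowers s := by
      set T := R₀ ⊔ Subgroup.zpowers s
      have hT : T ≤ R := sup_le hR₀R (Subgroup.zpowers_le.mpr hs)
      have h1 := Subgroup.relIndex_mul_relIndex _ _ _ (le_sup_left : R₀ ≤ T) hT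
      rw [hidx] at h1
      rcases (Nat.Prime.eq_one_or_self_of_dvd hp _ (Dvd.intro _ h1)) with h2 | h2
      · exact absurd (Subgroup.relIndex_eq_one.mp h2
          (Subgroup.mem_sup_right (Subgroup.mem_zpowers s))) hs0
      · rw [h2] at h1
        exact Subgroup.relIndex_eq_one.mp ((mul_eq_left₀ hp.ne_zero).mp h1)
    have h₀ := h.restrict hLR₀ hR₀R
    have hk₀ : L.relIndex R₀ = p ^ k := by
      have h1 := Subgroup.relIndex_mul_relIndex _ _ _ hLR₀ hR₀R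
      rw [hidx, hk, pow_succ] at h1
      exact Nat.eq_of_mul_eq_mul_right hp.pos h1
    obtain ⟨ihθ, ihβ⟩ := ih h₀ hk₀
    set C₁ := fixC L K R₀
    have hRC₁ : R ≤ Nz C₁ := fun r hr => fixC_nz (h.RL hr) (h.RK hr) (hRn hr)
    have h₁ : Setup p L C₁ R ν := h.inter h₀.le_fixC (fixC_le L K R₀) hRC₁
    set R' := L ⊔ Subgroup.zpowers s
    have hR'R : R' ≤ R := sup_le h.LR (Subgroup.zpowers_le.mpr hs)
    have h₂ := h₁.restrict (le_sup_left : L ≤ R') hR'R
    obtain ⟨stθ, stβ⟩ := h₂.cyclic_step (Subgroup.mem_sup_right (Subgroup.mem_zpowers s))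
      (fun hsL => hs0 (hLR₀ hsL)) le_rfl
    have hCeq : fixC L C₁ R' = fixC L K R := by
      refine le_antisymm (fun c hc => (mem_fixC h.KL).mpr ⟨hc.1.1, fun r hr => ?_⟩)
        (fun c hc => ⟨fixC_mono hR₀R hc, hc.2.1, fun r hr => hc.2.2 r (hR'R hr)⟩)
      refine comm_mem_closure hc.2.1 h.RL (S := (R₀ : Set Γ) ∪ {s}) ?_ ?_ ?_ hr
      · refine hgen.trans (sup_le (fun x hx => Subgroup.subset_closure (Or.inl hx)) ?_)
        exact Subgroup.zpowers_le.mpr (Subgroup.subset_closure (Or.inr rfl))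
      · rintro x (hx | hx)
        · exact hR₀R hx
        · rw [Set.mem_singleton_iff] at hx; rw [hx]; exact hs
      · rintro x (hx | hx)
        · exact hc.1.2.2 x hx
        · rw [Set.mem_singleton_iff] at hx; rw [hx]
          exact hc.2.2 s (Subgroup.mem_sup_right (Subgroup.mem_zpowers s))
    rw [hCeq] at stθ stβ
    -- invariance under `R` from invariance under `R₀` and `s`
    have hfixR : ∀ {H : Subgroup Γ}, L ≤ H → R ≤ Nz H → ∀ χ : Ch H, Fix R₀ χ → cj s χ = χ →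
        Fix R χ := by
      intro H hLH hRH χ h0 h1 r hr
      have h2 : R₀ ⊔ Subgroup.zpowers s ≤ stb R χ := sup_le
        (fun x hx => (mem_stb hRH).mpr ⟨hR₀R hx, h0 x hx⟩)
        (Subgroup.zpowers_le.mpr ((mem_stb hRH).mpr ⟨hs, h1⟩))
      exact (h2 (hgen hr)).2.2
    have hmcj : ∀ (θ : Ch K) (β : Ch C₁) (r : Γ), r ∈ R →
        (Cor p (cj r θ) (cj r β) ↔ Cor p θ β) := fun θ β r hr => by
      rw [Cor, Cor, m_cj (fixC_le L K R₀) (h.RK hr) (hRC₁ hr)]
    -- congruences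
    have hcong : ∀ (θ : Ch K) (β₁ : Ch C₁) (γ : Ch (fixC L K R)), m θ ν ≠ 0 → Fix R θ →
        Cor p θ β₁ → m γ ν ≠ 0 → (Cor p θ γ ↔ Cor p β₁ γ) := by
      intro θ β₁ γ hθ hfix hc hγ
      have hβν := h₀.over_fixC hθ hc.ne_zero
      have h1 := m_congr (B := C₁) (D := fixC L K R) hLR₀ h₀.RL hk₀ h₀.le_fixC
        (fixC_mono hR₀R) (fixC_le L K R₀) h₀.RK h₀.nz_fixC (hR₀R.trans h.nz_fixC) (χ := θ) (δ := γ)
        (fun r hr => hfix r (hR₀R hr)) (fun r hr => h.fix_over hγ r (hR₀R hr))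
      rw [Finset.sum_eq_single β₁ (fun β hβ hne => ?_) (fun hn => absurd ?_ hn)] at h1
      · rw [Cor, Cor, ← ZMod.natCast_eq_zero_iff, ← ZMod.natCast_eq_zero_iff, h1, mul_eq_zero]
        have : (m θ β₁ : ZMod p) ≠ 0 := fun h0 => hc ((ZMod.natCast_eq_zero_iff _ p).mp h0)
        tauto
      · rw [(ZMod.natCast_eq_zero_iff (m θ β) p).mpr ?_, zero_mul]
        by_contra hd
        exact hne ((ihθ θ hθ fun r hr => hfix r (hR₀R hr)).unique hd hc)
      · exact Finset.mem_filter.mpr ⟨Finset.mem_univ _, h₀.fix_over hβν⟩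
    refine ⟨fun θ hθ hfix => ?_, fun β hβ => ?_⟩
    · obtain ⟨β₁, hc₁, hu₁⟩ := ihθ θ hθ fun r hr => hfix r (hR₀R hr)
      have hν₁ := h₀.over_fixC hθ hc₁.ne_zero
      have hf₁ : Fix R' β₁ := fun r hr => hu₁ _ (by
        have := (hmcj θ β₁ r (hR'R hr)).mpr hc₁
        rwa [hfix r (hR'R hr)] at this)
      obtain ⟨β, hc, hu⟩ := stθ β₁ hν₁ hf₁
      refine ⟨β, (hcong θ β₁ β hθ hfix hc₁ ?_).mpr hc, fun γ hγ =>
        hu γ ((hcong θ β₁ γ hθ hfix hc₁ (h.over_fixC hθ hγ.ne_zero)).mp hγ)⟩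
      exact over_of_m h.le_fixC (fixC_mono hR₀R) ((fixC_le L K R₀).trans h.KL)
        (fun g hg => h.fK g (fixC_le L K R₀ hg)) hν₁ hc.ne_zero
    · obtain ⟨β₁, ⟨⟨hν₁, hf₁⟩, hc⟩, hu⟩ := stβ β hβ
      have hF₁ : Fix R β₁ := hfixR h₀.le_fixC hRC₁ β₁ (h₀.fix_over hν₁)
        (hf₁ s (Subgroup.mem_sup_right (Subgroup.mem_zpowers s)))
      obtain ⟨θ, ⟨⟨hθ, hθ₀⟩, hcθ⟩, huθ⟩ := ihβ β₁ hν₁
      have hθR : Fix R θ := hfixR h.LK h.RK θ hθ₀ (huθ _ ⟨⟨?_, ?_⟩, ?_⟩)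
      · refine ⟨θ, ⟨⟨hθ, hθR⟩, (hcong θ β₁ β hθ hθR hcθ hβ).mpr hc⟩, ?_⟩
        rintro θ' ⟨⟨hθ', hf'⟩, hc'⟩
        obtain ⟨β₂, hc₂, hu₂⟩ := ihθ θ' hθ' fun r hr => hf' r (hR₀R hr)
        have hf₂ : Fix R' β₂ := fun r hr => hu₂ _ (by
          have := (hmcj θ' β₂ r (hR'R hr)).mpr hc₂
          rwa [hf' r (hR'R hr)] at this)
        obtain rfl := hu β₂ ⟨⟨h₀.over_fixC hθ' hc₂.ne_zero, hf₂⟩,
          (hcong θ' β₂ β hθ' hf' hc₂ hβ).mp hc'⟩
        exact huθ θ' ⟨⟨hθ', fun r hr => hf' r (hR₀R hr)⟩, hc₂⟩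
      · rw [← h.fR s hs, m_cj h.LK (h.RK hs) (h.RL hs)]
        exact hθ
      · intro r hr
        have hconj : s⁻¹ * r * s ∈ R₀ := by
          simpa using (Subgroup.mem_normalizer_iff.mp ((Nz R₀).inv_mem (hRn hs)) r).mp hr
        rw [← cj_mul (h.RK (hR₀R hr)) (h.RK hs), show r * s = s * (s⁻¹ * r * s) by group,
          cj_mul (h.RK hs) (h.RK (hR₀R hconj)), hθ₀ _ hconj]
      · have := (hmcj θ β₁ s hs).mpr hcθ
        rwa [hF₁ s hs] at this

end CfsgLib.CharBlocks.RelMcKay
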