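import Cfsg.Agent.Lib.CharBlocks.RelMcKay.Fixed
import Cfsg.Agent.Lib.CharNormal.GlaubermanCyclic

/-!
# The coset `K s` of a cyclic `p`-extension

* `Setup.exists_conj_coset`, `Setup.coset_unique`: the elements of `K s` up to conjugation by `K`;
* `Setup.card_sum_coset`: averaging an invariant function over `K s`;
* orthogonality of extensions on a coset, and vanishing off the inertia group.
-/

set_option autoImplicit false
set_option linter.unusedSectionVars false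
set_option linter.unusedVariables false

noncomputable section

namespace CfsgLib.CharBlocks.RelMcKay

open CfsgLib.Char CfsgLib.CharNormal
open scoped ComplexConjugate

attribute [local instance] Fintype.ofFinite

variable {Γ : Type*} [Group Γ] [Finite Γ] {p : ℕ} [Fact p.Prime]
variable {L K R : Subgroup Γ} {ν : Ch L} {s : Γ}

theorem Setup.le_zpowers_pow (h : Setup p L K R ν) (hs : s ∈ R) (hR : R ≤ L ⊔ Subgroup.zpowers s)
    {j : ℕ} (hj : ¬ p ∣ j) : R ≤ L ⊔ Subgroup.zpowers (s ^ j) := by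
  obtain ⟨k, hk⟩ := h.pR
  have hn : s ^ p ^ k ∈ L := hk ▸ pow_relIndex_mem h.RL hs
  refine hR.trans (sup_le le_sup_left (Subgroup.zpowers_le.mpr ?_))
  have hg : Nat.gcd j (p ^ k) = 1 :=
    ((Fact.out : p.Prime).coprime_iff_not_dvd.mpr hj).symm.pow_right k
  have h3 : (Nat.gcd j (p ^ k) : ℤ) = (j : ℤ) * j.gcdA (p ^ k) +
        ((p ^ k : ℕ) : ℤ) * j.gcdB (p ^ k) := Nat.gcd_eq_gcd_ab _ _
  rw [hg, Nat.cast_one] at h3
  have e : s = (s ^ j) ^ j.gcdA (p ^ k) * (s ^ p ^ k) ^ j.gcdB (p ^ k) := by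
    calc s = s ^ (1 : ℤ) := (zpow_one s).symm
      _ = _ := by rw [h3, zpow_add, zpow_mul, zpow_mul, zpow_natCast, zpow_natCast]
  have hmem : (s ^ j) ^ j.gcdA (p ^ k) * (s ^ p ^ k) ^ j.gcdB (p ^ k) ∈
      L ⊔ Subgroup.zpowers (s ^ j) := Subgroup.mul_mem _
    (Subgroup.mem_sup_right (Subgroup.zpow_mem _ (Subgroup.mem_zpowers _) _))
    (Subgroup.mem_sup_left (L.zpow_mem hn _))
  rwa [← e] at hmem

theorem Setup.mem_fixC_of_gen (h : Setup p L K R ν) (hs : s ∈ R)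
    (hR : R ≤ L ⊔ Subgroup.zpowers s) {k : Γ} (hk : k ∈ K) (hc : s * k * s⁻¹ * k⁻¹ ∈ L) :
    k ∈ fixC L K R := by
  refine (mem_fixC h.KL).mpr ⟨hk, fun r hr => ?_⟩
  refine comm_mem_closure (h.KL hk) h.RL (S := (L : Set Γ) ∪ {s}) ?_ ?_ ?_ hr
  · refine hR.trans (sup_le (fun l hl => Subgroup.subset_closure (Or.inl hl)) ?_)
    exact Subgroup.zpowers_le.mpr (Subgroup.subset_closure (Or.inr rfl))
  · rintro x (hx | hx)
    · exact h.LR hx
    · rw [Set.mem_singleton_iff] at hx; rw [hx]; exact hs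
  · rintro x (hx | hx)
    · have h1 := L.mul_mem hx ((Subgroup.mem_normalizer_iff.mp (h.KL hk) x⁻¹).mp (L.inv_mem hx))
      simpa [mul_assoc] using h1
    · rw [Set.mem_singleton_iff] at hx; rw [hx]; exact hc

/-- An exponent extracting the `p`-part. -/
theorem Setup.exists_exponent (h : Setup p L K R ν) :
    ∃ a : ℕ, a ≡ 1 [MOD L.relIndex R] ∧ L.relIndex K ∣ a ∧ 1 ≤ a := by
  obtain ⟨k, hk⟩ := h.pR
  have hcop : (L.relIndex R).Coprime (L.relIndex K) :=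
    hk ▸ (((Fact.out : p.Prime).coprime_iff_not_dvd.mpr h.pK).pow_left k)
  obtain ⟨a, ha1, ha2⟩ := Nat.chineseRemainder hcop 1 0
  have hn : 0 < L.relIndex R * L.relIndex K := Nat.mul_pos
    (hk ▸ pow_pos (Fact.out : p.Prime).pos k)
    (Nat.pos_of_ne_zero fun h0 => h.pK (h0 ▸ dvd_zero p))
  refine ⟨a + L.relIndex R * L.relIndex K,
    Nat.ModEq.trans (Nat.add_mul_mod_self_left a _ _) ha1,
    dvd_add (Nat.modEq_zero_iff_dvd.mp ha2) (dvd_mul_left _ _), by omega⟩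

theorem Setup.pow_exponent (h : Setup p L K R ν) {r : Γ} (hr : r ∈ R) {a : ℕ}
    (ha : a ≡ 1 [MOD L.relIndex R]) (ha1 : 1 ≤ a) : ∃ l ∈ L, r ^ a = r * l := by
  obtain ⟨t, ht⟩ := (Nat.modEq_iff_dvd' ha1).mp ha.symm
  refine ⟨(r ^ L.relIndex R) ^ t, L.pow_mem (pow_relIndex_mem h.RL hr) t, ?_⟩
  rw [← pow_mul, ← pow_succ', ← ht, Nat.sub_add_cancel ha1]

/-- Every element of `K s` is a `K`-conjugate of an element of `C s`. -/
theorem Setup.exists_conj_coset (h : Setup p L K R ν) (hs : s ∈ R)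
    (hR : R ≤ L ⊔ Subgroup.zpowers s) {k : Γ} (hk : k ∈ K) :
    ∃ k₀ ∈ K, ∃ c ∈ fixC L K R, k₀ * (c * s) * k₀⁻¹ = k * s := by
  obtain ⟨a, ha, hqa, ha1⟩ := h.exists_exponent
  obtain ⟨e, he⟩ := h.pR
  set n := L.relIndex R with hn
  set q := L.relIndex K with hq
  have hsK := h.RK hs
  set g := k * s with hgdef
  have hgn : g ^ n ∈ K := by
    obtain ⟨k', hk', hk2⟩ := exists_mul_pow hk hsK n
    rw [hk2]
    exact K.mul_mem hk' (h.LK (pow_relIndex_mem h.RL hs))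
  obtain ⟨k', hk', hk2⟩ := exists_mul_pow hk hsK a
  obtain ⟨l, hl, hla⟩ := h.pow_exponent hs ha ha1
  have hu : g ^ a = k' * (s * l) := by rw [hk2, hla]
  set u := g ^ a with hudef
  have hgL : g ∈ Nz L := (Nz L).mul_mem (h.KL hk) (h.RL hs)
  have hun : u ^ n ∈ L := by
    rw [hudef, ← pow_mul, mul_comm, pow_mul]
    obtain ⟨t, ht⟩ := hqa
    rw [ht, pow_mul]
    exact L.pow_mem (pow_relIndex_mem h.KL hgn) t
  set Q := L ⊔ Subgroup.zpowers u
  obtain ⟨b, -, hb⟩ := (Nat.dvd_prime_pow (Fact.out : p.Prime)).mp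
    ((relIndex_sup_zpowers_dvd ((Nz L).pow_mem hgL a) hun).trans (dvd_of_eq he))
  have hgX : g ∈ K ⊔ R :=
    Subgroup.mul_mem _ (Subgroup.mem_sup_left hk) (Subgroup.mem_sup_right hs)
  have hQX : Q ≤ K ⊔ R :=
    sup_le (h.LK.trans le_sup_left) (Subgroup.zpowers_le.mpr (Subgroup.pow_mem _ hgX a))
  have hidx : R.relIndex (K ⊔ R) = q := by
    have e1 := Subgroup.relIndex_mul_relIndex _ _ _ h.LR (le_sup_right : R ≤ K ⊔ R)
    have e2 := Subgroup.relIndex_mul_relIndex _ _ _ h.LK (le_sup_left : K ≤ K ⊔ R)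
    rw [relIndex_sup_of_le_nz h.RK] at e2
    have e3 : K.relIndex R = n := by
      rw [hn, ← Subgroup.inf_relIndex_right K R]
      congr 1
      exact le_antisymm (fun x hx => h.inf_le hx.1 hx.2) (le_inf h.LK h.LR)
    rw [e3, ← e1, ← hn, mul_comm q] at e2
    exact (Nat.eq_of_mul_eq_mul_left (he ▸ pow_pos (Fact.out : p.Prime).pos e) e2).symm
  obtain ⟨x, hx, hxQ⟩ := rel_conj' (p := p) (P := R) (Q := Q) (X := K ⊔ R) (sup_le h.KL h.RL) h.LR
    le_sup_right le_sup_left hQX hb (hidx ▸ h.pK)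
  obtain ⟨k₁, hk₁, r₁, hr₁, rfl⟩ := CfsgLib.Solvable.exists_mul_of_mem_sup h.RK hx
  -- a conjugating element inside `K`
  set y := r₁⁻¹ * (k₁ * r₁) with hy
  have hyK : y ∈ K := by
    have := (Subgroup.mem_normalizer_iff.mp ((Nz K).inv_mem (h.RK hr₁)) k₁).mp hk₁
    simpa [hy, mul_assoc] using this
  have hyR : y * u * y⁻¹ ∈ R := by
    have h1 := hxQ u (Subgroup.mem_sup_right (Subgroup.mem_zpowers u))
    have h2 := R.mul_mem (R.mul_mem (R.inv_mem hr₁) h1) hr₁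
    simpa [hy, mul_assoc] using h2
  set g' := y * g * y⁻¹ with hg'
  have hg'K : g' * s⁻¹ ∈ K := by
    have e1 : g' * s⁻¹ = y * k * (s * y⁻¹ * s⁻¹) := by rw [hg', hgdef]; group
    rw [e1]
    exact K.mul_mem (K.mul_mem hyK hk) ((Subgroup.mem_normalizer_iff.mp hsK _).mp (K.inv_mem hyK))
  have hpow : g' ^ a = y * u * y⁻¹ := by rw [hg', conj_pow]
  have hls : y * u * y⁻¹ * (s * l)⁻¹ ∈ L := by
    refine h.inf_le ?_ (R.mul_mem hyR (R.inv_mem (R.mul_mem hs (h.LR hl))))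
    have e1 : y * u * y⁻¹ * (s * l)⁻¹ = y * k' * ((s * l) * y⁻¹ * (s * l)⁻¹) := by
      rw [hu]; group
    rw [e1]
    exact K.mul_mem (K.mul_mem hyK hk') ((Subgroup.mem_normalizer_iff.mp
      ((Nz K).mul_mem hsK (h.RK (h.LR hl))) _).mp (K.inv_mem hyK))
  set c := g' * s⁻¹ with hc
  have hcC : c ∈ fixC L K R := by
    refine h.mem_fixC_of_gen hs hR hg'K ?_
    -- `g'` commutes with `g' ^ a ∈ L s`
    have hg'L : g' ∈ Nz L :=
      (Nz L).mul_mem ((Nz L).mul_mem (h.KL hyK) hgL) ((Nz L).inv_mem (h.KL hyK))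
    set w := y * u * y⁻¹ with hw
    have hcomm : w * g' = g' * w := by rw [← hpow]; exact (Commute.pow_self g' a).eq
    set l₁ := w * s⁻¹ with hl₁
    have hl₁L : l₁ ∈ L := by
      have h4 := L.mul_mem hls ((Subgroup.mem_normalizer_iff.mp (h.RL hs) l).mp hl)
      rw [hl₁]
      simpa [mul_assoc] using h4
    have e : s * c * s⁻¹ * c⁻¹ = l₁⁻¹ * (g' * l₁ * g'⁻¹) := by
      have : w * g' * w⁻¹ = g' := by rw [hcomm, mul_inv_cancel_right]
      calc s * c * s⁻¹ * c⁻¹ = l₁⁻¹ * (w * g' * w⁻¹) * l₁ * g'⁻¹ := by rw [hc, hl₁]; group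
        _ = _ := by rw [this]; group
    rw [e]
    exact L.mul_mem (L.inv_mem hl₁L) ((Subgroup.mem_normalizer_iff.mp hg'L l₁).mp hl₁L)
  refine ⟨y⁻¹, K.inv_mem hyK, c, hcC, ?_⟩
  rw [hc, hg']
  group

/-- The element of `C s` in a `K`-class is unique up to `C`. -/
theorem Setup.coset_unique (h : Setup p L K R ν) (hs : s ∈ R)
    (hR : R ≤ L ⊔ Subgroup.zpowers s) {g c c' : Γ} (hg : g ∈ K) (hc : c ∈ fixC L K R)
    (hc' : c' ∈ fixC L K R) (he : g * (c * s) * g⁻¹ = c' * s) : g ∈ fixC L K R := by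
  obtain ⟨a, ha, hqa, ha1⟩ := h.exists_exponent
  obtain ⟨l, hl, hla⟩ := h.pow_exponent hs ha ha1
  have key : ∀ d, d ∈ fixC L K R → ∃ l' ∈ L, (d * s) ^ a = l' * s := by
    intro d hd
    -- `(d s) ^ i ∈ L d ^ i s ^ i`
    have hind : ∀ i : ℕ, ∃ l' ∈ L, (d * s) ^ i = l' * (d ^ i * s ^ i) := by
      intro i
      induction i with
      | zero => exact ⟨1, L.one_mem, by simp⟩
      | succ i ih =>
        obtain ⟨l', hl', hl2⟩ := ih
        have h1 := (Subgroup.mem_normalizer_iff.mp (h.KL (K.pow_mem hd.1 i)) _).mp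
          (hd.2.2 (s ^ i) (R.pow_mem hs i))
        refine ⟨_, L.mul_mem hl' h1, ?_⟩
        rw [pow_succ, hl2, pow_succ d, pow_succ s]
        group
    obtain ⟨l', hl', hl2⟩ := hind a
    obtain ⟨t, ht⟩ := hqa
    have hd' : d ^ a ∈ L := by
      rw [ht, pow_mul]; exact L.pow_mem (pow_relIndex_mem h.KL hd.1) t
    refine ⟨l' * d ^ a * (s * l * s⁻¹), L.mul_mem (L.mul_mem hl' hd')
      ((Subgroup.mem_normalizer_iff.mp (h.RL hs) l).mp hl), ?_⟩
    rw [hl2, hla]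
    group
  obtain ⟨l₁, hl₁, h1⟩ := key c hc
  obtain ⟨l₂, hl₂, h2⟩ := key c' hc'
  rw [← he, conj_pow, h1] at h2
  refine h.mem_fixC_of_gen hs hR hg ?_
  have e : s * g * s⁻¹ * g⁻¹ = l₂⁻¹ * (g * l₁ * g⁻¹) := by
    calc s * g * s⁻¹ * g⁻¹ = l₂⁻¹ * (l₂ * s) * g * s⁻¹ * g⁻¹ := by group
      _ = _ := by rw [← h2]; group
  rw [e]
  exact L.mul_mem (L.inv_mem hl₂) ((Subgroup.mem_normalizer_iff.mp (h.KL hg) l₁).mp hl₁)

/-- Averaging an invariant function over `K s`. -/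
theorem Setup.card_sum_coset (h : Setup p L K R ν) (hs : s ∈ R)
    (hR : R ≤ L ⊔ Subgroup.zpowers s) (f : Γ → ℂ)
    (hf : ∀ g ∈ K, ∀ x, f (g * x * g⁻¹) = f x) :
    (Nat.card (fixC L K R) : ℂ) * ∑ k : K, f ((k : Γ) * s) =
      (Nat.card K : ℂ) * ∑ c : fixC L K R, f ((c : Γ) * s) := by
  have : DecidableEq K := Classical.decEq _
  set C := fixC L K R
  have hmem : ∀ x : K × C, (x.1 : Γ) * ((x.2 : Γ) * s) * (x.1 : Γ)⁻¹ * s⁻¹ ∈ K := fun x => by
    have e : (x.1 : Γ) * ((x.2 : Γ) * s) * (x.1 : Γ)⁻¹ * s⁻¹ =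
        (x.1 : Γ) * x.2 * (s * (x.1 : Γ)⁻¹ * s⁻¹) := by group
    rw [e]
    exact K.mul_mem (K.mul_mem x.1.2 x.2.2.1)
      ((Subgroup.mem_normalizer_iff.mp (h.RK hs) _).mp (K.inv_mem x.1.2))
  let Φ : K × C → K := fun x => ⟨_, hmem x⟩
  have hfib : ∀ k : K, (Finset.univ.filter fun x => Φ x = k).card = Nat.card C := by
    intro k
    obtain ⟨g₀, hg₀, c₀, hc₀, he⟩ := h.exists_conj_coset hs hR k.2
    rw [← Fintype.card_subtype, ← Nat.card_eq_fintype_card]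
    have hsc : ∀ d ∈ C, s * d * s⁻¹ ∈ C :=
      fun d hd => (Subgroup.mem_normalizer_iff.mp (h.nz_fixC hs) d).mp hd
    refine (Nat.card_eq_of_bijective (fun d : C =>
      (⟨(⟨g₀ * d, K.mul_mem hg₀ d.2.1⟩,
        ⟨(d : Γ)⁻¹ * c₀ * (s * d * s⁻¹),
          C.mul_mem (C.mul_mem (C.inv_mem d.2) hc₀) (hsc d d.2)⟩), Subtype.ext ?_⟩ :
        {x : K × C // Φ x = k})) ⟨?_, ?_⟩).symm
    · show g₀ * d * ((d : Γ)⁻¹ * c₀ * (s * d * s⁻¹) * s) * (g₀ * d)⁻¹ * s⁻¹ = k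
      rw [eq_mul_inv_of_mul_eq he.symm]
      group
    · intro d d' hdd
      have := congrArg (fun x : {x : K × C // Φ x = k} => ((x.1.1 : K) : Γ)) hdd
      exact Subtype.ext (mul_left_cancel this)
    · rintro ⟨⟨g, c⟩, hgc⟩
      have h1 : (g : Γ) * ((c : Γ) * s) * (g : Γ)⁻¹ * s⁻¹ = k := congrArg Subtype.val hgc
      have h2 : (g : Γ) * ((c : Γ) * s) * (g : Γ)⁻¹ = g₀ * (c₀ * s) * g₀⁻¹ := by
        rw [he, ← h1, inv_mul_cancel_right]
      have hd : g₀⁻¹ * (g : Γ) ∈ C := by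
        refine h.coset_unique hs hR (K.mul_mem (K.inv_mem hg₀) g.2) c.2 hc₀ ?_
        rw [mul_inv_rev, inv_inv]
        calc g₀⁻¹ * g * (c * s) * ((g : Γ)⁻¹ * g₀) = g₀⁻¹ * (g * (c * s) * (g : Γ)⁻¹) * g₀ := by
              group
          _ = c₀ * s := by rw [h2]; group
      refine ⟨⟨_, hd⟩, Subtype.ext (Prod.ext (Subtype.ext ?_) (Subtype.ext ?_))⟩
      · show g₀ * (g₀⁻¹ * (g : Γ)) = g
        group
      · show (g₀⁻¹ * (g : Γ))⁻¹ * c₀ * (s * (g₀⁻¹ * (g : Γ)) * s⁻¹) = c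
        calc (g₀⁻¹ * (g : Γ))⁻¹ * c₀ * (s * (g₀⁻¹ * (g : Γ)) * s⁻¹)
            = (g : Γ)⁻¹ * (g₀ * (c₀ * s) * g₀⁻¹) * g * s⁻¹ := by group
          _ = c := by rw [← h2]; group
  have h1 : ∑ x : K × C, f (((Φ x : K) : Γ) * s) =
      (Nat.card K : ℂ) * ∑ c : C, f ((c : Γ) * s) := by
    have e1 : ∀ (g : K) (c : C), f (((Φ (g, c) : K) : Γ) * s) = f ((c : Γ) * s) := fun g c => by
      show f ((g : Γ) * ((c : Γ) * s) * (g : Γ)⁻¹ * s⁻¹ * s) = f ((c : Γ) * s)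
      rw [inv_mul_cancel_right, hf _ g.2]
    rw [Fintype.sum_prod_type]
    simp only [e1, Finset.sum_const, Finset.card_univ, ← Nat.card_eq_fintype_card, nsmul_eq_mul]
  refine Eq.trans ?_ h1
  rw [← Finset.sum_fiberwise Finset.univ Φ, Finset.mul_sum]
  refine Finset.sum_congr rfl fun k _ => ?_
  rw [Finset.sum_congr rfl fun x hx => by rw [(Finset.mem_filter.mp hx).2], Finset.sum_const, hfib,
    nsmul_eq_mul]

/-! ### Orthogonality and vanishing on cosets -/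

variable {X : Subgroup Γ}

theorem sum_sub_eq (hle : K ≤ X) (F : Γ → ℂ) :
    ∑ n : K.subgroupOf X, F ((n : X) : Γ) = ∑ k : K, F k :=
  Fintype.sum_equiv (Subgroup.subgroupOfEquivOfLe hle).toEquiv _ _ fun _ => rfl

theorem z_coset_comm (hle : K ≤ X) (χ : Ch X) (k : K) (g : Γ) :
    z χ ((k : Γ) * g) = z χ (g * (k : Γ)) := by
  have := z_conj_self χ (hle k.2) (g * (k : Γ))
  simpa [mul_assoc] using this

/-- An extension has norm `|K|` on a coset. -/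
theorem IsExt.sum_coset_self {θ : Ch K} {η : Ch X} (h : IsExt θ η) {g : Γ} (hg : g ∈ X) :
    ∑ k : K, z η ((k : Γ) * g) * conj (z η ((k : Γ) * g)) = (Nat.card K : ℂ) := by
  have h1 := sum_normSq_coset (K.subgroupOf X) (isCharacter_of_isIrr η.2) h.isIrr ⟨g, hg⟩
  rw [Nat.card_congr (Subgroup.subgroupOfEquivOfLe h.1).toEquiv] at h1
  rw [← h1]
  simp only [← z_coe η, z_coset_comm h.1 η]
  exact (sum_sub_eq h.1 fun x => z η (g * x) * conj (z η (g * x))).symm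

/-- Extensions of different characters are orthogonal on a coset. -/
theorem sum_coset_ne (hN : X ≤ Nz K) (hab : ∀ a ∈ X, ∀ b ∈ X, a * b * a⁻¹ * b⁻¹ ∈ K)
    {θ θ' : Ch K} {η η' : Ch X} (h : IsExt θ η) (h' : IsExt θ' η') (hne : θ ≠ θ') {g : Γ}
    (hg : g ∈ X) : ∑ k : K, z η ((k : Γ) * g) * conj (z η' ((k : Γ) * g)) = 0 := by
  have := normal_sub hN
  have h1 := CyclicGlauberman.sum_coset_eq_zero (N := K.subgroupOf X) (fun a b => by
      induction a using QuotientGroup.induction_on with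
      | _ a =>
      induction b using QuotientGroup.induction_on with
      | _ b =>
      rw [← QuotientGroup.mk_mul, ← QuotientGroup.mk_mul, QuotientGroup.eq_iff_div_mem,
        Subgroup.mem_subgroupOf]
      simpa [div_eq_mul_inv, mul_assoc] using hab a a.2 b b.2) (isCharacter_of_isIrr η.2) h.isIrr
    η'.2 (fun he => hne (Ch_ext fun x hx => by
      have h2 := congrFun he ⟨⟨x, h.1 hx⟩, Subgroup.mem_subgroupOf.mpr hx⟩
      simp only [← z_coe] at h2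
      rwa [h.2 x hx, h'.2 x hx] at h2)) ⟨g, hg⟩
  simp only [z_coset_comm h.1 η, z_coset_comm h'.1 η']
  rw [← h1]
  simp only [← z_coe η, ← z_coe η']
  exact (sum_sub_eq h.1 fun x => z η (g * x) * conj (z η' (g * x))).symm

/-- A character vanishes off the inertia group of a constituent when that group is normal with
abelian quotient. -/
theorem vanish_off_stb (hle : K ≤ X) (hN : X ≤ Nz K)
    (hab : ∀ a ∈ X, ∀ b ∈ X, a * b * a⁻¹ * b⁻¹ ∈ K) {χ : Ch X} {θ : Ch K} (hm : m χ θ ≠ 0)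
    {g : Γ} (hg : g ∈ X) (hns : g ∉ stb X θ) : z χ g = 0 := by
  have := normal_sub hN
  set T := (stb X θ).subgroupOf X with hT
  have hTmem : ∀ x : X, x ∈ T ↔ conjFun (K.subgroupOf X) x (sub hle θ : K.subgroupOf X → ℂ) =
      (sub hle θ : K.subgroupOf X → ℂ) := by
    intro x
    rw [hT, Subgroup.mem_subgroupOf, mem_stb hN, conjFun_sub hle hN]
    constructor
    · intro hx; rw [cj_inv_eq (hN x.2) hx.2]
    · intro hx
      refine ⟨x.2, ?_⟩
      have h1 := sub_injective hle (Subtype.ext hx)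
      have h2 := cj_inv_eq ((Nz K).inv_mem (hN x.2)) h1
      rwa [inv_inv] at h2
  have hKT : K.subgroupOf X ≤ T := fun x hx => Subgroup.mem_subgroupOf.mpr
    ((mem_stb hN).mpr ⟨x.2, cj_of_mem (Subgroup.mem_subgroupOf.mp hx) θ⟩)
  obtain ⟨ψ, -, hind, -⟩ := clifford_correspondence (K.subgroupOf X) (sub hle θ).2 T hTmem hKT χ.2
    (by rw [classInner_res_sub]; exact Nat.cast_ne_zero.mpr hm)
  rw [z_of_mem χ hg, ← hind]
  refine indFun_eq_zero_of_forall _ fun x hx => absurd hx fun hx' => hns ?_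
  have h1 : ((x : Γ)⁻¹ * g * x) ∈ stb X θ := hx'
  have h2 : g * (x : Γ) * g⁻¹ * (x : Γ)⁻¹ ∈ stb X θ := (mem_stb hN).mpr
    ⟨hle (hab g hg x x.2), cj_of_mem (hab g hg x x.2) θ⟩
  have h3 : (x : Γ)⁻¹ * g * x * g⁻¹ ∈ stb X θ := (mem_stb hN).mpr
    ⟨hle (by simpa using hab _ (X.inv_mem x.2) g hg),
      cj_of_mem (by simpa using hab _ (X.inv_mem x.2) g hg) θ⟩
  have h4 := (stb X θ).mul_mem ((stb X θ).inv_mem h3) h1
  simpa [mul_assoc] using h4

end CfsgLib.CharBlocks.RelMcKay
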