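import Cfsg.Agent.Lib.CharBlocks.RelMcKay.Mid
import Cfsg.Agent.Lib.CharNormal.CongrP

/-!
# Counting the characters over an invariant character by good classes

`card_over_mul`: for `Y = X W` and a `Y`-invariant `θ ∈ Irr X`, the number of characters of `Y` over
`θ` is determined by the pairs of elements of `W` commuting modulo `X` whose second entry is good.
-/

set_option autoImplicit false
set_option linter.unusedSectionVars false
set_option linter.unusedVariables false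

noncomputable section

namespace CfsgLib.CharBlocks.RelMcKay

open CfsgLib.Char CfsgLib.CharNormal
open scoped ComplexConjugate

attribute [local instance] Fintype.ofFinite
attribute [local instance high] subFintype

variable {Γ : Type*} [Group Γ] [Finite Γ] {X X' Y W : Subgroup Γ}

/-- An extension of `θ` to `X⟨w⟩` is fixed by `v`. -/
def Good (θ : Ch X) (v w : Γ) : Prop :=
  ∃ η : Ch (X ⊔ Subgroup.zpowers w), IsExt θ η ∧ cj v η = η

theorem z_inv {H : Subgroup Γ} (χ : Ch H) (x : Γ) : z χ x⁻¹ = conj (z χ x) := by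
  by_cases hx : x ∈ H
  · rw [z_of_mem χ hx, z_of_mem χ (H.inv_mem hx), ← char_inv (isCharacter_of_isIrr χ.2)]
    rfl
  · rw [z_of_notMem χ hx, z_of_notMem χ fun h => hx (by simpa using H.inv_mem h), map_zero]

/-- Averaging a value over a class. -/
theorem sum_class_avg (η : Ch X') {y u : Γ} (hy : y ∈ X') (hu : u ∈ X') :
    (dg η : ℂ) * ∑ a : X', z η (u * ((a : Γ) * y * (a : Γ)⁻¹)) =
      (Nat.card X' : ℂ) * (z η y * z η u) := by
  classical
  let f : X' → ℂ := fun x => ∑ a : X', if a * ⟨y, hy⟩ * a⁻¹ = x then 1 else 0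
  have hf : Cfsg.IsClassFunction X' f := fun g t => by
    refine Fintype.sum_equiv (Equiv.mulLeft t⁻¹) _ _ fun a => if_congr ?_ rfl rfl
    simp only [Equiv.coe_mulLeft, mul_inv_rev, inv_inv, mul_assoc]
    rw [inv_mul_eq_iff_eq_mul]
    constructor
    · intro h; rw [← mul_inv_eq_iff_eq_mul] at *; simpa [mul_assoc] using h
    · intro h; rw [← mul_inv_eq_iff_eq_mul] at *; simpa [mul_assoc] using h
  have h1 := sum_classFun_mul_apply_mul η.2 hf ⟨u, hu⟩
  have e : ∀ F : X' → ℂ, ∑ g : X', f g * F g = ∑ a : X', F (a * ⟨y, hy⟩ * a⁻¹) := fun F => by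
    simp only [f, Finset.sum_mul]
    rw [Finset.sum_comm]
    exact Finset.sum_congr rfl fun a _ => by simp
  rw [e, e (η : X' → ℂ), show ∑ a : X', (η : X' → ℂ) (a * ⟨y, hy⟩ * a⁻¹) =
    (Nat.card X' : ℂ) * z η y from by
      rw [Finset.sum_congr rfl fun a _ => (isClassFunction_of_isIrr η.2) ⟨y, hy⟩ a,
        Finset.sum_const, Finset.card_univ, ← Nat.card_eq_fintype_card, nsmul_eq_mul,
        z_of_mem η hy], apply_one_eq] at h1
  have h0 : (dg η : ℂ) ≠ 0 := Nat.cast_ne_zero.mpr (dg_pos η).ne'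
  rw [show ∑ a : X', z η (u * ((a : Γ) * y * (a : Γ)⁻¹)) =
      ∑ a : X', (η : X' → ℂ) (⟨u, hu⟩ * (a * ⟨y, hy⟩ * a⁻¹)) from
    Finset.sum_congr rfl fun a _ => z_coe η (⟨u, hu⟩ * (a * ⟨y, hy⟩ * a⁻¹)), h1, ← z_of_mem η hu]
  field_simp

/-- Sums over `X⟨y⟩` of functions invariant under right translation by `y`. -/
theorem sum_cyclic_top (hX : X' ≤ Nz X) (hle : X ≤ X') {y : Γ} (hy : y ∈ X')
    (hgen : X' ≤ X ⊔ Subgroup.zpowers y) (F : Γ → ℂ) (hF : ∀ a, F (a * y) = F a) :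
    (Nat.card X : ℂ) * ∑ a : X', F a = (Nat.card X' : ℂ) * ∑ b : X, F b := by
  classical
  have hFz : ∀ (a : Γ) (i : ℤ), F (a * y ^ i) = F a := by
    intro a i
    induction i using Int.induction_on with
    | zero => simp
    | succ i ih => rw [zpow_add_one, ← mul_assoc, hF, ih]
    | pred i ih =>
      rw [← hF (a * y ^ (-(i : ℤ) - 1)), mul_assoc, ← zpow_add_one, sub_add_cancel, ih]
  have key : ∀ a : X', ∑ b : X, F ((a : Γ) * b) = ∑ b : X, F b := by
    intro a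
    obtain ⟨x, hx, r, hr, hxr⟩ := CfsgLib.Solvable.exists_mul_of_mem_sup
      (Subgroup.zpowers_le.mpr (hX hy)) (hgen a.2)
    obtain ⟨i, rfl⟩ := Subgroup.mem_zpowers_iff.mp hr
    have hyi : y ^ i ∈ Nz X := (Nz X).zpow_mem (hX hy) i
    refine Fintype.sum_equiv (((cjEquiv (y ^ i) hyi).symm.toEquiv).trans
      (Equiv.mulLeft (⟨x, hx⟩ : X))) _ _ fun b => ?_
    show F ((a : Γ) * b) = F (x * (y ^ i * b * (y ^ i)⁻¹))
    rw [hxr, ← hFz (x * (y ^ i * b * (y ^ i)⁻¹)) i]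
    congr 1
    group
  have h1 : ∑ a : X', ∑ b : X, F ((a : Γ) * b) = (Nat.card X : ℂ) * ∑ a : X', F a := by
    rw [Finset.sum_comm, Finset.sum_congr rfl fun (b : X) _ => Fintype.sum_equiv
      (Equiv.mulRight (⟨b, hle b.2⟩ : X')) (fun a : X' => F ((a : Γ) * b)) (fun a : X' => F a)
      fun a => rfl, Finset.sum_const, Finset.card_univ, ← Nat.card_eq_fintype_card, nsmul_eq_mul]
  rw [← h1, Finset.sum_congr rfl fun a _ => key a, Finset.sum_const, Finset.card_univ,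
    ← Nat.card_eq_fintype_card, nsmul_eq_mul]

theorem card_over_sum (hXY : X ≤ Y) (hN : Y ≤ Nz X) {θ : Ch X} (hfix : Fix Y θ) :
    (Nat.card X : ℂ) * (Nat.card Y : ℂ) * (Nat.card {χ : Ch Y // m χ θ ≠ 0} : ℂ) =
      ∑ y : Y, (dg θ : ℂ) * ∑ g : Y, z θ ((g : Γ) * y * (g : Γ)⁻¹ * (y : Γ)⁻¹) := by
  classical
  let f : Y → ℂ := fun x => conj (z θ (x : Γ))
  have hf : Cfsg.IsClassFunction Y f := fun g t => by
    show conj (z θ ((t : Γ) * g * (t : Γ)⁻¹)) = conj (z θ (g : Γ))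
    rw [hfix.apply hN t.2]
  have hproj : ∀ (χ : Ch Y) (y : Y), (dg θ : ℂ) * ∑ g : Y, f g * (χ : Y → ℂ) (y * g) =
      if m χ θ ≠ 0 then (Nat.card X : ℂ) * (χ : Y → ℂ) y else 0 := by
    intro χ y
    rw [sum_classFun_mul_apply_mul χ.2 hf y]
    have e : ∑ g : Y, f g * (χ : Y → ℂ) g = (m χ θ : ℂ) * (Nat.card X : ℂ) := by
      rw [m_sum hXY]
      have e2 : ∀ g : Y, f g * (χ : Y → ℂ) g = if (g : Γ) ∈ X then z χ g * conj (z θ g) else 0 := by
        intro g
        split_ifs with hg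
        · rw [z_coe χ]; exact mul_comm _ _
        · show conj (z θ (g : Γ)) * _ = 0
          rw [z_of_notMem θ hg, map_zero, zero_mul]
      rw [Finset.sum_congr rfl fun g _ => e2 g, ← Finset.sum_filter]
      refine Finset.sum_bij (fun g hg => (⟨(g : Γ), (Finset.mem_filter.mp hg).2⟩ : X))
        (fun _ _ => Finset.mem_univ _)
        (fun a _ b _ hab => Subtype.ext (congrArg Subtype.val hab :))
        (fun b _ => ⟨⟨b, hXY b.2⟩, Finset.mem_filter.mpr ⟨Finset.mem_univ _, b.2⟩, rfl⟩)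
        fun _ _ => rfl
    rw [e, apply_one_eq]
    split_ifs with h0
    · have h1 : (m χ θ : ℂ) ≠ 0 := Nat.cast_ne_zero.mpr h0
      have h2 : (dg θ : ℂ) ≠ 0 := Nat.cast_ne_zero.mpr (dg_pos θ).ne'
      rw [dg_eq_of_fix hXY hN hfix h0, Nat.cast_mul]
      field_simp
    · rw [not_ne_iff.mp h0]
      simp
  have hL : ∑ χ : Ch Y, ∑ y : Y,
      (if m χ θ ≠ 0 then (Nat.card X : ℂ) * (χ : Y → ℂ) y else 0) * conj ((χ : Y → ℂ) y) =
      (Nat.card X : ℂ) * (Nat.card Y : ℂ) * (Nat.card {χ : Ch Y // m χ θ ≠ 0} : ℂ) := by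
    rw [Nat.card_eq_fintype_card (α := {χ : Ch Y // m χ θ ≠ 0}), Fintype.card_subtype,
      Finset.card_filter, Nat.cast_sum, Finset.mul_sum]
    refine Finset.sum_congr rfl fun χ _ => ?_
    split_ifs with h0
    · rw [Nat.cast_one, mul_one]
      simp only [mul_assoc, ← Finset.mul_sum]
      have h2 := classInner_irr_self χ.2
      rw [classInner_def] at h2
      field_simp at h2
      rw [h2]
    · simp
  have hR : (dg θ : ℂ) * ∑ y : Y, ∑ g : Y, f g *
      ∑ χ : Ch Y, (χ : Y → ℂ) (y * g) * conj ((χ : Y → ℂ) y) =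
      (Nat.card X : ℂ) * (Nat.card Y : ℂ) * (Nat.card {χ : Ch Y // m χ θ ≠ 0} : ℂ) := by
    rw [← hL, Finset.sum_comm (γ := Ch Y), Finset.mul_sum]
    refine Finset.sum_congr rfl fun y _ => ?_
    simp only [← hproj _ y]
    simp only [Finset.mul_sum, Finset.sum_mul]
    rw [Finset.sum_comm]
    exact Finset.sum_congr rfl fun g _ => Finset.sum_congr rfl fun χ _ => by ring
  have hkey : ∀ y : Y, ∑ g : Y, f g * ∑ χ : Ch Y, (χ : Y → ℂ) (y * g) * conj ((χ : Y → ℂ) y) =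
      conj (∑ g : Y, z θ ((g : Γ) * y * (g : Γ)⁻¹ * (y : Γ)⁻¹)) := by
    intro y
    simp only [sum_irr_mul_conj_eq_card, Finset.mul_sum]
    rw [Finset.sum_comm, map_sum]
    refine Fintype.sum_equiv (Equiv.inv Y) _ _ fun x => ?_
    rw [Finset.sum_eq_single (y⁻¹ * x⁻¹ * y * x)]
    · rw [if_pos (by group), mul_one]
      show conj (z θ ((y : Γ)⁻¹ * (x : Γ)⁻¹ * y * x)) =
        conj (z θ ((x : Γ)⁻¹ * y * (x : Γ)⁻¹⁻¹ * (y : Γ)⁻¹))
      conv_lhs => rw [← hfix.apply hN y.2]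
      congr 2
      group
    · intro g _ hg
      rw [if_neg fun h => hg ?_, mul_zero]
      rw [mul_inv_eq_iff_eq_mul] at h
      calc g = y⁻¹ * x⁻¹ * (x * (y * g)) := by group
        _ = y⁻¹ * x⁻¹ * y * x := by rw [h]; group
    · simp
  rw [Finset.sum_congr rfl fun y _ => hkey y, ← map_sum] at hR
  have h3 := congrArg conj hR
  simp only [map_mul, Complex.conj_conj, map_natCast] at h3
  rw [← h3, Finset.mul_sum]

theorem term_eq (hXY : X ≤ Y) (hN : Y ≤ Nz X) {θ : Ch X} {η : Ch X'} (hη : IsExt θ η)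
    (hX'N : X' ≤ Nz X) {y : Γ} (hyY : y ∈ Y) (hy : y ∈ X') (hgen : X' ≤ X ⊔ Subgroup.zpowers y)
    [DecidablePred fun g : Y => (g : Γ) * y * (g : Γ)⁻¹ * y⁻¹ ∈ X] :
    (dg θ : ℂ) * ∑ g : Y, z θ ((g : Γ) * y * (g : Γ)⁻¹ * y⁻¹) =
      ∑ g ∈ Finset.univ.filter (fun g : Y => (g : Γ) * y * (g : Γ)⁻¹ * y⁻¹ ∈ X),
        z η ((g : Γ) * y * (g : Γ)⁻¹) * conj (z η y) := by
  classical
  have hXc : (Nat.card X : ℂ) ≠ 0 := Nat.cast_ne_zero.mpr Nat.card_pos.ne'
  refine mul_left_cancel₀ hXc ?_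
  have htr : (Nat.card X : ℂ) * ∑ g : Y, z θ ((g : Γ) * y * (g : Γ)⁻¹ * y⁻¹) =
      ∑ g : Y, ∑ a : X, z θ ((g : Γ) * a * y * ((g : Γ) * a)⁻¹ * y⁻¹) := by
    rw [Finset.sum_comm, Finset.sum_congr rfl fun (a : X) _ => Fintype.sum_equiv
      (Equiv.mulRight (⟨a, hXY a.2⟩ : Y))
      (fun g : Y => z θ ((g : Γ) * a * y * ((g : Γ) * a)⁻¹ * y⁻¹))
      (fun g : Y => z θ ((g : Γ) * y * (g : Γ)⁻¹ * y⁻¹)) fun g => rfl,
      Finset.sum_const, Finset.card_univ, ← Nat.card_eq_fintype_card, nsmul_eq_mul]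
  rw [mul_left_comm, htr, Finset.mul_sum, Finset.sum_filter, Finset.mul_sum]
  refine Finset.sum_congr rfl fun g _ => ?_
  have hgX : ∀ a : X, ((g : Γ) * a * y * ((g : Γ) * a)⁻¹ * y⁻¹ ∈ X ↔
      (g : Γ) * y * (g : Γ)⁻¹ * y⁻¹ ∈ X) := by
    intro a
    have e : (g : Γ) * a * y * ((g : Γ) * a)⁻¹ * y⁻¹ =
        ((g : Γ) * ((a : Γ) * (y * (a : Γ)⁻¹ * y⁻¹)) * (g : Γ)⁻¹) *
          ((g : Γ) * y * (g : Γ)⁻¹ * y⁻¹) := by group
    have h1 : (a : Γ) * (y * (a : Γ)⁻¹ * y⁻¹) ∈ X :=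
      X.mul_mem a.2 ((Subgroup.mem_normalizer_iff.mp (hN hyY) _).mp (X.inv_mem a.2))
    rw [e, Subgroup.mul_mem_cancel_left _ ((Subgroup.mem_normalizer_iff.mp (hN g.2) _).mp h1)]
  split_ifs with hg
  · -- the twisted extension
    have hgy : (g : Γ) * y * (g : Γ)⁻¹ ∈ X' := by
      have := X'.mul_mem (hη.1 hg) hy
      rwa [inv_mul_cancel_right] at this
    have hgN : (g : Γ) ∈ Nz X' := by
      have key : X' ≤ X'.comap (MulAut.conj (g : Γ)).toMonoidHom := fun x hx => by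
        refine (sup_le ?_ ?_ : X ⊔ Subgroup.zpowers y ≤ X'.comap (MulAut.conj (g : Γ)).toMonoidHom)
          (hgen hx)
        · exact fun a ha => hη.1 ((Subgroup.mem_normalizer_iff.mp (hN g.2) a).mp ha)
        · exact Subgroup.zpowers_le.mpr hgy
      have hcard : X'.map (MulAut.conj (g : Γ)).toMonoidHom = X' :=
        Subgroup.eq_of_le_of_card_ge (Subgroup.map_le_iff_le_comap.mpr key) (by
          rw [Subgroup.card_map_of_injective (MulAut.conj (g : Γ)).injective])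
      rw [Subgroup.mem_normalizer_iff]
      refine fun x => ⟨fun hx => key hx, fun hx => ?_⟩
      rw [← hcard] at hx
      obtain ⟨x', hx', he⟩ := hx
      obtain rfl : x' = x := (MulAut.conj (g : Γ)).injective he
      exact hx'
    set η' := cj (g : Γ)⁻¹ η with hη'
    have hval : ∀ x, z η' x = z η ((g : Γ) * x * (g : Γ)⁻¹) := fun x => by
      rw [hη', z_cj ((Nz X').inv_mem hgN), inv_inv]
    set u := (g : Γ)⁻¹ * y⁻¹ * g with hu
    have huX : u ∈ X' := by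
      simpa [hu] using
        (Subgroup.mem_normalizer_iff.mp ((Nz X').inv_mem hgN) _).mp (X'.inv_mem hy)
    have h1 := sum_class_avg η' hy huX
    have h2 := sum_cyclic_top hX'N hη.1 hy hgen
      (fun a => z η' (u * (a * y * a⁻¹))) fun a => congrArg (z η') (by group)
    rw [dg_cj ((Nz X').inv_mem hgN), hη.dg_eq] at h1
    have hX'c : (Nat.card X' : ℂ) ≠ 0 := Nat.cast_ne_zero.mpr Nat.card_pos.ne'
    have h3 : (dg θ : ℂ) * ∑ a : X, z η' (u * ((a : Γ) * y * (a : Γ)⁻¹)) =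
        (Nat.card X : ℂ) * (z η' y * z η' u) := by
      refine mul_left_cancel₀ hX'c ?_
      rw [← mul_assoc, mul_comm (Nat.card X' : ℂ), mul_assoc, ← h2, mul_left_comm, h1]
      ring
    have e : ∀ a : X, z θ ((g : Γ) * a * y * ((g : Γ) * a)⁻¹ * y⁻¹) =
        z η' (u * ((a : Γ) * y * (a : Γ)⁻¹)) := by
      intro a
      rw [← hη.2 _ ((hgX a).mpr hg), ← z_conj_self η (X'.inv_mem hy), hval]
      congr 1
      rw [hu]; group
    rw [Finset.sum_congr rfl fun a _ => e a, h3, hval, hval]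
    have e2 : (g : Γ) * u * (g : Γ)⁻¹ = y⁻¹ := by rw [hu]; group
    rw [e2, z_inv]
  · rw [Finset.sum_eq_zero fun a _ => z_of_notMem θ fun h => hg ((hgX a).mp h), mul_zero, mul_zero]

theorem sum_prod_fibre (hN : Y ≤ Nz X) (hXY : X ≤ Y) (hWY : W ≤ Y) (hY : Y ≤ X ⊔ W) (F : Γ → ℂ) :
    (Nat.card ↥(X ⊓ W) : ℂ) * ∑ y : Y, F y = ∑ w : W, ∑ x : X, F ((x : Γ) * w) := by
  classical
  let Φ : W × X → Y := fun q => ⟨(q.2 : Γ) * q.1, Y.mul_mem (hXY q.2.2) (hWY q.1.2)⟩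
  have hfib : ∀ y : Y, (Finset.univ.filter fun q => Φ q = y).card = Nat.card ↥(X ⊓ W) := by
    intro y
    obtain ⟨x₀, hx₀, w₀, hw₀, he⟩ :=
      CfsgLib.Solvable.exists_mul_of_mem_sup (hWY.trans hN) (hY y.2)
    rw [← Fintype.card_subtype, ← Nat.card_eq_fintype_card]
    refine (Nat.card_eq_of_bijective (fun d : ↥(X ⊓ W) =>
      (⟨(⟨(d : Γ) * w₀, W.mul_mem d.2.2 hw₀⟩, ⟨x₀ * (d : Γ)⁻¹, X.mul_mem hx₀ (X.inv_mem d.2.1)⟩),
        Subtype.ext (by show x₀ * (d : Γ)⁻¹ * ((d : Γ) * w₀) = y; rw [he]; group)⟩ :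
        {q : W × X // Φ q = y})) ⟨?_, ?_⟩).symm
    · intro d d' h
      have h1 := congrArg (fun q : {q : W × X // Φ q = y} => ((q.1.1 : W) : Γ)) h
      exact Subtype.ext (mul_right_cancel h1)
    · rintro ⟨⟨w, x⟩, hq⟩
      have h1 : (x : Γ) * w = x₀ * w₀ := (congrArg Subtype.val hq).trans he
      have hd : (w : Γ) * w₀⁻¹ ∈ X := by
        have : (w : Γ) * w₀⁻¹ = (x : Γ)⁻¹ * x₀ := by
          calc (w : Γ) * w₀⁻¹ = (x : Γ)⁻¹ * ((x : Γ) * w) * w₀⁻¹ := by group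
            _ = _ := by rw [h1]; group
        rw [this]
        exact X.mul_mem (X.inv_mem x.2) hx₀
      refine ⟨⟨_, hd, W.mul_mem w.2 (W.inv_mem hw₀)⟩,
        Subtype.ext (Prod.ext (Subtype.ext ?_) (Subtype.ext ?_))⟩
      · show (w : Γ) * w₀⁻¹ * w₀ = w
        group
      · show x₀ * ((w : Γ) * w₀⁻¹)⁻¹ = x
        calc x₀ * ((w : Γ) * w₀⁻¹)⁻¹ = x₀ * w₀ * (w : Γ)⁻¹ := by group
          _ = x := by rw [← h1]; group
  rw [← Fintype.sum_prod_type (f := fun q : W × X => F ((q.2 : Γ) * q.1)),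
    ← Finset.sum_fiberwise Finset.univ Φ, Finset.mul_sum]
  refine Finset.sum_congr rfl fun y _ => ?_
  rw [Finset.sum_congr rfl fun q hq => show F ((q.2 : Γ) * q.1) = F y from
      congrArg F (congrArg Subtype.val (Finset.mem_filter.mp hq).2),
    Finset.sum_const, hfib, nsmul_eq_mul]

/-- The element `w` is good in `W`. -/
def GoodIn (θ : Ch X) (W : Subgroup Γ) (w : Γ) : Prop :=
  ∀ u ∈ W, u * w * u⁻¹ * w⁻¹ ∈ X → Good θ u w

theorem card_over_mul (hXY : X ≤ Y) (hN : Y ≤ Nz X) {θ : Ch X} (hfix : Fix Y θ) (hWY : W ≤ Y)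
    (hY : Y ≤ X ⊔ W) :
    Nat.card {χ : Ch Y // m χ θ ≠ 0} * Nat.card W * Nat.card ↥(X ⊓ W) =
      Nat.card {q : W × W // (q.1 : Γ) * q.2 * (q.1 : Γ)⁻¹ * (q.2 : Γ)⁻¹ ∈ X ∧
        GoodIn θ W q.2} := by
  classical
  set d := (Nat.card ↥(X ⊓ W) : ℂ) with hd
  let cent : Γ → ℂ := fun w =>
    ((Finset.univ.filter fun g : Y => (g : Γ) * w * (g : Γ)⁻¹ * w⁻¹ ∈ X).card : ℂ)
  have hcomm : ∀ (x : Γ), x ∈ X → ∀ (v w : Γ), v ∈ Y → w ∈ Y →
      (x * v * w * (x * v)⁻¹ * w⁻¹ ∈ X ↔ v * w * v⁻¹ * w⁻¹ ∈ X) := by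
    intro x hx v w hv hw
    have e : x * v * w * (x * v)⁻¹ * w⁻¹ =
        (x * (v * w * v⁻¹ * w⁻¹) * x⁻¹) * (x * (w * x⁻¹ * w⁻¹)) := by group
    rw [e, Subgroup.mul_mem_cancel_right _ (X.mul_mem hx
      ((Subgroup.mem_normalizer_iff.mp (hN hw) _).mp (X.inv_mem hx)))]
    exact (Subgroup.mem_normalizer_iff.mp (Subgroup.le_normalizer hx) _).symm
  have hcent : ∀ w : W, d * cent w = (Nat.card X : ℂ) *
      ((Finset.univ.filter fun v : W => (v : Γ) * w * (v : Γ)⁻¹ * (w : Γ)⁻¹ ∈ X).card : ℂ) := by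
    intro w
    simp only [cent, Finset.card_filter, Nat.cast_sum, hd]
    rw [sum_prod_fibre hN hXY hWY hY fun g : Γ =>
      ((if g * w * g⁻¹ * (w : Γ)⁻¹ ∈ X then 1 else 0 : ℕ) : ℂ), Finset.mul_sum]
    refine Finset.sum_congr rfl fun v _ => ?_
    rw [Finset.sum_congr rfl fun x _ => by
      rw [if_congr (hcomm x x.2 v w (hWY v.2) (hWY w.2)) rfl rfl],
      Finset.sum_const, Finset.card_univ, ← Nat.card_eq_fintype_card, nsmul_eq_mul]
  have hmain : ∀ w : W, ∑ x : X, (dg θ : ℂ) *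
      ∑ g : Y, z θ ((g : Γ) * ((x : Γ) * w) * (g : Γ)⁻¹ * ((x : Γ) * w)⁻¹) =
        if GoodIn θ W w then cent w * (Nat.card X : ℂ) else 0 := by
    intro w
    set X' := X ⊔ Subgroup.zpowers (w : Γ)
    have hwY : (w : Γ) ∈ Y := hWY w.2
    have hX'N : X' ≤ Nz X := sup_le Subgroup.le_normalizer (Subgroup.zpowers_le.mpr (hN hwY))
    have hwX' : (w : Γ) ∈ X' := Subgroup.mem_sup_right (Subgroup.mem_zpowers _)
    obtain ⟨η, hη⟩ := exists_ext_cyclic (le_sup_left : X ≤ X') hX'N hwX' le_rfl θ (hfix _ hwY)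
    have hyX' : ∀ x : X, (x : Γ) * w ∈ X' := fun x => X'.mul_mem (Subgroup.mem_sup_left x.2) hwX'
    have hgen : ∀ x : X, X' ≤ X ⊔ Subgroup.zpowers ((x : Γ) * w) := fun x =>
      sup_le le_sup_left (Subgroup.zpowers_le.mpr (by
        have h1 := Subgroup.mul_mem (X ⊔ Subgroup.zpowers ((x : Γ) * w))
          (Subgroup.mem_sup_left (X.inv_mem x.2))
          (Subgroup.mem_sup_right (Subgroup.mem_zpowers ((x : Γ) * w)))
        rwa [inv_mul_cancel_left] at h1))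
    have hcx : ∀ (x : X) (g : Y), ((g : Γ) * ((x : Γ) * w) * (g : Γ)⁻¹ * ((x : Γ) * w)⁻¹ ∈ X ↔
        (g : Γ) * w * (g : Γ)⁻¹ * (w : Γ)⁻¹ ∈ X) := by
      intro x g
      have e : (g : Γ) * ((x : Γ) * w) * (g : Γ)⁻¹ * ((x : Γ) * w)⁻¹ =
          ((g : Γ) * x * (g : Γ)⁻¹) * ((g : Γ) * w * (g : Γ)⁻¹ * (w : Γ)⁻¹) * (x : Γ)⁻¹ := by group
      rw [e, Subgroup.mul_mem_cancel_right _ (X.inv_mem x.2),
        Subgroup.mul_mem_cancel_left _ ((Subgroup.mem_normalizer_iff.mp (hN g.2) _).mp x.2)]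
    set Cw := Finset.univ.filter fun g : Y => (g : Γ) * w * (g : Γ)⁻¹ * (w : Γ)⁻¹ ∈ X with hCw
    have hterm : ∀ x : X, (dg θ : ℂ) *
        ∑ g : Y, z θ ((g : Γ) * ((x : Γ) * w) * (g : Γ)⁻¹ * ((x : Γ) * w)⁻¹) =
          ∑ g ∈ Cw, z η ((g : Γ) * ((x : Γ) * w) * (g : Γ)⁻¹) * conj (z η ((x : Γ) * w)) := by
      intro x
      rw [term_eq hXY hN hη hX'N (Y.mul_mem (hXY x.2) hwY) (hyX' x) (hgen x)]
      exact Finset.sum_congr (Finset.filter_congr fun g _ => hcx x g) fun _ _ => rfl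
    rw [Finset.sum_congr rfl fun x _ => hterm x]
    -- elements of `W` commuting with `w` modulo `X` act trivially on `X' / X`
    have hnorm : ∀ g ∈ Cw, (g : Γ) ∈ Nz X' ∧
        ∀ a ∈ X', (g : Γ) * a * (g : Γ)⁻¹ * a⁻¹ ∈ X := by
      intro g hg
      let A : Subgroup Γ :=
        { carrier := {a | a ∈ Nz X ∧ (g : Γ) * a * (g : Γ)⁻¹ * a⁻¹ ∈ X}
          one_mem' := ⟨(Nz X).one_mem, by simp⟩
          mul_mem' := fun {a b} ha hb => ⟨(Nz X).mul_mem ha.1 hb.1, by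
            have h1 := X.mul_mem ha.2 ((Subgroup.mem_normalizer_iff.mp ha.1 _).mp hb.2)
            simpa [mul_assoc] using h1⟩
          inv_mem' := fun {a} ha => ⟨(Nz X).inv_mem ha.1, by
            have h1 := (Subgroup.mem_normalizer_iff.mp ((Nz X).inv_mem ha.1) _).mp (X.inv_mem ha.2)
            simpa [mul_assoc] using h1⟩ }
      have hA : X' ≤ A := sup_le
        (fun a ha => ⟨Subgroup.le_normalizer ha,
          X.mul_mem ((Subgroup.mem_normalizer_iff.mp (hN g.2) a).mp ha) (X.inv_mem ha)⟩)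
        (Subgroup.zpowers_le.mpr ⟨hN hwY, (Finset.mem_filter.mp hg).2⟩)
      refine ⟨?_, fun a ha => (hA ha).2⟩
      have key : X'.map (MulAut.conj (g : Γ)).toMonoidHom = X' := by
        refine Subgroup.eq_of_le_of_card_ge (Subgroup.map_le_iff_le_comap.mpr fun a ha => ?_) (by
          rw [Subgroup.card_map_of_injective (MulAut.conj (g : Γ)).injective])
        have h1 := X'.mul_mem (Subgroup.mem_sup_left (T := Subgroup.zpowers (w : Γ)) (hA ha).2) ha
        rw [inv_mul_cancel_right] at h1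
        exact h1
      rw [Subgroup.mem_normalizer_iff]
      refine fun a => ⟨fun ha => ?_, fun ha => ?_⟩
      · rw [← key]; exact ⟨a, ha, rfl⟩
      · rw [← key] at ha
        obtain ⟨a', ha', he⟩ := ha
        obtain rfl : a' = a := (MulAut.conj (g : Γ)).injective he
        exact ha'
    have hlin : ∀ (l : X' →* ℂˣ), TrivOn X l → ∀ g ∈ Cw, ∀ a ∈ X',
        lv l ((g : Γ) * a * (g : Γ)⁻¹) = lv l a := by
      intro l hl g hg a ha
      have h1 := (hnorm g hg).2 a ha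
      rw [show (g : Γ) * a * (g : Γ)⁻¹ = ((g : Γ) * a * (g : Γ)⁻¹ * a⁻¹) * a by group,
        lv_mul _ (Subgroup.mem_sup_left h1) ha, hl.lv le_sup_left h1, one_mul]
    split_ifs with hgood
    · -- good: every extension is fixed
      have hfixη : ∀ g ∈ Cw, ∀ a ∈ X', z η ((g : Γ) * a * (g : Γ)⁻¹) = z η a := by
        intro g hg a ha
        obtain ⟨x, hx, v, hv, he⟩ :=
          CfsgLib.Solvable.exists_mul_of_mem_sup (hWY.trans hN) (hY g.2)
        have hvw : v * w * v⁻¹ * (w : Γ)⁻¹ ∈ X := by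
          rw [← hcomm x hx v w (hWY hv) hwY, ← he]
          exact (Finset.mem_filter.mp hg).2
        obtain ⟨η₀, hη₀, hv₀⟩ := hgood v hv hvw
        obtain ⟨l, hl, rfl⟩ := hη₀.exists_tw hX'N hη
        have hvC : (⟨v, hWY hv⟩ : Y) ∈ Cw := Finset.mem_filter.mpr ⟨Finset.mem_univ _, hvw⟩
        rw [he, show x * v * a * (x * v)⁻¹ = x * (v * a * v⁻¹) * x⁻¹ by group,
          z_conj_self _ (Subgroup.mem_sup_left hx), z_tw, z_tw, hlin l hl ⟨v, hWY hv⟩ hvC a ha]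
        congr 1
        conv_lhs => rw [← hv₀, z_cj (hnorm _ hvC).1]
        simp [mul_assoc]
      have e : ∀ x : X,
          ∑ g ∈ Cw, z η ((g : Γ) * ((x : Γ) * w) * (g : Γ)⁻¹) * conj (z η ((x : Γ) * w)) =
            (Cw.card : ℂ) * (z η ((x : Γ) * w) * conj (z η ((x : Γ) * w))) := fun x => by
        rw [Finset.sum_congr rfl fun g hg => by rw [hfixη g hg _ (hyX' x)], Finset.sum_const,
          nsmul_eq_mul]
      rw [Finset.sum_congr rfl fun x _ => e x, ← Finset.mul_sum, hη.sum_coset_self hwX']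
    · -- bad: the sum is killed by a translation
      refine Finset.sum_eq_zero fun x _ => ?_
      simp only [GoodIn, Good, not_forall, not_exists, not_and] at hgood
      obtain ⟨u, hu, huw, hne⟩ := hgood
      have huC : (⟨u, hWY hu⟩ : Y) ∈ Cw := Finset.mem_filter.mpr ⟨Finset.mem_univ _, huw⟩
      have huN : u ∈ Nz X' := (hnorm _ huC).1
      have hext := hη.cj ((Nz X').inv_mem huN) ((Nz X).inv_mem (hN (hWY hu)))
      rw [hfix _ (Y.inv_mem (hWY hu))] at hext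
      obtain ⟨l, hl, he⟩ := hη.exists_tw hX'N hext
      have hly : lv l ((x : Γ) * w) ≠ 1 := by
        intro h1
        refine hne η hη ?_
        have hl1 : l = 1 := by
          have h2 : lv l (w : Γ) = 1 := by
            rwa [lv_mul _ (Subgroup.mem_sup_left x.2) hwX', hl.lv le_sup_left x.2, one_mul] at h1
          rw [lv_of_mem l hwX'] at h2
          have h3 : (⊤ : Subgroup X') ≤ l.ker := by
            have h4 : X' ≤ l.ker.map X'.subtype := sup_le
              (fun a ha => ⟨⟨a, Subgroup.mem_sup_left ha⟩, hl _ ha, rfl⟩)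
              (Subgroup.zpowers_le.mpr ⟨⟨w, hwX'⟩, Units.ext h2, rfl⟩)
            rintro a -
            obtain ⟨b, hb, hba⟩ := h4 a.2
            obtain rfl : b = a := Subtype.ext hba
            exact hb
          exact MonoidHom.ext fun a => h3 (Subgroup.mem_top a)
        rw [hl1, tw_one] at he
        have h5 := cj_inv_eq ((Nz X').inv_mem huN) he
        rwa [inv_inv] at h5
      have hzu : ∀ a ∈ X', z η (u * a * u⁻¹) = z η a * lv l a := by
        intro a ha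
        rw [← z_tw, ← he, z_cj ((Nz X').inv_mem huN), inv_inv]
      set S := ∑ g ∈ Cw, z η ((g : Γ) * ((x : Γ) * w) * (g : Γ)⁻¹) * conj (z η ((x : Γ) * w))
      have hS : S = lv l ((x : Γ) * w) * S := by
        simp only [S, Finset.mul_sum]
        have hmem : ∀ g : Y, (⟨u, hWY hu⟩ * g ∈ Cw ↔ g ∈ Cw) := by
          intro g
          simp only [hCw, Finset.mem_filter, Finset.mem_univ, true_and]
          show u * g * w * (u * g)⁻¹ * (w : Γ)⁻¹ ∈ X ↔ _
          have e : u * g * w * (u * g)⁻¹ * (w : Γ)⁻¹ =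
              (u * ((g : Γ) * w * (g : Γ)⁻¹ * (w : Γ)⁻¹) * u⁻¹) * (u * w * u⁻¹ * (w : Γ)⁻¹) := by
            group
          rw [e, Subgroup.mul_mem_cancel_right _ huw]
          exact (Subgroup.mem_normalizer_iff.mp (hN (hWY hu)) _).symm
        symm
        refine Finset.sum_equiv (Equiv.mulLeft (⟨u, hWY hu⟩ : Y)) (fun g => (hmem g).symm)
          fun g hg => ?_
        have hga : (g : Γ) * ((x : Γ) * w) * (g : Γ)⁻¹ ∈ X' :=
          (Subgroup.mem_normalizer_iff.mp (hnorm g hg).1 _).mp (hyX' x)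
        show _ = z η (u * g * ((x : Γ) * w) * (u * g)⁻¹) * _
        rw [show u * g * ((x : Γ) * w) * (u * g)⁻¹ = u * ((g : Γ) * ((x : Γ) * w) * (g : Γ)⁻¹) * u⁻¹
          by group, hzu _ hga, hlin l hl g hg _ (hyX' x)]
        ring
      by_contra hne0
      exact hly (mul_eq_right₀ hne0 |>.mp hS.symm)
  -- assemble
  have hYcard : d * (Nat.card Y : ℂ) = (Nat.card X : ℂ) * (Nat.card W : ℂ) := by
    have := sum_prod_fibre hN hXY hWY hY fun _ => (1 : ℂ)
    simpa [hd, ← Nat.card_eq_fintype_card, mul_comm] using this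
  have h1 := card_over_sum hXY hN hfix
  have h2 := sum_prod_fibre hN hXY hWY hY fun y =>
    (dg θ : ℂ) * ∑ g : Y, z θ ((g : Γ) * y * (g : Γ)⁻¹ * y⁻¹)
  rw [← h1, Finset.sum_congr rfl fun w _ => hmain w] at h2
  have h3 : (Nat.card {q : W × W // (q.1 : Γ) * q.2 * (q.1 : Γ)⁻¹ * (q.2 : Γ)⁻¹ ∈ X ∧
      GoodIn θ W q.2} : ℂ) = ∑ w : W, if GoodIn θ W w then
        ((Finset.univ.filter fun v : W => (v : Γ) * w * (v : Γ)⁻¹ * (w : Γ)⁻¹ ∈ X).card : ℂ)
        else 0 := by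
    rw [Nat.card_eq_fintype_card, Fintype.card_subtype, Finset.card_filter, Nat.cast_sum,
      Fintype.sum_prod_type_right]
    refine Finset.sum_congr rfl fun w _ => ?_
    split_ifs with hg
    · rw [Finset.card_filter, Nat.cast_sum]
      refine Finset.sum_congr rfl fun v _ => ?_
      simp [hg]
    · simp [hg]
  have hX0 : (Nat.card X : ℂ) ≠ 0 := Nat.cast_ne_zero.mpr Nat.card_pos.ne'
  have h4 : (Nat.card X : ℂ) * ((Nat.card X : ℂ) * ((Nat.card {χ : Ch Y // m χ θ ≠ 0} : ℂ) *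
      (Nat.card W : ℂ) * d)) = (Nat.card X : ℂ) * ((Nat.card X : ℂ) *
      (Nat.card {q : W × W // (q.1 : Γ) * q.2 * (q.1 : Γ)⁻¹ * (q.2 : Γ)⁻¹ ∈ X ∧
        GoodIn θ W q.2} : ℂ)) := by
    calc _ = d * (d * ((Nat.card X : ℂ) * (Nat.card Y : ℂ) *
          (Nat.card {χ : Ch Y // m χ θ ≠ 0} : ℂ))) := by
          linear_combination
            (-(Nat.card X : ℂ) * (Nat.card {χ : Ch Y // m χ θ ≠ 0} : ℂ) * d) * hYcard
      _ = d * ∑ w : W, if GoodIn θ W w then cent w * (Nat.card X : ℂ) else 0 := by rw [h2]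
      _ = _ := by
        rw [h3, Finset.mul_sum, Finset.mul_sum, Finset.mul_sum]
        refine Finset.sum_congr rfl fun w _ => ?_
        split_ifs with hg
        · rw [← mul_assoc, hcent w]; ring
        · simp
  have h5 := mul_left_cancel₀ hX0 (mul_left_cancel₀ hX0 h4)
  rw [hd] at h5
  exact_mod_cast h5

end CfsgLib.CharBlocks.RelMcKay
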