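import Mathlib.Analysis.Complex.Basic
import Mathlib.Algebra.Polynomial.Roots
import Mathlib.Data.Nat.Prime.Int
import Mathlib.Algebra.Ring.GeomSum

/-!
# Sums of roots of unity of norm one

`gal_unique`: if `∑ β, |a β j|² = 1` for every `j` prime to `p`, where `a β j` are integral
combinations of the `j`-th powers of the `p ^ (k + 1)`-th roots of unity, then exactly one `β` has
coefficient sum prime to `p`, and all the other `a β j` vanish.
-/

set_option autoImplicit false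

noncomputable section

namespace CfsgLib.CharBlocks.RelMcKay

open scoped ComplexConjugate
open Polynomial

/-- `p ∑ c² - (∑ c)²` over at most `p` integers is nonnegative, and at least `p - 1` unless `p`
divides `∑ c`. -/
theorem bracket_bound {ι : Type*} {p : ℕ} (hp : 0 < p) (s : Finset ι) (hs : s.card ≤ p)
    (c : ι → ℤ) :
    0 ≤ (p : ℤ) * ∑ i ∈ s, c i ^ 2 - (∑ i ∈ s, c i) ^ 2 ∧
      (¬ (p : ℤ) ∣ ∑ i ∈ s, c i →
        (p : ℤ) - 1 ≤ (p : ℤ) * ∑ i ∈ s, c i ^ 2 - (∑ i ∈ s, c i) ^ 2) := by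
  set S := ∑ i ∈ s, c i with hS
  set a := S / (p : ℤ)
  set b := S % (p : ℤ)
  have hp' : (0 : ℤ) < p := by exact_mod_cast hp
  have hab : S = (p : ℤ) * a + b := (Int.mul_ediv_add_emod S p).symm
  have hb0 : 0 ≤ b := Int.emod_nonneg _ hp'.ne'
  have hb1 : b < p := Int.emod_lt_of_pos _ hp'
  have haa : 0 ≤ a * (a + 1) := by
    rcases le_or_gt 0 a with h | h
    · positivity
    · exact mul_nonneg_of_nonpos_of_nonpos h.le (by omega)
  have h1 : 0 ≤ ∑ i ∈ s, (c i - a) * (c i - a - 1) := by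
    refine Finset.sum_nonneg fun i _ => ?_
    rcases le_or_gt (c i) a with h | h
    · exact mul_nonneg_of_nonpos_of_nonpos (by omega) (by omega)
    · exact mul_nonneg (by omega) (by omega)
  have h2 : ∑ i ∈ s, (c i - a) * (c i - a - 1) =
      ∑ i ∈ s, c i ^ 2 - (2 * a + 1) * S + (s.card : ℤ) * (a * (a + 1)) := by
    rw [hS, Finset.mul_sum, ← Finset.sum_sub_distrib, ← nsmul_eq_mul, ← Finset.sum_const,
      ← Finset.sum_add_distrib]
    exact Finset.sum_congr rfl fun i _ => by ring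
  have hs' : (s.card : ℤ) * (a * (a + 1)) ≤ (p : ℤ) * (a * (a + 1)) :=
    mul_le_mul_of_nonneg_right (by exact_mod_cast hs) haa
  have h4 : (2 * a + 1) * S - (p : ℤ) * (a * (a + 1)) ≤ ∑ i ∈ s, c i ^ 2 := by linarith
  have h5 : b * ((p : ℤ) - b) ≤ (p : ℤ) * ∑ i ∈ s, c i ^ 2 - S ^ 2 := by
    have h6 := mul_le_mul_of_nonneg_left h4 hp'.le
    have h7 : (p : ℤ) * ((2 * a + 1) * S - (p : ℤ) * (a * (a + 1))) - S ^ 2 = b * ((p : ℤ) - b) := by
      rw [hab]; ring
    linarith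
  refine ⟨le_trans (mul_nonneg hb0 (by omega)) h5, fun hd => le_trans ?_ h5⟩
  have hb : 1 ≤ b := by
    rcases hb0.lt_or_eq with h | h
    · omega
    · exact absurd (Int.dvd_of_emod_eq_zero h.symm) hd
  nlinarith [mul_nonneg (by omega : 0 ≤ b - 1) (by omega : 0 ≤ (p : ℤ) - 1 - b)]

/-- A geometric sum over a period. -/
theorem geom_period {n : ℕ} {w : ℂ} (hw : w ^ n = 1) :
    ∑ j ∈ Finset.range n, w ^ j = if w = 1 then (n : ℂ) else 0 := by
  split_ifs with h
  · simp [h]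
  · have h2 := geom_sum_mul w n
    rw [hw, sub_self, mul_eq_zero, sub_eq_zero] at h2
    exact h2.resolve_right h

variable {B : Type*} [Fintype B]

theorem gal_unique {p k : ℕ} (hp : p.Prime) (c : B → ℂ → ℤ)
    (h1 : ∀ j : ℕ, ¬ p ∣ j → ∑ β,
      (∑ w ∈ nthRootsFinset (p ^ (k + 1)) (1 : ℂ), (c β w : ℂ) * w ^ j) *
        conj (∑ w ∈ nthRootsFinset (p ^ (k + 1)) (1 : ℂ), (c β w : ℂ) * w ^ j) = 1) :
    ∃ β₀ : B, ¬ (p : ℤ) ∣ ∑ w ∈ nthRootsFinset (p ^ (k + 1)) (1 : ℂ), c β₀ w ∧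
      ∀ β ≠ β₀, (p : ℤ) ∣ ∑ w ∈ nthRootsFinset (p ^ (k + 1)) (1 : ℂ), c β w ∧
        ∀ j : ℕ, j < p ^ (k + 1) → ¬ p ∣ j →
          ∑ w ∈ nthRootsFinset (p ^ (k + 1)) (1 : ℂ), (c β w : ℂ) * w ^ j = 0 := by
  classical
  set n := p ^ (k + 1) with hn
  set q := p ^ k with hq
  have hnq : n = q * p := pow_succ p k
  have hn0 : 0 < n := pow_pos hp.pos _
  set μ := nthRootsFinset n (1 : ℂ) with hμdef
  have hμ : ∀ w ∈ μ, w ^ n = 1 := fun w hw => (mem_nthRootsFinset hn0 1).mp hw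
  let a : B → ℕ → ℂ := fun β j => ∑ w ∈ μ, (c β w : ℂ) * w ^ j
  let J := (Finset.range n).filter fun j => ¬ p ∣ j
  let fib : ℂ → Finset ℂ := fun v => μ.filter fun w => w ^ p = v
  let bra : B → ℂ → ℤ := fun β v =>
    (p : ℤ) * ∑ w ∈ fib v, c β w ^ 2 - (∑ w ∈ fib v, c β w) ^ 2
  let μp := μ.image fun w => w ^ p
  let T : B → ℤ := fun β => ∑ v ∈ μp, bra β v
  have hfib : ∀ v, (fib v).card ≤ p := by
    intro v
    refine le_trans (Finset.card_le_card fun w hw => ?_)
      ((Multiset.toFinset_card_le _).trans (card_nthRoots p v))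
    rw [Multiset.mem_toFinset, mem_nthRoots hp.pos]
    exact (Finset.mem_filter.mp hw).2
  have hcong : ∀ β, ∑ v ∈ μp, ∑ w ∈ fib v, c β w = ∑ w ∈ μ, c β w := fun β =>
    Finset.sum_fiberwise_of_maps_to (fun w hw => Finset.mem_image_of_mem _ hw) _
  -- the sum over the exponents prime to `p`
  have hgeo : ∀ w : ℂ, w ^ n = 1 → ∑ j ∈ J, w ^ j =
      (if w = 1 then (n : ℂ) else 0) - (if w ^ p = 1 then (q : ℂ) else 0) := by
    intro w hw
    rw [← geom_period hw, ← geom_period (w := w ^ p) (n := q) (by rw [← pow_mul, mul_comm, ← hnq, hw]),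
      eq_sub_iff_add_eq, ← Finset.sum_filter_add_sum_filter_not (Finset.range n) (fun j => ¬ p ∣ j)]
    congr 1
    refine Finset.sum_bij (fun i _ => p * i) (fun i hi => ?_) (fun i _ i' _ h => ?_) (fun j hj => ?_)
      fun i _ => (pow_mul w p i).symm
    · rw [Finset.mem_range] at hi
      rw [Finset.mem_filter, Finset.mem_range, not_not, hnq, mul_comm q]
      exact ⟨Nat.mul_lt_mul_of_pos_left hi hp.pos, dvd_mul_right p i⟩
    · exact Nat.eq_of_mul_eq_mul_left hp.pos h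
    · rw [Finset.mem_filter, Finset.mem_range, not_not] at hj
      obtain ⟨i, rfl⟩ := hj.2
      exact ⟨i, Finset.mem_range.mpr (Nat.lt_of_mul_lt_mul_left (hj.1.trans_eq (by
        rw [hnq, mul_comm]))), rfl⟩
  have hnorm : ∀ β, ∑ j ∈ J, a β j * conj (a β j) = ((q : ℂ) * (T β : ℂ)) := by
    intro β
    have hconj : ∀ w ∈ μ, conj w = w⁻¹ := fun w hw => by
      rw [Complex.inv_eq_conj]
      exact Complex.norm_eq_one_of_pow_eq_one (hμ w hw) hn0.ne'
    have e1 : ∀ j, a β j * conj (a β j) =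
        ∑ w ∈ μ, ∑ w' ∈ μ, ((c β w : ℂ) * (c β w' : ℂ)) * (w * w'⁻¹) ^ j := by
      intro j
      simp only [a, map_sum, Finset.sum_mul_sum, map_mul, map_pow, map_intCast]
      refine Finset.sum_congr rfl fun w _ => Finset.sum_congr rfl fun w' hw' => ?_
      rw [hconj w' hw', mul_pow]
      ring
    rw [Finset.sum_congr rfl fun j _ => e1 j, Finset.sum_comm]
    rw [Finset.sum_congr rfl fun w hw => Finset.sum_comm]
    have e2 : ∀ w ∈ μ, ∀ w' ∈ μ,
        ∑ j ∈ J, ((c β w : ℂ) * (c β w' : ℂ)) * (w * w'⁻¹) ^ j =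
          ((c β w : ℂ) * (c β w' : ℂ)) *
            ((if w = w' then (n : ℂ) else 0) - (if w' ^ p = w ^ p then (q : ℂ) else 0)) := by
      intro w hw w' hw'
      have h0 : w' ≠ 0 := by
        rintro rfl
        simpa [zero_pow hn0.ne'] using hμ 0 hw'
      rw [← Finset.mul_sum, hgeo _ (by rw [mul_pow, inv_pow, hμ w hw, hμ w' hw', inv_one, mul_one])]
      congr 2
      · exact if_congr (mul_inv_eq_one₀ h0) rfl rfl
      · refine if_congr ?_ rfl rfl
        rw [mul_pow, inv_pow, mul_inv_eq_one₀ (pow_ne_zero _ h0)]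
        exact eq_comm
    rw [Finset.sum_congr rfl fun w hw => Finset.sum_congr rfl fun w' hw' => e2 w hw w' hw']
    simp only [mul_sub, Finset.sum_sub_distrib, mul_ite, mul_zero, Finset.sum_ite_eq]
    rw [show (∑ w ∈ μ, if w ∈ μ then (c β w : ℂ) * (c β w : ℂ) * (n : ℂ) else 0) =
        ∑ w ∈ μ, (c β w : ℂ) * (c β w : ℂ) * (n : ℂ) from
      Finset.sum_congr rfl fun w hw => if_pos hw]
    simp only [← Finset.sum_filter]
    rw [← Finset.sum_fiberwise_of_maps_to (t := μp) (g := fun w => w ^ p)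
        (fun w hw => Finset.mem_image_of_mem _ hw) (fun w => (c β w : ℂ) * (c β w : ℂ) * (n : ℂ)),
      ← Finset.sum_fiberwise_of_maps_to (t := μp) (g := fun w => w ^ p)
        (fun w hw => Finset.mem_image_of_mem _ hw)
        (fun w => ∑ w' ∈ μ.filter (fun w' => w' ^ p = w ^ p), (c β w : ℂ) * (c β w' : ℂ) * (q : ℂ)),
      ← Finset.sum_sub_distrib]
    simp only [T, Int.cast_sum, Finset.mul_sum, bra]
    refine Finset.sum_congr rfl fun v _ => ?_
    have e3 : ∀ w ∈ μ.filter (fun w => w ^ p = v),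
        ∑ w' ∈ μ.filter (fun w' => w' ^ p = w ^ p), (c β w : ℂ) * (c β w' : ℂ) * (q : ℂ) =
          (c β w : ℂ) * ((∑ w' ∈ μ.filter (fun w' => w' ^ p = v), (c β w' : ℂ)) * (q : ℂ)) := by
      intro w hw
      rw [(Finset.mem_filter.mp hw).2, Finset.sum_mul, Finset.mul_sum]
      simp only [mul_assoc]
    rw [Finset.sum_congr rfl e3, ← Finset.sum_mul, ← Finset.sum_mul]
    rw [show ((n : ℂ)) = (q : ℂ) * (p : ℂ) by exact_mod_cast hnq]
    simp only [fib]
    push_cast
    simp only [← Finset.mul_sum, pow_two]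
    ring
  -- the total
  have hJ : (J.card : ℂ) = (q : ℂ) * ((p : ℂ) - 1) := by
    have h := hgeo 1 (one_pow n)
    simp only [one_pow, if_true, Finset.sum_const, nsmul_eq_mul, mul_one] at h
    rw [h, show ((n : ℂ)) = (q : ℂ) * (p : ℂ) by exact_mod_cast hnq]
    ring
  have hsum : ∑ β, T β = (p : ℤ) - 1 := by
    have h2 : ∑ β, ∑ j ∈ J, a β j * conj (a β j) = (J.card : ℂ) := by
      rw [Finset.sum_comm, Finset.sum_congr rfl fun j hj => h1 j (Finset.mem_filter.mp hj).2]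
      simp [J]
    rw [Finset.sum_congr rfl fun β _ => hnorm β, ← Finset.mul_sum, hJ] at h2
    have h3 := mul_left_cancel₀ (Nat.cast_ne_zero.mpr (pow_pos hp.pos k).ne' : (q : ℂ) ≠ 0) h2
    exact_mod_cast h3
  have hT0 : ∀ β, 0 ≤ T β := fun β =>
    Finset.sum_nonneg fun v _ => (bracket_bound hp.pos _ (hfib v) _).1
  have hTbig : ∀ β, ¬ (p : ℤ) ∣ ∑ w ∈ μ, c β w → (p : ℤ) - 1 ≤ T β := by
    intro β hβ
    rw [← hcong β] at hβ
    obtain ⟨v, hv, hvd⟩ : ∃ v ∈ μp, ¬ (p : ℤ) ∣ ∑ w ∈ fib v, c β w := by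
      by_contra hc
      push Not at hc
      exact hβ (Finset.dvd_sum hc)
    exact ((bracket_bound hp.pos _ (hfib v) _).2 hvd).trans (Finset.single_le_sum
      (f := fun v => bra β v) (fun v _ => (bracket_bound hp.pos _ (hfib v) _).1) hv)
  obtain ⟨β₀, hβ₀⟩ : ∃ β₀, ¬ (p : ℤ) ∣ ∑ w ∈ μ, c β₀ w := by
    by_contra hc
    push Not at hc
    -- every bracket is congruent to minus the square of its sum
    have hall : ∀ β, ∀ v ∈ μp, (p : ℤ) ∣ ∑ w ∈ fib v, c β w → (p : ℤ) ∣ bra β v :=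
      fun β v _ h => dvd_sub (dvd_mul_right _ _) (dvd_pow h two_ne_zero)
    by_cases hfull : ∀ β, ∀ v ∈ μp, (p : ℤ) ∣ ∑ w ∈ fib v, c β w
    · have h2 : (p : ℤ) ∣ (p : ℤ) - 1 := hsum ▸ Finset.dvd_sum fun β _ =>
        Finset.dvd_sum fun v hv => hall β v hv (hfull β v hv)
      have h3 : (p : ℤ) ∣ 1 := by simpa using dvd_sub (dvd_refl (p : ℤ)) h2
      exact hp.ne_one (Int.natCast_dvd_natCast.mp h3 |> Nat.dvd_one.mp)
    · push Not at hfull
      obtain ⟨β, v, hv, hvd⟩ := hfull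
      obtain ⟨v', hv', hne, hvd'⟩ : ∃ v' ∈ μp, v' ≠ v ∧ ¬ (p : ℤ) ∣ ∑ w ∈ fib v', c β w := by
        by_contra hc2
        push Not at hc2
        refine hvd ?_
        have h4 := hc β
        rw [← hcong β, ← Finset.add_sum_erase _ _ hv] at h4
        exact (Int.dvd_add_left (Finset.dvd_sum fun v' hv' =>
          hc2 v' (Finset.mem_of_mem_erase hv') (Finset.ne_of_mem_erase hv'))).mp h4
      have h5 : bra β v + bra β v' ≤ T β := by
        have h6 := Finset.add_sum_erase μp (fun v => bra β v) hv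
        have h7 : bra β v' ≤ ∑ x ∈ μp.erase v, bra β x := Finset.single_le_sum
          (fun x _ => (bracket_bound hp.pos _ (hfib x) _).1) (Finset.mem_erase.mpr ⟨hne, hv'⟩)
        simp only [T]
        omega
      have h8 := Finset.single_le_sum (fun β _ => hT0 β) (Finset.mem_univ β)
      have h9 := (bracket_bound hp.pos _ (hfib v) (c β)).2 hvd
      have h10 := (bracket_bound hp.pos _ (hfib v') (c β)).2 hvd'
      have := hp.two_le
      simp only [bra] at h5
      omega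
  have hz : ∀ β ≠ β₀, T β = 0 := by
    intro β hne
    have h2 := Finset.add_sum_erase Finset.univ T (Finset.mem_univ β₀)
    have h3 : T β ≤ ∑ x ∈ Finset.univ.erase β₀, T x := Finset.single_le_sum
      (fun x _ => hT0 x) (Finset.mem_erase.mpr ⟨hne, Finset.mem_univ β⟩)
    have := hTbig β₀ hβ₀
    have := hT0 β
    omega
  refine ⟨β₀, hβ₀, fun β hne => ⟨?_, fun j hj hjp => ?_⟩⟩
  · by_contra hd
    have := hTbig β hd
    have := hz β hne
    have := hp.two_le
    omega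
  · have h2 := hnorm β
    rw [hz β hne, Int.cast_zero, mul_zero] at h2
    have h3 : ∑ j ∈ J, Complex.normSq (a β j) = 0 := by
      have h4 : ((∑ j ∈ J, Complex.normSq (a β j) : ℝ) : ℂ) = 0 := by
        rw [← h2]; push_cast
        exact Finset.sum_congr rfl fun j _ => (Complex.mul_conj _).symm
      exact_mod_cast h4
    exact Complex.normSq_eq_zero.mp ((Finset.sum_eq_zero_iff_of_nonneg
      (fun j _ => Complex.normSq_nonneg _)).mp h3 j
        (Finset.mem_filter.mpr ⟨Finset.mem_range.mpr hj, hjp⟩))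

end CfsgLib.CharBlocks.RelMcKay
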