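import Cfsg.Agent.Lib.CharBlocks.RelMcKay.Coset
import Cfsg.Agent.Lib.CharBlocks.RelMcKay.Numeric

/-!
# The correspondence for a cyclic `p`-group of operators

For `R = L⟨s⟩`: an invariant character of `K` over `ν` has exactly one constituent on the fixed
points with multiplicity prime to `p`, and conversely.
-/

set_option autoImplicit false
set_option linter.unusedSectionVars false
set_option linter.unusedVariables false

noncomputable section

namespace CfsgLib.CharBlocks.RelMcKay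

open CfsgLib.Char CfsgLib.CharNormal
open scoped ComplexConjugate

attribute [local instance] Fintype.ofFinite
attribute [local instance high] subFintype

variable {Γ : Type*} [Group Γ] [Finite Γ]

/-- `θ` corresponds to `β`: the multiplicity is prime to `p`. -/
def Cor (p : ℕ) {H B : Subgroup Γ} (θ : Ch H) (β : Ch B) : Prop := ¬ p ∣ m θ β

theorem Cor.ne_zero {p : ℕ} {H B : Subgroup Γ} {θ : Ch H} {β : Ch B} (h : Cor p θ β) :
    m θ β ≠ 0 := fun h0 => h (h0 ▸ dvd_zero p)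

variable {p : ℕ} [Fact p.Prime] {L K R : Subgroup Γ} {ν : Ch L} {s : Γ}

theorem Setup.fix_over (h : Setup p L K R ν) {β : Ch (fixC L K R)} (hβ : m β ν ≠ 0) : Fix R β :=
  h.fix_of_central h.le_fixC (fixC_le L K R) h.nz_fixC (fun r hr b hb => hb.2.2 r hr) hβ

theorem Setup.over_fixC (h : Setup p L K R ν) {θ : Ch K} (hθ : m θ ν ≠ 0) {β : Ch (fixC L K R)}
    (hb : m θ β ≠ 0) : m β ν ≠ 0 :=
  over_of_m h.le_fixC (fixC_le L K R) h.KL h.fK hθ hb

theorem fix_of_gen {H : Subgroup Γ} (hLH : L ≤ H) (hRH : R ≤ Nz H) (hs : s ∈ R)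
    (hR : R ≤ L ⊔ Subgroup.zpowers s) (hLR : L ≤ R) {θ : Ch H} (hf : cj s θ = θ) : Fix R θ := by
  have h1 : L ⊔ Subgroup.zpowers s ≤ stb R θ := sup_le
    (fun l hl => (mem_stb hRH).mpr ⟨hLR hl, cj_of_mem (hLH hl) θ⟩)
    (Subgroup.zpowers_le.mpr ((mem_stb hRH).mpr ⟨hs, hf⟩))
  exact fun r hr => (h1 (hR hr)).2.2

/-- The cyclic step. -/
theorem Setup.cyclic_step (h : Setup p L K R ν) (hs : s ∈ R) (hsL : s ∉ L)
    (hR : R ≤ L ⊔ Subgroup.zpowers s) :
    (∀ θ : Ch K, m θ ν ≠ 0 → Fix R θ → ∃! β : Ch (fixC L K R), Cor p θ β) ∧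
      ∀ β : Ch (fixC L K R), m β ν ≠ 0 →
        ∃! θ : Ch K, (m θ ν ≠ 0 ∧ Fix R θ) ∧ Cor p θ β := by
  classical
  obtain ⟨e, he⟩ := h.pR
  obtain ⟨k, rfl⟩ : ∃ k, e = k + 1 := by
    refine Nat.exists_eq_succ_of_ne_zero fun h0 => hsL ?_
    rw [h0, pow_zero, Subgroup.relIndex_eq_one] at he
    exact he hs
  set n := p ^ (k + 1) with hn
  have hsn : s ^ n ∈ L := he ▸ pow_relIndex_mem h.RL hs
  set C := fixC L K R with hC
  have hLC : L ≤ C := h.le_fixC
  -- the two cyclic extensions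
  set X := K ⊔ R with hX
  set X' := C ⊔ R with hX'
  have hXN : X ≤ Nz K := sup_le Subgroup.le_normalizer h.RK
  have hX'N : X' ≤ Nz C := sup_le Subgroup.le_normalizer h.nz_fixC
  have hsX : s ∈ X := Subgroup.mem_sup_right hs
  have hsX' : s ∈ X' := Subgroup.mem_sup_right hs
  have hX'X : X' ≤ X := sup_le ((fixC_le L K R).trans le_sup_left) le_sup_right
  have hXgen : X ≤ K ⊔ Subgroup.zpowers s :=
    sup_le le_sup_left (hR.trans (sup_le_sup_right h.LK _))
  have hX'gen : X' ≤ C ⊔ Subgroup.zpowers s :=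
    sup_le le_sup_left (hR.trans (sup_le_sup_right hLC _))
  have habX : ∀ a ∈ X, ∀ b ∈ X, a * b * a⁻¹ * b⁻¹ ∈ K := fun a ha b hb =>
    comm_mem_of_cyclic le_sup_left hXN hsX hXgen ha hb
  have habX' : ∀ a ∈ X', ∀ b ∈ X', a * b * a⁻¹ * b⁻¹ ∈ C := fun a ha b hb =>
    comm_mem_of_cyclic le_sup_left hX'N hsX' hX'gen ha hb
  have hX'L : X' ≤ Nz L := sup_le ((fixC_le L K R).trans h.KL) h.RL
  have hfix' : Fix X' ν := fun g hg => by
    have h1 : X' ≤ stb (Nz L) ν := sup_le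
      (fun c hc => (mem_stb le_rfl).mpr ⟨h.KL hc.1, h.fK c hc.1⟩)
      (fun r hr => (mem_stb le_rfl).mpr ⟨h.RL hr, h.fR r hr⟩)
    exact (h1 hg).2.2
  -- characters of `C` over `ν` and their extensions
  let Bs := {β : Ch C // m β ν ≠ 0}
  have hBfix : ∀ β : Bs, Fix R β.1 := fun β => h.fix_over β.2
  choose bx hbx using fun β : Bs =>
    exists_ext_cyclic (le_sup_left : C ≤ X') hX'N hsX' hX'gen β.1 (hBfix β s hs)
  -- orthonormality on `C g`
  have horth : ∀ g ∈ X', ∀ β β' : Bs,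
      ∑ c : C, z (bx β) ((c : Γ) * g) * conj (z (bx β') ((c : Γ) * g)) =
        if β = β' then (Nat.card C : ℂ) else 0 := by
    intro g hg β β'
    split_ifs with hb
    · rw [hb]; exact (hbx β').sum_coset_self hg
    · exact sum_coset_ne hX'N habX' (hbx β) (hbx β') (fun he => hb (Subtype.ext he)) hg
  -- the characters of `X'` over `ν`
  let Ps := {ψ : Ch X' // m ψ ν ≠ 0}
  have hex : ∀ ψ : Ps, ∃ (β : Bs) (l : X' →* ℂˣ), TrivOn C l ∧ ψ.1 = RelMcKay.tw (bx β) l := by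
    rintro ⟨ψ, hψ⟩
    obtain ⟨β, hβ⟩ := exists_under (le_sup_left : C ≤ X') ψ
    have hb : m β ν ≠ 0 := over_of_m hLC le_sup_left hX'L hfix' hψ hβ
    obtain ⟨l, hl, he⟩ := exists_tw_of_over (le_sup_left : C ≤ X') hX'N habX'
      (by rw [(hbx ⟨β, hb⟩).m_eq]; exact one_ne_zero : m (bx ⟨β, hb⟩) β ≠ 0) hβ
    exact ⟨⟨β, hb⟩, l, hl, he⟩
  choose bet lam hlam hps using hex
  set μ := Polynomial.nthRootsFinset n (1 : ℂ) with hμ
  let val : Ps → ℂ := fun ψ => lv (lam ψ) s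
  have hlvpow : ∀ (ψ : Ps) (j : ℕ), lv (lam ψ) (s ^ j) = val ψ ^ j := by
    intro ψ j
    induction j with
    | zero =>
      rw [pow_zero, pow_zero, lv_of_mem _ X'.one_mem,
        show (⟨1, X'.one_mem⟩ : X') = 1 from rfl, map_one, Units.val_one]
    | succ j ih => rw [pow_succ, lv_mul _ (X'.pow_mem hsX' j) hsX', ih, pow_succ]
  have hval : ∀ ψ : Ps, val ψ ∈ μ := fun ψ => by
    rw [hμ, Polynomial.mem_nthRootsFinset (pow_pos (Fact.out : p.Prime).pos _), ← hlvpow]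
    exact (hlam ψ).lv le_sup_left (hLC hsn)
  have hzps : ∀ (ψ : Ps) (j : ℕ), ∀ c ∈ C,
      z ψ.1 (c * s ^ j) = val ψ ^ j * z (bx (bet ψ)) (c * s ^ j) := by
    intro ψ j c hc
    rw [hps ψ, z_tw, lv_mul _ (Subgroup.mem_sup_left hc) (X'.pow_mem hsX' j),
      (hlam ψ).lv le_sup_left hc, one_mul, hlvpow, mul_comm]
  -- extensions of invariant characters of `K`
  have hextK : ∀ θ : Ch K, Fix R θ → ∃ η : Ch X, IsExt θ η := fun θ hθ =>
    exists_ext_cyclic (le_sup_left : K ≤ X) hXN hsX hXgen θ (hθ s hs)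
  let cf : Ch X → Bs → ℂ → ℤ := fun η β w =>
    ∑ ψ ∈ Finset.univ.filter (fun ψ : Ps => bet ψ = β ∧ val ψ = w), (m η ψ.1 : ℤ)
  let av : Ch X → Bs → ℕ → ℂ := fun η β j => ∑ w ∈ μ, (cf η β w : ℂ) * w ^ j
  have hoverX : ∀ {θ : Ch K} {η : Ch X}, m θ ν ≠ 0 → IsExt θ η → ∀ ψ : Ch X', m η ψ ≠ 0 →
      m ψ ν ≠ 0 := by
    intro θ η hθ hη ψ hψ
    have hXL : X ≤ Nz L := sup_le h.KL h.RL
    have hfixX : Fix X ν := fun g hg => by
      have h1 : X ≤ stb (Nz L) ν := sup_le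
        (fun c hc => (mem_stb le_rfl).mpr ⟨h.KL hc, h.fK c hc⟩)
        (fun r hr => (mem_stb le_rfl).mpr ⟨h.RL hr, h.fR r hr⟩)
      exact (h1 hg).2.2
    exact over_of_m (hLC.trans le_sup_left) hX'X hXL hfixX
      (m_trans_ne_zero h.LK le_sup_left (by rw [hη.m_eq]; exact one_ne_zero) hθ) hψ
  have hexp : ∀ (θ : Ch K) (η : Ch X), m θ ν ≠ 0 → IsExt θ η → ∀ (j : ℕ), ∀ c ∈ C,
      z η (c * s ^ j) = ∑ β : Bs, av η β j * z (bx β) (c * s ^ j) := by
    intro θ η hθ hη j c hc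
    rw [z_decomp hX'X η (X'.mul_mem (Subgroup.mem_sup_left hc) (X'.pow_mem hsX' j))]
    have e1 : ∑ ψ : Ch X', (m η ψ : ℂ) * z ψ (c * s ^ j) =
        ∑ ψ : Ps, (m η ψ.1 : ℂ) * z ψ.1 (c * s ^ j) := by
      rw [← Finset.sum_subtype (Finset.univ.filter fun ψ : Ch X' => m ψ ν ≠ 0) (fun x => by simp)
        fun ψ => (m η ψ : ℂ) * z ψ (c * s ^ j)]
      symm
      refine Finset.sum_subset (Finset.subset_univ _) fun ψ _ hψ => ?_
      rw [not_ne_iff.mp fun h0 => hψ (Finset.mem_filter.mpr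
        ⟨Finset.mem_univ _, hoverX hθ hη ψ h0⟩), Nat.cast_zero, zero_mul]
    rw [e1, ← Finset.sum_fiberwise Finset.univ bet]
    refine Finset.sum_congr rfl fun β _ => ?_
    rw [← Finset.sum_fiberwise_of_maps_to (t := μ) (g := val) (fun ψ _ => hval ψ),
      Finset.sum_mul]
    refine Finset.sum_congr rfl fun w _ => ?_
    rw [Finset.filter_filter]
    simp only [cf, Int.cast_sum, Int.cast_natCast, Finset.sum_mul]
    refine Finset.sum_congr rfl fun ψ hψ => ?_
    obtain ⟨-, hb, hw⟩ := Finset.mem_filter.mp hψ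
    rw [hzps ψ j c hc, hb, hw]
    ring
  have hcm : ∀ (θ : Ch K) (η : Ch X), m θ ν ≠ 0 → IsExt θ η → ∀ β : Bs,
      (m θ β.1 : ℤ) = ∑ w ∈ μ, cf η β w := by
    intro θ η hθ hη β
    have e1 : (m θ β.1 : ℂ) = ∑ γ : Bs, av η γ 0 * (m (bx γ) β.1 : ℂ) := by
      rw [m_eq_classInner (fixC_le L K R),
        show (fun b : C => z θ (b : Γ)) = ∑ γ : Bs, av η γ 0 • fun b : C => z (bx γ) (b : Γ) from
          funext fun b => by
            have h1 := hexp θ η hθ hη 0 b b.2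
            simp only [pow_zero, mul_one] at h1
            rw [← hη.2 _ (fixC_le L K R b.2), h1]
            simp,
        classInner_sum_left]
      simp only [classInner_smul_left, ← m_eq_classInner (le_sup_left : C ≤ X')]
    rw [Finset.sum_eq_single β (fun γ _ hne => by
        rw [not_ne_iff.mp fun h0 => hne (Subtype.ext (eq_of_fix_constituents (le_sup_left : C ≤ X')
          hX'N (fun g hg => by
            have h1 : X' ≤ stb (Nz C) γ.1 := sup_le
              (fun c hc => (mem_stb le_rfl).mpr ⟨Subgroup.le_normalizer hc, cj_of_mem hc _⟩)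
              (fun r hr => (mem_stb le_rfl).mpr ⟨h.nz_fixC hr, hBfix γ r hr⟩)
            exact (h1 hg).2.2)
          (by rw [(hbx γ).m_eq]; exact one_ne_zero) h0)).symm, Nat.cast_zero, mul_zero])
      (by simp), (hbx β).m_eq, Nat.cast_one, mul_one] at e1
    have e2 : ((m θ β.1 : ℤ) : ℂ) = ((∑ w ∈ μ, cf η β w : ℤ) : ℂ) := by
      push_cast
      rw [e1]
      simp [av]
    exact_mod_cast e2
  -- inner products on `C s ^ j`
  have hinner : ∀ (θ θ' : Ch K) (η η' : Ch X), m θ ν ≠ 0 → IsExt θ η → m θ' ν ≠ 0 → IsExt θ' η' →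
      ∀ j : ℕ, ∑ c : C, z η ((c : Γ) * s ^ j) * conj (z η' ((c : Γ) * s ^ j)) =
        (Nat.card C : ℂ) * ∑ β : Bs, av η β j * conj (av η' β j) := by
    intro θ θ' η η' hθ hη hθ' hη' j
    simp only [hexp θ η hθ hη j _ (SetLike.coe_mem _), hexp θ' η' hθ' hη' j _ (SetLike.coe_mem _),
      map_sum, map_mul, Finset.sum_mul_sum]
    rw [Finset.sum_comm, Finset.mul_sum]
    refine Finset.sum_congr rfl fun β _ => ?_
    rw [Finset.sum_comm]
    have e1 : ∀ β' : Bs, ∑ c : C, av η β j * z (bx β) ((c : Γ) * s ^ j) *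
        (conj (av η' β' j) * conj (z (bx β') ((c : Γ) * s ^ j))) =
        av η β j * conj (av η' β' j) * if β = β' then (Nat.card C : ℂ) else 0 := by
      intro β'
      rw [← horth _ (X'.pow_mem hsX' j) β β', Finset.mul_sum]
      exact Finset.sum_congr rfl fun c _ => by ring
    simp only [e1]
    rw [Finset.sum_eq_single β (fun β' _ hne => by rw [if_neg (Ne.symm hne), mul_zero]) (by simp),
      if_pos rfl]
    ring
  have hKC : ∀ (η η' : Ch X) (j : ℕ), ¬ p ∣ j →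
      (Nat.card C : ℂ) * ∑ k : K, z η ((k : Γ) * s ^ j) * conj (z η' ((k : Γ) * s ^ j)) =
        (Nat.card K : ℂ) * ∑ c : C, z η ((c : Γ) * s ^ j) * conj (z η' ((c : Γ) * s ^ j)) :=
    fun η η' j hj => h.card_sum_coset (R.pow_mem hs j) (h.le_zpowers_pow hs hR hj)
      (fun x => z η x * conj (z η' x)) fun g hg x => by
        rw [z_conj_self η (Subgroup.mem_sup_left hg), z_conj_self η' (Subgroup.mem_sup_left hg)]
  have hcard : (Nat.card C : ℂ) ≠ 0 := Nat.cast_ne_zero.mpr Nat.card_pos.ne'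
  have hcardK : (Nat.card K : ℂ) ≠ 0 := Nat.cast_ne_zero.mpr Nat.card_pos.ne'
  have hnorm : ∀ (θ : Ch K) (η : Ch X), m θ ν ≠ 0 → IsExt θ η → ∀ j : ℕ, ¬ p ∣ j →
      ∑ β : Bs, av η β j * conj (av η β j) = 1 := by
    intro θ η hθ hη j hj
    have h1 := hKC η η j hj
    rw [hinner θ θ η η hθ hη hθ hη, hη.sum_coset_self (X.pow_mem hsX j), ← mul_assoc,
      mul_comm (Nat.card K : ℂ)] at h1
    exact (mul_eq_left₀ (mul_ne_zero hcard hcardK)).mp h1.symm
  have hgal : ∀ (θ : Ch K) (η : Ch X), m θ ν ≠ 0 → IsExt θ η → ∃ β₀ : Bs, Cor p θ β₀.1 ∧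
      ∀ β ≠ β₀, ¬ Cor p θ β.1 ∧ av η β 1 = 0 := by
    intro θ η hθ hη
    obtain ⟨β₀, hβ₀, hoth⟩ := gal_unique (Fact.out : p.Prime) (cf η) (hnorm θ η hθ hη)
    refine ⟨β₀, fun hd => hβ₀ ?_, fun β hne => ⟨fun hc => hc ?_, (hoth β hne).2 1 ?_ ?_⟩⟩
    · rw [← hcm θ η hθ hη β₀]; exact Int.natCast_dvd_natCast.mpr hd
    · have h1 := (hoth β hne).1
      rw [← hcm θ η hθ hη β] at h1
      exact Int.natCast_dvd_natCast.mp h1
    · exact Nat.one_lt_pow (Nat.succ_ne_zero k) (Fact.out : p.Prime).one_lt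
    · exact (Fact.out : p.Prime).not_dvd_one
  constructor
  · intro θ hθ hfix
    obtain ⟨η, hη⟩ := hextK θ hfix
    obtain ⟨β₀, hβ₀, hoth⟩ := hgal θ η hθ hη
    refine ⟨β₀.1, hβ₀, fun β hβ => ?_⟩
    by_contra hne
    exact (hoth ⟨β, h.over_fixC hθ hβ.ne_zero⟩ fun he => hne (congrArg Subtype.val he)).1 hβ
  intro β hβ
  set b : Bs := ⟨β, hβ⟩
  -- surjectivity: a character of `X` not orthogonal to `bx b` on `C s`
  obtain ⟨χ, hχb, hχ⟩ : ∃ χ : Ch X, m χ (bx b) ≠ 0 ∧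
      ∑ c : C, z χ ((c : Γ) * s) * conj (z (bx b) ((c : Γ) * s)) ≠ 0 := by
    let Y : Subgroup X := X'.subgroupOf X
    let bY : Cfsg.IrrCharacter Y := sub hX'X (bx b)
    set F := Cfsg.indFun Y (bY : Y → ℂ) with hF
    have hFval : ∀ c : C, F ⟨(c : Γ) * s, hX'X (X'.mul_mem (Subgroup.mem_sup_left c.2) hsX')⟩ =
        z (bx b) ((c : Γ) * s) := by
      intro c
      set w : X := ⟨(c : Γ) * s, hX'X (X'.mul_mem (Subgroup.mem_sup_left c.2) hsX')⟩
      have hwX' : (w : Γ) ∈ X' := X'.mul_mem (Subgroup.mem_sup_left c.2) hsX'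
      have hkey : ∀ x : X, Cfsg.extendByZero Y (bY : Y → ℂ) (x⁻¹ * w * x) =
          if (x : Γ) ∈ X' then z (bx b) ((c : Γ) * s) else 0 := by
        intro x
        by_cases hx : x⁻¹ * w * x ∈ Y
        · rw [extendByZero_of_mem _ hx, sub_apply]
          have hxX' : (x : Γ) ∈ X' := by
            obtain ⟨g, hg, r, hr, hgr⟩ := CfsgLib.Solvable.exists_mul_of_mem_sup h.RK x.2
            have hr' : r ∈ X' := Subgroup.mem_sup_right hr
            have h1 : g⁻¹ * ((c : Γ) * s) * g ∈ X' := by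
              have h2 : (x : Γ)⁻¹ * ((c : Γ) * s) * x ∈ X' := hx
              rw [hgr] at h2
              have h3 := X'.mul_mem (X'.mul_mem hr' h2) (X'.inv_mem hr')
              simpa [mul_assoc] using h3
            set d := g⁻¹ * ((c : Γ) * s) * g * s⁻¹ with hd
            have hdC : d ∈ C := by
              have hdX' : d ∈ X' := X'.mul_mem h1 (X'.inv_mem hsX')
              obtain ⟨d', hd', r', hr'', he'⟩ :=
                CfsgLib.Solvable.exists_mul_of_mem_sup h.nz_fixC hdX'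
              have hdK : d ∈ K := by
                have e : d = g⁻¹ * c * (s * g * s⁻¹) := by rw [hd]; group
                rw [e]
                exact K.mul_mem (K.mul_mem (K.inv_mem hg) c.2.1)
                  ((Subgroup.mem_normalizer_iff.mp (h.RK hs) g).mp hg)
              rw [he'] at hdK ⊢
              refine C.mul_mem hd' (hLC (h.inf_le ?_ hr''))
              simpa using K.mul_mem (K.inv_mem hd'.1) hdK
            rw [hgr]
            refine X'.mul_mem (Subgroup.mem_sup_left (h.coset_unique hs hR hg hdC c.2 ?_)) hr'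
            rw [hd]; group
          rw [if_pos hxX']
          show z (bx b) ((x : Γ)⁻¹ * ((c : Γ) * s) * x) = _
          simpa using z_conj_self (bx b) (X'.inv_mem hxX') ((c : Γ) * s)
        · rw [extendByZero_of_notMem _ hx, if_neg fun hxX' => hx ?_]
          exact X'.mul_mem (X'.mul_mem (X'.inv_mem hxX') hwX') hxX'
      rw [hF, indFun_apply, Finset.sum_congr rfl fun x _ => hkey x, ← Finset.sum_filter,
        Finset.sum_const, nsmul_eq_mul, ← mul_assoc]
      have hc2 : (Finset.univ.filter fun x : X => (x : Γ) ∈ X').card = Nat.card Y := by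
        rw [Nat.card_eq_fintype_card, Fintype.card_subtype]
        exact congrArg Finset.card (Finset.filter_congr fun x _ => Subgroup.mem_subgroupOf.symm)
      rw [hc2, inv_mul_cancel₀ (Nat.cast_ne_zero.mpr Nat.card_pos.ne'), one_mul]
    have hdec := classFun_eq_sum (isClassFunction_indFun Y (bY : Y → ℂ))
    have htot : ∑ χ : Ch X, Cfsg.classInner F (χ : X → ℂ) *
        ∑ c : C, z χ ((c : Γ) * s) * conj (z (bx b) ((c : Γ) * s)) = (Nat.card C : ℂ) := by
      have h0 := horth s hsX' b b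
      rw [if_pos rfl] at h0
      rw [← h0]
      simp only [Finset.mul_sum, ← mul_assoc]
      rw [Finset.sum_comm]
      refine Finset.sum_congr rfl fun c _ => ?_
      rw [← Finset.sum_mul, ← hFval c, hF, congrFun hdec]
      simp only [Finset.sum_apply, Pi.smul_apply, smul_eq_mul, ← z_coe]
    obtain ⟨χ, -, hne⟩ := Finset.exists_ne_zero_of_sum_ne_zero (htot ▸ hcard)
    rw [mul_ne_zero_iff] at hne
    refine ⟨χ, fun h0 => hne.1 ?_, hne.2⟩
    rw [hF, frobenius_reciprocity Y _ (isClassFunction_of_isIrr χ.2), ← classInner_conj_symm,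
      classInner_res_sub hX'X, h0, Nat.cast_zero, map_zero]
  obtain ⟨θ, hθ⟩ := exists_under (le_sup_left : K ≤ X) χ
  have hχν : m χ ν ≠ 0 := m_trans_ne_zero hLC (le_sup_left.trans hX'X)
    (m_trans_ne_zero le_sup_left hX'X hχb (by rw [(hbx b).m_eq]; exact one_ne_zero)) hβ
  have hfixX : Fix X ν := fun g hg => by
    have h1 : X ≤ stb (Nz L) ν := sup_le
      (fun c hc => (mem_stb le_rfl).mpr ⟨h.KL hc, h.fK c hc⟩)
      (fun r hr => (mem_stb le_rfl).mpr ⟨h.RL hr, h.fR r hr⟩)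
    exact (h1 hg).2.2
  have hθν : m θ ν ≠ 0 := over_of_m h.LK le_sup_left (sup_le h.KL h.RL) hfixX hχν hθ
  have hθfix : Fix R θ := by
    refine fix_of_gen h.LK h.RK hs hR h.LR ?_
    by_contra hnf
    refine hχ (Finset.sum_eq_zero fun c _ => ?_)
    rw [vanish_off_stb le_sup_left hXN habX hθ
      (hX'X (X'.mul_mem (Subgroup.mem_sup_left c.2) hsX')) fun hmem => hnf ?_, zero_mul]
    have hc : (c : Γ)⁻¹ ∈ stb X θ := (mem_stb hXN).mpr
      ⟨Subgroup.mem_sup_left (K.inv_mem c.2.1), cj_of_mem (K.inv_mem c.2.1) θ⟩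
    have := (stb X θ).mul_mem hc hmem
    rw [inv_mul_cancel_left] at this
    exact this.2.2
  obtain ⟨η, hη⟩ := hextK θ hθfix
  obtain ⟨l, hl, hχe⟩ := exists_tw_of_over (le_sup_left : K ≤ X) hXN habX
    (by rw [hη.m_eq]; exact one_ne_zero : m η θ ≠ 0) hθ
  have hav : av η b 1 ≠ 0 := by
    intro h0
    refine hχ ?_
    have e1 : ∀ c : C, z χ ((c : Γ) * s) = lv l s * z η ((c : Γ) * s) := fun c => by
      rw [hχe, z_tw, lv_mul _ (Subgroup.mem_sup_left c.2.1) hsX, hl.lv le_sup_left c.2.1, one_mul,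
        mul_comm]
    simp only [e1, mul_assoc, ← Finset.mul_sum]
    refine mul_eq_zero_of_right _ ?_
    have e2 : ∀ c : C, z η ((c : Γ) * s) = ∑ β : Bs, av η β 1 * z (bx β) ((c : Γ) * s) := fun c => by
      have := hexp θ η hθν hη 1 c c.2
      rwa [pow_one] at this
    simp only [e2, Finset.sum_mul]
    rw [Finset.sum_comm]
    refine Finset.sum_eq_zero fun β _ => ?_
    simp only [mul_assoc, ← Finset.mul_sum]
    rw [horth s hsX' β b]
    split_ifs with hb
    · rw [hb, h0, zero_mul]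
    · rw [mul_zero]
  obtain ⟨β₀, hβ₀, hoth⟩ := hgal θ η hθν hη
  obtain rfl : b = β₀ := by
    by_contra hne
    exact hav (hoth b hne).2
  refine ⟨θ, ⟨⟨hθν, hθfix⟩, hβ₀⟩, ?_⟩
  rintro θ' ⟨⟨hθ', hfix'⟩, hcor'⟩
  by_contra hne
  obtain ⟨η', hη'⟩ := hextK θ' hfix'
  obtain ⟨β₁, -, hoth'⟩ := hgal θ' η' hθ' hη'
  obtain rfl : b = β₁ := by
    by_contra hne'
    exact (hoth' b hne').1 hcor'
  have hj : ¬ p ∣ 1 := (Fact.out : p.Prime).not_dvd_one
  have h1 := hKC η η' 1 hj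
  rw [sum_coset_ne hXN habX hη hη' (Ne.symm hne) (X.pow_mem hsX 1), mul_zero,
    hinner θ θ' η η' hθν hη hθ' hη', Finset.sum_eq_single b (fun β _ hb => by
      rw [(hoth β hb).2, zero_mul]) (by simp)] at h1
  have h2 := hnorm θ' η' hθ' hη' 1 hj
  rw [Finset.sum_eq_single b (fun β _ hb => by rw [(hoth' β hb).2, zero_mul]) (by simp)] at h2
  have hne2 : conj (av η' b 1) ≠ 0 := fun h0 => by simp [h0] at h2
  exact mul_ne_zero hcardK (mul_ne_zero hcard (mul_ne_zero hav hne2)) h1.symm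

end CfsgLib.CharBlocks.RelMcKay
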