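import Cfsg.Agent.Lib.CharBlocks.RelMcKay.Twist
import Cfsg.Agent.Lib.CharBlocks.RelGlauberman

/-!
# Counting characters of degree prime to `p` through Clifford theory

* `cnt p Y θ`: the characters of `Y` of degree prime to `p` over `θ`;
* `cnt_stb`: reduction to the stabiliser;
* `cnt_eq_sum`: splitting along the orbits of a transversal set of constituents.
-/

set_option autoImplicit false
set_option linter.unusedSectionVars false
set_option linter.unusedVariables false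

noncomputable section

namespace CfsgLib.CharBlocks.RelMcKay

open CfsgLib.Char CfsgLib.CharNormal

attribute [local instance] Fintype.ofFinite
attribute [local instance high] subFintype

variable {Γ : Type*} [Group Γ] [Finite Γ] {p : ℕ} {L K Y N : Subgroup Γ}

/-- The number of characters of `Y` of degree prime to `p` over `θ`. -/
def cnt (p : ℕ) (Y : Subgroup Γ) (θ : Ch K) : ℕ :=
  Nat.card {χ : Ch Y // ¬ p ∣ dg χ ∧ m χ θ ≠ 0}

/-- The size of the orbit under `N`. -/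
def orb (N : Subgroup Γ) (θ : Ch K) : ℕ := Nat.card {θ' : Ch K // ∃ g ∈ N, cj g θ = θ'}

theorem orb_pos (N : Subgroup Γ) (θ : Ch K) : 0 < orb N θ :=
  have : Nonempty {θ' : Ch K // ∃ g ∈ N, cj g θ = θ'} := ⟨⟨θ, 1, N.one_mem, cj_one θ⟩⟩
  Nat.card_pos

theorem orb_cj (hN : N ≤ Nz K) {g : Γ} (hg : g ∈ N) (θ : Ch K) : orb N (cj g θ) = orb N θ := by
  refine Nat.card_congr (Equiv.subtypeEquivRight fun θ' => ⟨?_, ?_⟩)
  · rintro ⟨h, hh, rfl⟩
    exact ⟨h * g, N.mul_mem hh hg, cj_mul (hN hh) (hN hg) θ⟩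
  · rintro ⟨h, hh, rfl⟩
    refine ⟨h * g⁻¹, N.mul_mem hh (N.inv_mem hg), ?_⟩
    rw [← cj_mul (hN (N.mul_mem hh (N.inv_mem hg))) (hN hg), inv_mul_cancel_right]

/-- Reduction to the stabiliser. -/
theorem cnt_stb [Fact p.Prime] (hKY : K ≤ Y) (hN : Y ≤ Nz K) (θ : Ch K)
    (hidx : ¬ p ∣ (stb Y θ).relIndex Y) : cnt p Y θ = cnt p (stb Y θ) θ := by
  classical
  have := normal_sub hN
  set T := stb Y θ
  have hTY : T ≤ Y := stb_le Y θ
  have hKT : K ≤ T := fun k hk => (mem_stb hN).mpr ⟨hKY hk, cj_of_mem hk θ⟩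
  let θY := sub hKY θ
  have hT : ∀ x : Y, x ∈ T.subgroupOf Y ↔
      conjFun (K.subgroupOf Y) x (θY : K.subgroupOf Y → ℂ) = (θY : K.subgroupOf Y → ℂ) := by
    intro x
    rw [Subgroup.mem_subgroupOf, mem_stb hN, conjFun_sub hKY hN]
    constructor
    · intro hx; rw [cj_inv_eq (hN x.2) hx.2]
    · intro hx
      refine ⟨x.2, ?_⟩
      have h2 := cj_inv_eq ((Nz K).inv_mem (hN x.2)) (sub_injective hKY (Subtype.ext hx))
      rwa [inv_inv] at h2
  have hKT' : K.subgroupOf Y ≤ T.subgroupOf Y := fun x hx => hKT hx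
  have hover : ∀ η : Ch T,
      Cfsg.classInner (fun n : K.subgroupOf Y => (sub hTY η : T.subgroupOf Y → ℂ) ⟨n, hKT' n.2⟩)
        (θY : K.subgroupOf Y → ℂ) = m η θ := by
    intro η
    rw [m_eq_classInner hKT,
      ← classInner_comp_mulEquiv (Subgroup.subgroupOfEquivOfLe hKY) (fun b : K => z η (b : Γ))]
    refine congrArg₂ Cfsg.classInner (funext fun n => ?_) rfl
    rw [sub_apply]
    rfl
  have hsurj : ∀ μ : Cfsg.IrrCharacter (T.subgroupOf Y), ∃ η : Ch T, sub hTY η = μ := fun μ =>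
    ⟨⟨(μ : T.subgroupOf Y → ℂ) ∘ (Subgroup.subgroupOfEquivOfLe hTY).symm,
      isIrr_comp_mulEquiv μ.2 _⟩, Subtype.ext (funext fun n => by
        show (μ : T.subgroupOf Y → ℂ)
          ((Subgroup.subgroupOfEquivOfLe hTY).symm (Subgroup.subgroupOfEquivOfLe hTY n)) = _
        rw [MulEquiv.symm_apply_apply])⟩
  have hup : ∀ η : {η : Ch T // ¬ p ∣ dg η ∧ m η θ ≠ 0},
      ∃ χ : {χ : Ch Y // ¬ p ∣ dg χ ∧ m χ θ ≠ 0},
        Cfsg.indFun (T.subgroupOf Y) (sub hTY η.1 : T.subgroupOf Y → ℂ) = (χ.1 : Y → ℂ) ∧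
        Cfsg.classInner (fun t : T.subgroupOf Y => (χ.1 : Y → ℂ) t)
          (sub hTY η.1 : T.subgroupOf Y → ℂ) = 1 := by
    rintro ⟨η, hp, hη⟩
    obtain ⟨χ, hχ, he, h1⟩ := RelGlauberman.exists_clifford_up (K.subgroupOf Y) (T.subgroupOf Y)
      θY.2 hT hKT' (sub hTY η) (by rw [hover]; exact Nat.cast_ne_zero.mpr hη)
    have hdeg : dg χ = T.relIndex Y * dg η := by
      have h2 := congrFun he 1
      rw [indFun_one, show ((sub hTY η : T.subgroupOf Y → ℂ) 1) = (η : T → ℂ) 1 from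
        congrArg (η : T → ℂ) (map_one _), apply_one_eq, apply_one_eq] at h2
      exact_mod_cast h2.symm
    refine ⟨⟨χ, ?_, ?_⟩, he, h1⟩
    · rw [hdeg]
      exact fun hd => ((Fact.out : p.Prime).dvd_mul.mp hd).elim hidx hp
    · rw [← Nat.cast_ne_zero (R := ℂ), ← classInner_res_sub hKY]
      exact hχ
  choose f hf hf1 using hup
  symm
  refine Nat.card_eq_of_bijective f ⟨fun a b hab => Subtype.ext ?_, fun χ => ?_⟩
  · obtain ⟨μ, -, -, -, hu⟩ := RelGlauberman.exists_clifford_down (K.subgroupOf Y) (T.subgroupOf Y)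
      θY.2 hT hKT' (f a).1.2
      (by rw [classInner_res_sub]; exact Nat.cast_ne_zero.mpr (f a).2.2)
    have ha := hu (sub hTY a.1) (by rw [hf1 a]; exact one_ne_zero)
      (by rw [hover]; exact Nat.cast_ne_zero.mpr a.2.2)
    have hb := hu (sub hTY b.1) (by rw [hab, hf1 b]; exact one_ne_zero)
      (by rw [hover]; exact Nat.cast_ne_zero.mpr b.2.2)
    exact sub_injective hTY (ha.trans hb.symm)
  · obtain ⟨μ, hμ, he, -, -⟩ := RelGlauberman.exists_clifford_down (K.subgroupOf Y)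
      (T.subgroupOf Y) θY.2 hT hKT' χ.1.2
      (by rw [classInner_res_sub]; exact Nat.cast_ne_zero.mpr χ.2.2)
    obtain ⟨η, rfl⟩ := hsurj μ
    rw [hover, Nat.cast_ne_zero] at hμ
    have hdeg : dg χ.1 = T.relIndex Y * dg η := by
      have h2 := congrFun he 1
      rw [indFun_one, show ((sub hTY η : T.subgroupOf Y → ℂ) 1) = (η : T → ℂ) 1 from
        congrArg (η : T → ℂ) (map_one _), apply_one_eq, apply_one_eq] at h2
      exact_mod_cast h2.symm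
    have hp' : ¬ p ∣ dg η := fun hd => χ.2.1 (hdeg ▸ hd.mul_left _)
    refine ⟨⟨η, hp', hμ⟩, Subtype.ext (Subtype.ext ?_)⟩
    rw [← hf ⟨η, hp', hμ⟩, he]

/-- Splitting along the orbits of a set of constituents. -/
theorem cnt_eq_sum (hLK : L ≤ K) (hKY : K ≤ Y) (hN : Y ≤ Nz K) (hNY : N ≤ Y) {ν : Ch L}
    (F : Finset (Ch K)) (hF : ∀ θ ∈ F, m θ ν ≠ 0) (hFN : ∀ θ ∈ F, ∀ g ∈ N, cj g θ ∈ F)
    (hex : ∀ χ : Ch Y, ¬ p ∣ dg χ → m χ ν ≠ 0 → ∃ θ ∈ F, m χ θ ≠ 0)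
    (huniq : ∀ (χ : Ch Y), ∀ θ ∈ F, ∀ θ' ∈ F, ¬ p ∣ dg χ → m χ θ ≠ 0 → m χ θ' ≠ 0 →
      ∃ g ∈ N, cj g θ = θ') :
    (cnt p Y ν : ℚ) = ∑ θ ∈ F, (cnt p Y θ : ℚ) / orb N θ := by
  classical
  simp only [cnt, Nat.card_eq_fintype_card, Fintype.card_subtype, Finset.card_filter, Nat.cast_sum,
    Finset.sum_div, Nat.cast_ite, Nat.cast_one, Nat.cast_zero]
  rw [Finset.sum_comm (s := F)]
  refine Finset.sum_congr rfl fun χ _ => ?_
  by_cases hχ : ¬ p ∣ dg χ ∧ m χ ν ≠ 0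
  · rw [if_pos hχ]
    obtain ⟨θ₀, hθ₀, hm⟩ := hex χ hχ.1 hχ.2
    have hiff : ∀ θ ∈ F,
        ((¬ p ∣ dg χ ∧ m χ θ ≠ 0) ↔ ∃ g ∈ N, cj g θ₀ = θ) := by
      intro θ hθ
      refine ⟨fun h => huniq χ θ₀ hθ₀ θ hθ hχ.1 hm h.2, ?_⟩
      rintro ⟨g, hg, rfl⟩
      exact ⟨hχ.1, by rw [m_cj_right hKY hN χ (hNY hg)]; exact hm⟩
    have hset : F.filter (fun θ => ¬ p ∣ dg χ ∧ m χ θ ≠ 0) =
        Finset.univ.filter fun θ => ∃ g ∈ N, cj g θ₀ = θ := by
      ext θ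
      simp only [Finset.mem_filter, Finset.mem_univ, true_and]
      refine ⟨fun h => (hiff θ h.1).mp h.2, ?_⟩
      rintro ⟨g, hg, rfl⟩
      exact ⟨hFN θ₀ hθ₀ g hg, (hiff _ (hFN θ₀ hθ₀ g hg)).mpr ⟨g, hg, rfl⟩⟩
    simp only [ite_div, zero_div]
    rw [← Finset.sum_filter, Finset.sum_congr hset fun θ hθ => ?_, Finset.sum_const,
      ← Fintype.card_subtype, ← Nat.card_eq_fintype_card, nsmul_eq_mul, mul_one_div, ← orb,
      div_self (Nat.cast_ne_zero.mpr (orb_pos N θ₀).ne')]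
    obtain ⟨g, hg, rfl⟩ := (Finset.mem_filter.mp hθ).2
    rw [orb_cj (hNY.trans hN) hg]
  · rw [if_neg hχ]
    refine (Finset.sum_eq_zero fun θ hθ => ?_).symm
    rw [if_neg fun h => hχ ⟨h.1, m_trans_ne_zero hLK hKY h.2 (hF θ hθ)⟩, zero_div]

end CfsgLib.CharBlocks.RelMcKay
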