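import Cfsg.Agent.Lib.CharBlocks.RelMcKay.Count
import Cfsg.Agent.Lib.CharBlocks.RelMcKay.Orbits

/-!
# The canonical correspondence between the extensions

For a corresponding pair `θ`, `φ` the extensions of `θ` to `K P` and those of `φ` to `C P` exist
simultaneously and are matched by a "balanced" condition, which commutes with conjugation.
-/

set_option autoImplicit false
set_option linter.unusedSectionVars false
set_option linter.unusedVariables false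

noncomputable section

namespace CfsgLib.CharBlocks.RelMcKay

open CfsgLib.Char CfsgLib.CharNormal
open scoped ComplexConjugate

attribute [local instance] Fintype.ofFinite
attribute [local instance high] subFintype

variable {Γ : Type*} [Group Γ] [Finite Γ] {p : ℕ} [Fact p.Prime] {L K P : Subgroup Γ} {ν : Ch L}

theorem eq_one_of_pow_dvd {q k e : ℕ} (hq : q.Prime) (he : e ∣ q ^ k) (h : ¬ q ∣ e) : e = 1 := by
  obtain ⟨i, -, rfl⟩ := (Nat.dvd_prime_pow hq).mp he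
  rcases Nat.eq_zero_or_pos i with hi | hi
  · rw [hi, pow_zero]
  · exact absurd (dvd_pow_self q hi.ne') h

theorem Setup.inf_sup_eq (h : Setup p L K P ν) {x : Γ} (hx : x ∈ fixC L K P ⊔ P) (hK : x ∈ K) :
    x ∈ fixC L K P := by
  obtain ⟨c, hc, r, hr, rfl⟩ := CfsgLib.Solvable.exists_mul_of_mem_sup h.nz_fixC hx
  refine Subgroup.mul_mem _ hc (h.le_fixC (h.inf_le ?_ hr))
  simpa using K.mul_mem (K.inv_mem hc.1) hK

theorem Setup.relIndex_sup (h : Setup p L K P ν) :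
    (∃ a, K.relIndex (K ⊔ P) = p ^ a) ∧ ∃ a, (fixC L K P).relIndex (fixC L K P ⊔ P) = p ^ a := by
  obtain ⟨a, ha⟩ := h.pR
  refine ⟨⟨a, ?_⟩, ⟨a, ?_⟩⟩
  · rw [relIndex_sup_of_le_nz h.RK, ← Subgroup.inf_relIndex_right, ← ha,
      show K ⊓ P = L from le_antisymm (fun x hx => h.inf_le hx.1 hx.2) (le_inf h.LK h.LR)]
  · rw [relIndex_sup_of_le_nz h.nz_fixC, ← Subgroup.inf_relIndex_right, ← ha,
      show fixC L K P ⊓ P = L from
        le_antisymm (fun x hx => h.inf_le hx.1.1 hx.2) (le_inf h.le_fixC h.LR)]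

section

variable {θ : Ch K} {φ : Ch (fixC L K P)}

theorem Setup.fixX (h : Setup p L K P ν) (hθP : Fix P θ) : Fix (K ⊔ P) θ :=
  fix_sup Subgroup.le_normalizer h.RK (fix_self θ) hθP

theorem Setup.fixX' (h : Setup p L K P ν) (hφ : m φ ν ≠ 0) : Fix (fixC L K P ⊔ P) φ :=
  fix_sup Subgroup.le_normalizer h.nz_fixC (fix_self φ) (h.fix_over hφ)

theorem Setup.sup_le_nz (h : Setup p L K P ν) :
    fixC L K P ⊔ P ≤ Nz (fixC L K P) := sup_le Subgroup.le_normalizer h.nz_fixC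

/-- The weights of an extension of `θ` on the extensions of `φ` add up to `m θ φ` modulo `p`. -/
theorem Setup.sum_weights (h : Setup p L K P ν) (hθ : m θ ν ≠ 0) (hc : Cor p θ φ)
    {e : Ch (K ⊔ P)} (he : IsExt θ e)
    [DecidablePred fun ψ : Ch (fixC L K P ⊔ P) => IsExt φ ψ] :
    ¬ p ∣ ∑ ψ ∈ Finset.univ.filter (fun ψ : Ch (fixC L K P ⊔ P) => IsExt φ ψ), m e ψ := by
  classical
  have hφν := h.over_fixC hθ hc.ne_zero
  have hX'X : fixC L K P ⊔ P ≤ K ⊔ P := sup_le_sup_right (fixC_le L K P) P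
  obtain ⟨-, a, ha⟩ := h.relIndex_sup
  have h1 : m θ φ = ∑ ψ : Ch (fixC L K P ⊔ P), m e ψ * m ψ φ := by
    rw [← he.m_below (fixC_le L K P) φ]
    exact m_trans le_sup_left hX'X e φ
  have h2 : (m θ φ : ZMod p) = ∑ ψ ∈ Finset.univ.filter
      (fun ψ : Ch (fixC L K P ⊔ P) => IsExt φ ψ), (m e ψ : ZMod p) := by
    rw [h1, Nat.cast_sum, Finset.sum_filter]
    refine Finset.sum_congr rfl fun ψ _ => ?_
    split_ifs with hψ
    · rw [hψ.m_eq, mul_one]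
    · rw [Nat.cast_mul]
      rcases eq_or_ne (m ψ φ) 0 with h0 | h0
      · simp [h0]
      refine mul_eq_zero_of_right _ ((ZMod.natCast_eq_zero_iff _ p).mpr ?_)
      by_contra hd
      refine hψ (isExt_of_m_eq_one le_sup_left h.sup_le_nz (h.fixX' hφν) ?_)
      refine eq_one_of_pow_dvd (k := a) (Fact.out : p.Prime) ?_ hd
      have h3 := (dg_dvd (le_sup_left : fixC L K P ≤ fixC L K P ⊔ P) h.sup_le_nz h0).2
      rwa [dg_eq_of_fix le_sup_left h.sup_le_nz (h.fixX' hφν) h0,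
        Nat.mul_div_cancel _ (dg_pos φ), ha] at h3
  intro hd
  refine hc ((ZMod.natCast_eq_zero_iff _ p).mp (h2.trans ?_))
  rw [← Nat.cast_sum, (ZMod.natCast_eq_zero_iff _ p).mpr hd]

theorem Setup.exists_ext_down (h : Setup p L K P ν) (hθ : m θ ν ≠ 0) (hc : Cor p θ φ)
    (he : Extends θ (K ⊔ P)) : Extends φ (fixC L K P ⊔ P) := by
  classical
  obtain ⟨e, he⟩ := he
  by_contra hne
  refine h.sum_weights hθ hc he ?_
  rw [Finset.sum_eq_zero fun ψ hψ => absurd ⟨ψ, (Finset.mem_filter.mp hψ).2⟩ hne]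
  exact dvd_zero p

theorem Setup.exists_ext_up (h : Setup p L K P ν) (hθP : Fix P θ) (hc : Cor p θ φ)
    (hd : Extends φ (fixC L K P ⊔ P)) : Extends θ (K ⊔ P) := by
  classical
  unfold Extends at hd ⊢
  set X := K ⊔ P with hX
  set X' := fixC L K P ⊔ P with hX'
  obtain ⟨δ, hδ⟩ := hd
  have hX'X : X' ≤ X := sup_le_sup_right (fixC_le L K P) P
  have hXN : X ≤ Nz K := sup_le Subgroup.le_normalizer h.RK
  let H : Subgroup X := X'.subgroupOf X
  set F := Cfsg.indFun H (RelMcKay.sub hX'X δ : H → ℂ) with hF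
  have hzero : ∀ y ∈ K, z δ y = z φ y := by
    intro y hy
    by_cases hyC : y ∈ fixC L K P
    · exact hδ.2 y hyC
    · rw [z_of_notMem φ hyC, z_of_notMem δ fun h' => hyC (h.inf_sup_eq h' hy)]
  have hext : ∀ x : X, ∀ y : X,
      Cfsg.extendByZero H (RelMcKay.sub hX'X δ : H → ℂ) (x⁻¹ * y * x) =
        z δ ((x : Γ)⁻¹ * y * x) := by
    intro x y
    by_cases hm : x⁻¹ * y * x ∈ H
    · rw [extendByZero_of_mem _ hm, sub_apply]
      rfl
    · rw [extendByZero_of_notMem _ hm]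
      exact (z_of_notMem δ fun h' => hm h').symm
  have hinf : K ⊓ X' = fixC L K P := le_antisymm (fun x hx => h.inf_sup_eq hx.2 hx.1)
    (le_inf (fixC_le L K P) le_sup_left)
  have hgen : X ≤ K ⊔ X' := sup_le le_sup_left (le_sup_right.trans le_sup_right)
  have hval : ∀ k : K, (Nat.card (fixC L K P) : ℂ) * F ⟨k, Subgroup.mem_sup_left k.2⟩ =
      ∑ g : K, z φ ((g : Γ)⁻¹ * k * g) := by
    intro k
    have h1 := sum_prod_fibre (X := K) (Y := X) (W := X') hXN le_sup_left hX'X hgen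
      fun x => z δ (x⁻¹ * k * x)
    rw [hinf] at h1
    have h2 : ∀ (r : X') (g : K), z δ (((g : Γ) * r)⁻¹ * k * ((g : Γ) * r)) =
        z φ ((g : Γ)⁻¹ * k * g) := by
      intro r g
      rw [show ((g : Γ) * r)⁻¹ * k * ((g : Γ) * r) =
        (r : Γ)⁻¹ * ((g : Γ)⁻¹ * k * g) * ((r : Γ)⁻¹)⁻¹ by group,
        z_conj_self δ (X'.inv_mem r.2)]
      exact hzero _ (K.mul_mem (K.mul_mem (K.inv_mem g.2) k.2) g.2)
    simp only [h2, Finset.sum_const, Finset.card_univ, ← Nat.card_eq_fintype_card,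
      nsmul_eq_mul] at h1
    rw [hF, indFun_apply]
    simp only [hext]
    rw [mul_left_comm, h1, Nat.card_congr (Subgroup.subgroupOfEquivOfLe hX'X).toEquiv, ← mul_assoc,
      inv_mul_cancel₀ ?_, one_mul]
    · rw [Nat.cast_ne_zero]; exact Nat.card_pos.ne'
  have hFdec : ∀ k : K, F ⟨k, Subgroup.mem_sup_left k.2⟩ =
      ∑ χ : Ch X, (m χ δ : ℂ) * z χ (k : Γ) := by
    intro k
    have h1 := congrFun (classFun_eq_sum (isClassFunction_indFun H
      (RelMcKay.sub hX'X δ : H → ℂ))) ⟨k, Subgroup.mem_sup_left k.2⟩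
    rw [← hF] at h1
    rw [h1]
    simp only [Finset.sum_apply, Pi.smul_apply, smul_eq_mul, ← z_coe]
    refine Finset.sum_congr rfl fun χ _ => ?_
    rw [hF, frobenius_reciprocity H _ (isClassFunction_of_isIrr χ.2), ← classInner_conj_symm,
      classInner_res_sub hX'X, map_natCast]
  have hC0 : (Nat.card (fixC L K P) : ℂ) ≠ 0 := Nat.cast_ne_zero.mpr Nat.card_pos.ne'
  have hK0 : (Nat.card K : ℂ) ≠ 0 := Nat.cast_ne_zero.mpr Nat.card_pos.ne'
  have hid : (∑ χ : Ch X, m χ δ * m χ θ : ℕ) = m θ φ := by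
    have h1 : (Nat.card (fixC L K P) : ℂ) *
        ∑ k : K, F ⟨k, Subgroup.mem_sup_left k.2⟩ * conj (z θ k) =
        (Nat.card K : ℂ) * ∑ k : K, z φ (k : Γ) * conj (z θ k) := by
      simp only [Finset.mul_sum, ← mul_assoc, hval, Finset.sum_mul]
      rw [Finset.sum_comm, Finset.sum_congr rfl fun g _ => Fintype.sum_equiv
        (MulAut.conj (g⁻¹ : K)).toEquiv (fun k : K => z φ ((g : Γ)⁻¹ * k * g) * conj (z θ k))
        (fun k : K => z φ (k : Γ) * conj (z θ k)) fun k => ?_]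
      · rw [Finset.sum_const, Finset.card_univ, ← Nat.card_eq_fintype_card, nsmul_eq_mul,
          Finset.mul_sum]
        exact Finset.sum_congr rfl fun k _ => by ring
      · show _ = z φ ((g : Γ)⁻¹ * k * ((g : Γ)⁻¹)⁻¹) * conj (z θ ((g : Γ)⁻¹ * k * ((g : Γ)⁻¹)⁻¹))
        rw [z_conj_self θ (K.inv_mem g.2), inv_inv]
    have h2 : ∑ k : K, F ⟨k, Subgroup.mem_sup_left k.2⟩ * conj (z θ k) =
        (Nat.card K : ℂ) * ((∑ χ : Ch X, m χ δ * m χ θ : ℕ) : ℂ) := by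
      simp only [hFdec, Finset.sum_mul]
      rw [Finset.sum_comm, Nat.cast_sum, Finset.mul_sum]
      refine Finset.sum_congr rfl fun χ _ => ?_
      simp only [mul_assoc, ← Finset.mul_sum]
      rw [← m_sum (le_sup_left : K ≤ X), Nat.cast_mul]
      ring
    have h3 : ∑ k : K, z φ (k : Γ) * conj (z θ k) =
        (m θ φ : ℂ) * (Nat.card (fixC L K P) : ℂ) := by
      have h4 : conj ((m θ φ : ℂ) * (Nat.card (fixC L K P) : ℂ)) =
          (m θ φ : ℂ) * (Nat.card (fixC L K P) : ℂ) := by simp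
      rw [← h4, m_sum (fixC_le L K P), map_sum]
      have e : ∀ k : K, z φ (k : Γ) * conj (z θ k) =
          if (k : Γ) ∈ fixC L K P then z φ (k : Γ) * conj (z θ k) else 0 := by
        intro k
        split_ifs with hk
        · rfl
        · rw [z_of_notMem φ hk, zero_mul]
      rw [Finset.sum_congr rfl fun k _ => e k, ← Finset.sum_filter]
      refine Finset.sum_bij (fun k hk => (⟨(k : Γ), (Finset.mem_filter.mp hk).2⟩ : fixC L K P))
        (fun _ _ => Finset.mem_univ _)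
        (fun a _ b _ hab => Subtype.ext (congrArg Subtype.val hab :))
        (fun b _ => ⟨⟨b, fixC_le L K P b.2⟩,
          Finset.mem_filter.mpr ⟨Finset.mem_univ _, b.2⟩, rfl⟩)
        fun k _ => by rw [map_mul, Complex.conj_conj, mul_comm]
    rw [h2, h3] at h1
    have h4 : ((∑ χ : Ch X, m χ δ * m χ θ : ℕ) : ℂ) = (m θ φ : ℂ) :=
      mul_left_cancel₀ (mul_ne_zero hC0 hK0) (by linear_combination h1)
    exact_mod_cast h4
  obtain ⟨a, ha⟩ := h.relIndex_sup.1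
  by_contra hne
  refine hc (hid ▸ Finset.dvd_sum fun χ _ => ?_)
  rcases eq_or_ne (m χ θ) 0 with h0 | h0
  · simp [h0]
  refine Dvd.dvd.mul_left ?_ _
  by_contra hd
  refine hne ⟨χ, isExt_of_m_eq_one le_sup_left hXN (h.fixX hθP) ?_⟩
  refine eq_one_of_pow_dvd (k := a) (Fact.out : p.Prime) ?_ hd
  have h3 := (dg_dvd (le_sup_left : K ≤ X) hXN h0).2
  rwa [dg_eq_of_fix le_sup_left hXN (h.fixX hθP) h0, Nat.mul_div_cancel _ (dg_pos θ), ha] at h3

theorem IsExt.tw_tw_ratio {Z X : Subgroup Γ} {α : Ch Z} {η : Ch X} (h : IsExt α η) {a b : X →* ℂˣ}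
    (ha : TrivOn Z a) (hb : TrivOn Z b) :
    RelMcKay.tw (RelMcKay.tw η a) (b * a⁻¹) = RelMcKay.tw η b := by
  rw [← tw_mul, show a * (b * a⁻¹) = b from MonoidHom.ext fun x => by simp]

/-- The extensions of a character form a finite type. -/
@[reducible] def extFintype {Z X : Subgroup Γ} (α : Ch Z) : Fintype {η : Ch X // IsExt α η} :=
  Fintype.ofFinite _

attribute [local instance high] extFintype

/-- `d` is balanced for `e`: the weighted product of the ratios `ψ / d` is trivial. -/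
def Bal (φ : Ch (fixC L K P)) (e : Ch (K ⊔ P)) (d : Ch (fixC L K P ⊔ P)) : Prop :=
  IsExt φ d ∧ ∃ r : {ψ : Ch (fixC L K P ⊔ P) // IsExt φ ψ} → (↥(fixC L K P ⊔ P) →* ℂˣ),
    (∀ ψ, TrivOn (fixC L K P) (r ψ) ∧ ψ.1 = RelMcKay.tw d (r ψ)) ∧ ∏ ψ, r ψ ^ m e ψ.1 = 1

theorem Setup.bal_unique_exists (h : Setup p L K P ν) (hθ : m θ ν ≠ 0) (hc : Cor p θ φ)
    {e : Ch (K ⊔ P)} (he : IsExt θ e) : ∃! d, Bal φ e d := by
  classical
  obtain ⟨d₀, hd₀⟩ := h.exists_ext_down hθ hc ⟨e, he⟩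
  choose r₀ hr₀ hr₀e using fun ψ : {ψ : Ch (fixC L K P ⊔ P) // IsExt φ ψ} =>
    hd₀.exists_tw h.sup_le_nz ψ.2
  obtain ⟨-, a, ha⟩ := h.relIndex_sup
  set S := ∑ ψ : {ψ : Ch (fixC L K P ⊔ P) // IsExt φ ψ}, m e ψ.1 with hSdef
  have hS : ¬ p ∣ S := by
    rw [hSdef, ← Finset.sum_subtype (Finset.univ.filter fun ψ : Ch (fixC L K P ⊔ P) => IsExt φ ψ)
      (fun x => by simp) fun ψ => m e ψ]
    exact h.sum_weights hθ hc he
  have hpow : ∀ l : ↥(fixC L K P ⊔ P) →* ℂˣ, TrivOn (fixC L K P) l → l ^ p ^ a = 1 :=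
    fun l hl => ha ▸ hl.pow_relIndex h.sup_le_nz
  obtain ⟨t, ht⟩ : ∃ t, S * t ≡ 1 [MOD p ^ a] := by
    have hcop : S.Coprime (p ^ a) :=
      (((Fact.out : p.Prime).coprime_iff_not_dvd.mpr hS).symm).pow_right a
    rcases Nat.lt_or_ge 1 (p ^ a) with h1 | h1
    · obtain ⟨c, -, hc'⟩ := Nat.exists_mul_mod_eq_one_of_coprime hcop h1
      exact ⟨c, by rw [Nat.ModEq, hc', Nat.mod_eq_of_lt h1]⟩
    · exact ⟨0, by
        have : p ^ a = 1 := le_antisymm h1 (pow_pos (Fact.out : p.Prime).pos a)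
        rw [this]; exact Nat.modEq_one⟩
  have hinv : ∀ l : ↥(fixC L K P ⊔ P) →* ℂˣ, TrivOn (fixC L K P) l → (l ^ S) ^ t = l := by
    intro l hl
    refine MonoidHom.ext fun x => ?_
    show (l x ^ S) ^ t = l x
    rw [← pow_mul]
    conv_rhs => rw [← pow_one (l x)]
    exact pow_eq_pow_of_modEq ht (DFunLike.congr_fun (hpow l hl) x)
  have hprod : ∀ μ : ↥(fixC L K P ⊔ P) →* ℂˣ,
      ∏ ψ, (r₀ ψ * μ⁻¹) ^ m e ψ.1 = (∏ ψ, r₀ ψ ^ m e ψ.1) * (μ ^ S)⁻¹ := fun μ => by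
    refine MonoidHom.ext fun x => ?_
    have h1 : ∀ (g : _ → (↥(fixC L K P ⊔ P) →* ℂˣ)), (∏ ψ : {ψ : Ch (fixC L K P ⊔ P) // IsExt φ ψ},
        g ψ ^ m e ψ.1) x = ∏ ψ, g ψ x ^ m e ψ.1 := fun g => by
      rw [MonoidHom.finset_prod_apply]; rfl
    show _ = (∏ ψ, r₀ ψ ^ m e ψ.1) x * (μ x ^ S)⁻¹
    rw [h1, h1, hSdef, ← Finset.prod_pow_eq_pow_sum, ← Finset.prod_inv_distrib,
      ← Finset.prod_mul_distrib]
    exact Finset.prod_congr rfl fun ψ _ => by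
      show (r₀ ψ x * (μ x)⁻¹) ^ _ = _
      rw [mul_pow, inv_pow]
  have hPtriv : TrivOn (fixC L K P) (∏ ψ, r₀ ψ ^ m e ψ.1) :=
    Finset.prod_induction _ (TrivOn (fixC L K P)) (fun _ _ => TrivOn.mul) trivOn_one
      fun ψ _ => (hr₀ ψ).pow _
  set μ₀ := (∏ ψ, r₀ ψ ^ m e ψ.1) ^ t with hμ₀
  have hμ₀S : μ₀ ^ S = ∏ ψ, r₀ ψ ^ m e ψ.1 := by
    refine MonoidHom.ext fun x => ?_
    have h1 := DFunLike.congr_fun (hinv _ hPtriv) x
    simp only [hμ₀, MonoidHom.pow_apply] at h1 ⊢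
    rw [← pow_mul] at h1
    rw [← pow_mul, mul_comm t, h1]
  refine ⟨RelMcKay.tw d₀ μ₀, ⟨hd₀.tw (hPtriv.pow t), fun ψ => r₀ ψ * μ₀⁻¹, fun ψ =>
    ⟨(hr₀ ψ).mul (hPtriv.pow t).inv, ?_⟩, ?_⟩, ?_⟩
  · exact (hr₀e ψ).trans (hd₀.tw_tw_ratio (hPtriv.pow t) (hr₀ ψ)).symm
  · refine (hprod μ₀).trans ?_
    rw [hμ₀S]
    refine MonoidHom.ext fun x => ?_
    show _ * ((∏ ψ, r₀ ψ ^ m e ψ.1) x)⁻¹ = (1 : ℂˣ)
    exact mul_inv_cancel _
  · rintro d ⟨hd, r, hr, hr1⟩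
    obtain ⟨μ, hμ, rfl⟩ := hd₀.exists_tw h.sup_le_nz hd
    have hreq : ∀ ψ, r ψ = r₀ ψ * μ⁻¹ := fun ψ => (hd₀.tw hμ).tw_inj (hr ψ).1
      ((hr₀ ψ).mul hμ.inv)
      ((hr ψ).2.symm.trans ((hr₀e ψ).trans (hd₀.tw_tw_ratio hμ (hr₀ ψ)).symm))
    rw [Finset.prod_congr rfl fun ψ _ => by rw [hreq ψ]] at hr1
    replace hr1 : (∏ ψ, r₀ ψ ^ m e ψ.1) = μ ^ S := MonoidHom.ext fun x =>
      mul_inv_eq_one.mp (DFunLike.congr_fun ((hprod μ).symm.trans hr1) x)
    congr 1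
    rw [hμ₀, hr1, hinv μ hμ]

/-- Balanced pairs are preserved by conjugation. -/
theorem Setup.bal_cj (h : Setup p L K P ν) {g : Γ} (hgK : g ∈ Nz K) (hgP : g ∈ Nz P)
    (hgL : g ∈ Nz L) (hgφ : cj g φ = φ) {e : Ch (K ⊔ P)} {d : Ch (fixC L K P ⊔ P)}
    (hb : Bal φ e d) : Bal φ (cj g e) (cj g d) := by
  classical
  obtain ⟨hd, r, hr, hr1⟩ := hb
  have hgC : g ∈ Nz (fixC L K P) := fixC_nz hgL hgK hgP
  have hsup : ∀ {A B : Subgroup Γ}, g ∈ Nz A → g ∈ Nz B → g ∈ Nz (A ⊔ B) := by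
    intro A B hA hB
    have key : ∀ g, g ∈ Nz A → g ∈ Nz B → ∀ x ∈ A ⊔ B, g * x * g⁻¹ ∈ A ⊔ B := by
      intro g hA hB x hx
      have h1 : A ⊔ B ≤ (A ⊔ B).comap (MulAut.conj g).toMonoidHom := sup_le
        (fun a ha => Subgroup.mem_sup_left ((Subgroup.mem_normalizer_iff.mp hA a).mp ha))
        (fun a ha => Subgroup.mem_sup_right ((Subgroup.mem_normalizer_iff.mp hB a).mp ha))
      exact h1 hx
    rw [Subgroup.mem_normalizer_iff]
    refine fun x => ⟨key g hA hB x, fun hx => ?_⟩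
    have h1 := key g⁻¹ ((Nz A).inv_mem hA) ((Nz B).inv_mem hB) _ hx
    simpa [mul_assoc] using h1
  have hX' : g ∈ Nz (fixC L K P ⊔ P) := hsup hgC hgP
  have hX : g ∈ Nz (K ⊔ P) := hsup hgK hgP
  have hX'X : fixC L K P ⊔ P ≤ K ⊔ P := sup_le_sup_right (fixC_le L K P) P
  have hext : ∀ ψ, IsExt φ ψ → IsExt φ (cj g ψ) := fun ψ hψ => by
    have := hψ.cj hX' hgC
    rwa [hgφ] at this
  have hinv : ∀ ψ, IsExt φ ψ → IsExt φ (cj g⁻¹ ψ) := fun ψ hψ => by
    have := hψ.cj ((Nz _).inv_mem hX') ((Nz _).inv_mem hgC)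
    rwa [cj_inv_eq hgC hgφ] at this
  let σ : {ψ : Ch (fixC L K P ⊔ P) // IsExt φ ψ} ≃ {ψ : Ch (fixC L K P ⊔ P) // IsExt φ ψ} :=
    { toFun := fun ψ => ⟨cj g ψ.1, hext _ ψ.2⟩
      invFun := fun ψ => ⟨cj g⁻¹ ψ.1, hinv _ ψ.2⟩
      left_inv := fun ψ => Subtype.ext (cj_inv_eq hX' rfl)
      right_inv := fun ψ => Subtype.ext (by
        show cj g (cj g⁻¹ ψ.1) = ψ.1
        rw [← cj_mul hX' ((Nz _).inv_mem hX'), mul_inv_cancel, cj_one]) }
  let tr : (↥(fixC L K P ⊔ P) →* ℂˣ) →* (↥(fixC L K P ⊔ P) →* ℂˣ) :=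
    MonoidHom.compHom' (cjEquiv g hX').toMonoidHom
  refine ⟨hext d hd, fun ψ => tr (r (σ.symm ψ)), fun ψ => ⟨?_, ?_⟩, ?_⟩
  · intro x hx
    refine (hr (σ.symm ψ)).1 (cjEquiv g hX' x) ?_
    show g⁻¹ * (x : Γ) * g ∈ fixC L K P
    simpa using (Subgroup.mem_normalizer_iff.mp ((Nz _).inv_mem hgC) _).mp hx
  · have h1 : ψ.1 = cj g (σ.symm ψ).1 := congrArg Subtype.val (σ.apply_symm_apply ψ).symm
    rw [h1, (hr (σ.symm ψ)).2]
    refine Ch_ext fun x hx => ?_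
    rw [z_cj hX', z_tw, z_tw, z_cj hX']
    congr 1
    have hmem : g⁻¹ * x * g ∈ fixC L K P ⊔ P := by
      simpa using (Subgroup.mem_normalizer_iff.mp ((Nz _).inv_mem hX') _).mp hx
    rw [lv_of_mem _ hmem, lv_of_mem _ hx]
    simp only [Equiv.symm_apply_apply]
    rfl
  · refine (σ.prod_comp _).symm.trans ?_
    simp only [Equiv.symm_apply_apply]
    have e1 : ∀ ψ, m (cj g e) (σ ψ).1 = m e ψ.1 := fun ψ => m_cj hX'X hX hX' e ψ.1
    simp only [e1]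
    refine Eq.trans ?_ (map_one tr)
    refine Eq.trans ?_ (congrArg tr hr1)
    rw [map_prod]
    exact Finset.prod_congr rfl fun ψ _ => (map_pow tr _ _).symm

/-- Balanced pairs are preserved by twisting. -/
theorem Setup.bal_tw (h : Setup p L K P ν) {e : Ch (K ⊔ P)} {d : Ch (fixC L K P ⊔ P)}
    (hb : Bal φ e d) {l : ↥(K ⊔ P) →* ℂˣ} (hl : TrivOn K l) :
    Bal φ (RelMcKay.tw e l) (RelMcKay.tw d
      (l.comp (Subgroup.inclusion (sup_le_sup_right (fixC_le L K P) P)))) := by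
  classical
  obtain ⟨hd, r, hr, hr1⟩ := hb
  set l' := l.comp (Subgroup.inclusion (sup_le_sup_right (fixC_le L K P) P)) with hl'
  have hl't : TrivOn (fixC L K P) l' := fun x hx => hl _ (fixC_le L K P hx)
  let σ : {ψ : Ch (fixC L K P ⊔ P) // IsExt φ ψ} ≃ {ψ : Ch (fixC L K P ⊔ P) // IsExt φ ψ} :=
    { toFun := fun ψ => ⟨RelMcKay.tw ψ.1 l', ψ.2.tw hl't⟩
      invFun := fun ψ => ⟨RelMcKay.tw ψ.1 l'⁻¹, ψ.2.tw hl't.inv⟩
      left_inv := fun ψ => Subtype.ext (by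
        show RelMcKay.tw (RelMcKay.tw ψ.1 l') l'⁻¹ = ψ.1
        rw [← tw_mul, show l' * l'⁻¹ = 1 from mul_inv_cancel l', tw_one])
      right_inv := fun ψ => Subtype.ext (by
        show RelMcKay.tw (RelMcKay.tw ψ.1 l'⁻¹) l' = ψ.1
        rw [← tw_mul, show l'⁻¹ * l' = 1 from inv_mul_cancel l', tw_one]) }
  refine ⟨hd.tw hl't, fun ψ => r (σ.symm ψ), fun ψ => ⟨(hr _).1, ?_⟩, ?_⟩
  · rw [show ψ.1 = RelMcKay.tw (σ.symm ψ).1 l' from
      congrArg Subtype.val (σ.apply_symm_apply ψ).symm, (hr _).2, ← tw_mul, ← tw_mul]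
    exact congrArg (RelMcKay.tw d) ((mul_comm (r (σ.symm ψ)) l').trans (by
      simp only [Equiv.symm_apply_apply]))
  · refine (σ.prod_comp _).symm.trans ?_
    simp only [Equiv.symm_apply_apply]
    have e1 : ∀ ψ, m (RelMcKay.tw e l) (σ ψ).1 = m e ψ.1 := fun ψ =>
      m_tw (sup_le_sup_right (fixC_le L K P) P) e ψ.1 l
    simp only [e1, hr1]

/-- Twists of the bottom extensions lift. -/
theorem Setup.lift_lin (h : Setup p L K P ν) {μ : ↥(fixC L K P ⊔ P) →* ℂˣ}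
    (hμ : TrivOn (fixC L K P) μ) : ∃ l : ↥(K ⊔ P) →* ℂˣ, TrivOn K l ∧
      l.comp (Subgroup.inclusion (sup_le_sup_right (fixC_le L K P) P)) = μ := by
  classical
  let X := K ⊔ P
  let X' := fixC L K P ⊔ P
  have hX'X : X' ≤ X := sup_le_sup_right (fixC_le L K P) P
  have := normal_sub (X := X) (K := K) (sup_le Subgroup.le_normalizer h.RK)
  have := normal_sub (X := X') (K := fixC L K P) h.sup_le_nz
  let ι : X' ⧸ (fixC L K P).subgroupOf X' →* X ⧸ K.subgroupOf X :=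
    QuotientGroup.map _ _ (Subgroup.inclusion hX'X) fun x hx => fixC_le L K P hx
  have hι : Function.Bijective ι := by
    constructor
    · rw [injective_iff_map_eq_one]
      intro q hq
      obtain ⟨x, rfl⟩ := QuotientGroup.mk_surjective q
      exact (QuotientGroup.eq_one_iff x).mpr
        (h.inf_sup_eq x.2 ((QuotientGroup.eq_one_iff (Subgroup.inclusion hX'X x)).mp hq))
    · intro q
      obtain ⟨x, rfl⟩ := QuotientGroup.mk_surjective q
      obtain ⟨k, hk, r, hr, he⟩ := CfsgLib.Solvable.exists_mul_of_mem_sup h.RK x.2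
      refine ⟨((⟨r, Subgroup.mem_sup_right hr⟩ : X') : X' ⧸ (fixC L K P).subgroupOf X'), ?_⟩
      show ((Subgroup.inclusion hX'X ⟨r, Subgroup.mem_sup_right hr⟩ : X) : X ⧸ K.subgroupOf X) = _
      rw [QuotientGroup.eq_iff_div_mem, Subgroup.mem_subgroupOf]
      show r / (x : Γ) ∈ K
      rw [he, div_eq_mul_inv, mul_inv_rev, mul_inv_cancel_left]
      exact K.inv_mem hk
  let μq := QuotientGroup.lift ((fixC L K P).subgroupOf X') μ fun x hx => MonoidHom.mem_ker.mpr (hμ x hx)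
  let ee := MulEquiv.ofBijective ι hι
  refine ⟨(μq.comp ee.symm.toMonoidHom).comp (QuotientGroup.mk' (K.subgroupOf X)), ?_, ?_⟩
  · intro x hx
    show μq (ee.symm (x : X ⧸ K.subgroupOf X)) = 1
    rw [(QuotientGroup.eq_one_iff x).mpr (Subgroup.mem_subgroupOf.mpr hx), map_one, map_one]
  · ext x
    show ((μq (ee.symm ((Subgroup.inclusion hX'X x : X) : X ⧸ K.subgroupOf X)) : ℂˣ) : ℂ) = _
    rw [show ((Subgroup.inclusion hX'X x : X) : X ⧸ K.subgroupOf X) =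
      ee (x : X' ⧸ (fixC L K P).subgroupOf X') from rfl, ee.symm_apply_apply]
    rfl

/-- The canonical bijection between the extensions. -/
theorem Setup.ext_bijection (h : Setup p L K P ν) (hθ : m θ ν ≠ 0) (hθP : Fix P θ)
    (hc : Cor p θ φ) :
    ∃ f : {e : Ch (K ⊔ P) // IsExt θ e} ≃ {d : Ch (fixC L K P ⊔ P) // IsExt φ d},
      ∀ (g : Γ), g ∈ Nz K → g ∈ Nz P → g ∈ Nz L → cj g φ = φ → ∀ e e',
        cj g e.1 = e'.1 → cj g (f e).1 = (f e').1 := by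
  classical
  choose d hd hdu using fun e : {e : Ch (K ⊔ P) // IsExt θ e} => h.bal_unique_exists hθ hc e.2
  let f : {e : Ch (K ⊔ P) // IsExt θ e} → {d : Ch (fixC L K P ⊔ P) // IsExt φ d} :=
    fun e => ⟨d e, (hd e).1⟩
  have hXN : K ⊔ P ≤ Nz K := sup_le Subgroup.le_normalizer h.RK
  have htw : ∀ e (l : ↥(K ⊔ P) →* ℂˣ) (hl : TrivOn K l),
      d ⟨RelMcKay.tw e.1 l, e.2.tw hl⟩ = RelMcKay.tw (d e)
        (l.comp (Subgroup.inclusion (sup_le_sup_right (fixC_le L K P) P))) :=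
    fun e l hl => (hdu ⟨RelMcKay.tw e.1 l, e.2.tw hl⟩ _ (h.bal_tw (hd e) hl)).symm
  have hbij : Function.Bijective f := by
    constructor
    · intro e e' hee
      obtain ⟨l, hl, he⟩ := e.2.exists_tw hXN e'.2
      have he' : e' = ⟨RelMcKay.tw e.1 l, e.2.tw hl⟩ := Subtype.ext he
      have h1 : RelMcKay.tw (d e)
          (l.comp (Subgroup.inclusion (sup_le_sup_right (fixC_le L K P) P))) = d e := by
        rw [← htw e l hl, ← he']
        exact (congrArg Subtype.val hee).symm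
      have h2 := (hd e).1.tw_eq_self (fun x hx => hl _ (fixC_le L K P hx)) h1
      have h3 : l = 1 := MonoidHom.ext fun x => by
        obtain ⟨k, hk, r, hr, hx⟩ := CfsgLib.Solvable.exists_mul_of_mem_sup h.RK x.2
        have hx' : x = ⟨k, Subgroup.mem_sup_left hk⟩ * Subgroup.inclusion
            (sup_le_sup_right (fixC_le L K P) P) ⟨r, Subgroup.mem_sup_right hr⟩ := Subtype.ext hx
        rw [hx', map_mul, hl _ hk, one_mul]
        exact DFunLike.congr_fun h2 _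
      exact Subtype.ext (by rw [he, h3, tw_one])
    · intro δ
      obtain ⟨e₀, he₀⟩ := h.exists_ext_up hθP hc ⟨δ.1, δ.2⟩
      obtain ⟨μ, hμ, hμe⟩ := (hd ⟨e₀, he₀⟩).1.exists_tw h.sup_le_nz δ.2
      obtain ⟨l, hl, hlμ⟩ := h.lift_lin hμ
      exact ⟨⟨RelMcKay.tw e₀ l, he₀.tw hl⟩, Subtype.ext (by
        show d _ = δ.1
        rw [htw ⟨e₀, he₀⟩ l hl, hlμ, ← hμe])⟩
  refine ⟨Equiv.ofBijective f hbij, fun g hK hP hL hφ e e' he => ?_⟩
  show cj g (d e) = d e'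
  refine hdu e' _ ?_
  rw [← he]
  exact h.bal_cj hK hP hL hφ (hd e)

end

end CfsgLib.CharBlocks.RelMcKay
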