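import Cfsg.Agent.Lib.CharBlocks.RelMcKay.Groups
import Cfsg.Agent.Lib.CharNormal.CongrP
import Mathlib.Algebra.Field.ZMod

/-!
# Fixed characters and congruences modulo `p`

* `Setup.fix_of_central`: characters over `ν` of a subgroup centralised by `R` modulo `L` are fixed;
* `sum_eq_sum_fix`: a sum of an invariant function is congruent to the sum over the fixed points;
* `m_congr`: composition of multiplicities modulo `p` through the fixed characters.
-/

set_option autoImplicit false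
set_option linter.unusedSectionVars false
set_option linter.unusedVariables false

noncomputable section

namespace CfsgLib.CharBlocks.RelMcKay

open CfsgLib.CharNormal

attribute [local instance] Fintype.ofFinite

variable {Γ : Type*} [Group Γ] [Finite Γ] {p : ℕ} [Fact p.Prime]
variable {L K R H B D : Subgroup Γ}

/-- A character of an intermediate group lying under a character over `ν` lies over `ν`. -/
theorem over_of_m (hLB : L ≤ B) (hBH : B ≤ H) (hN : H ≤ Nz L) {ν : Ch L} (hfix : Fix H ν)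
    {χ : Ch H} {β : Ch B} (h : m χ ν ≠ 0) (hb : m χ β ≠ 0) : m β ν ≠ 0 := by
  obtain ⟨ν', hν'⟩ := exists_under hLB β
  obtain rfl := eq_of_fix_constituents (hLB.trans hBH) hN hfix h
    (m_trans_ne_zero hLB hBH hb hν')
  exact hν'

/-- Characters over `ν` of a subgroup centralised by `R` modulo `L` are fixed by `R`. -/
theorem Setup.fix_of_central {ν : Ch L} (h : Setup p L K R ν) {B : Subgroup Γ} (hLB : L ≤ B)
    (hBK : B ≤ K) (hRB : R ≤ Nz B) (hc : ∀ r ∈ R, ∀ b ∈ B, r * b * r⁻¹ * b⁻¹ ∈ L)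
    {β : Ch B} (hβ : m β ν ≠ 0) : Fix R β := by
  intro r hr
  refine Ch_ext fun c hcB => ?_
  set Y := L ⊔ Subgroup.zpowers c with hY
  have hcY : c ∈ Y := Subgroup.mem_sup_right (Subgroup.mem_zpowers c)
  have hYB : Y ≤ B := sup_le hLB (Subgroup.zpowers_le.mpr hcB)
  have hYN : Y ≤ Nz L := (hYB.trans hBK).trans h.KL
  obtain ⟨η, hη⟩ := exists_ext_cyclic (le_sup_left : L ≤ Y) hYN hcY le_rfl ν (h.fK c (hBK hcB))
  have hr' : r⁻¹ ∈ R := R.inv_mem hr
  have hrY : r ∈ Nz Y := by
    have key : ∀ r ∈ R, ∀ y ∈ Y, r * y * r⁻¹ ∈ Y := fun r hr y hy => by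
      have h1 := Y.mul_mem (Subgroup.mem_sup_left (hc r hr y (hYB hy))) hy
      rwa [inv_mul_cancel_right] at h1
    rw [Subgroup.mem_normalizer_iff]
    refine fun y => ⟨key r hr y, fun hy => ?_⟩
    have h1 := key r⁻¹ hr' _ hy
    simpa [mul_assoc] using h1
  have hcon : r⁻¹ * c * r ∈ Y := by
    simpa using (Subgroup.mem_normalizer_iff.mp ((Nz Y).inv_mem hrY) c).mp hcY
  rw [z_cj (hRB hr), z_decomp hYB β hcon, z_decomp hYB β hcY]
  refine Finset.sum_congr rfl fun ψ _ => ?_
  rcases eq_or_ne (m β ψ) 0 with h0 | h0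
  · simp [h0]
  congr 1
  have hψν : m ψ ν ≠ 0 := over_of_m le_sup_left hYB (hBK.trans h.KL)
    (fun g hg => h.fK g (hBK hg)) hβ h0
  obtain ⟨l, hl, rfl⟩ := exists_tw_of_over (le_sup_left : L ≤ Y) hYN
    (fun a ha b hb => comm_mem_of_cyclic le_sup_left hYN hcY le_rfl ha hb)
    (by rw [hη.m_eq]; exact one_ne_zero : m η ν ≠ 0) hψν
  have hext := hη.tw hl
  obtain ⟨k, hk⟩ := h.pR
  have hfix : RelMcKay.cj r (RelMcKay.tw η l) = RelMcKay.tw η l := by
    refine cj_ext_eq hYN hext hrY (h.RL hr) (h.fR r hr) (fun x hx => ?_) (n := p ^ k)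
      (cj_of_mem (le_sup_left (b := Subgroup.zpowers c) (hk ▸ pow_relIndex_mem h.RL hr)) _)
      (((Fact.out : p.Prime).coprime_iff_not_dvd.mpr fun hd => h.pK ?_).pow_left k)
    · have := hc r⁻¹ hr' x (hYB hx)
      simpa [mul_assoc] using this
    · exact hd.trans ⟨Y.relIndex K,
        (Subgroup.relIndex_mul_relIndex _ _ _ le_sup_left (hYB.trans hBK)).symm⟩
  rw [← z_cj hrY, hfix]

/-- Sum of an invariant function modulo `p`. -/
theorem sum_eq_sum_fix (hLR : L ≤ R) (hRL : R ≤ Nz L) (hRH : R ≤ Nz H) {k : ℕ}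
    (hk : L.relIndex R = p ^ k) (htriv : ∀ l ∈ L, ∀ χ : Ch H, cj l χ = χ)
    [DecidablePred fun χ : Ch H => Fix R χ] (f : Ch H → ZMod p)
    (hf : ∀ r ∈ R, ∀ χ : Ch H, f (cj r χ) = f χ) :
    ∑ χ, f χ = ∑ χ ∈ Finset.univ.filter fun χ : Ch H => Fix R χ, f χ := by
  classical
  have := normal_sub hRL
  let act : R →* Equiv.Perm (Ch H) :=
    { toFun := fun r =>
        { toFun := cj (r : Γ)
          invFun := cj (r : Γ)⁻¹
          left_inv := fun χ => cj_inv_eq (hRH r.2) rfl
          right_inv := fun χ => by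
            rw [← cj_mul (hRH r.2) ((Nz H).inv_mem (hRH r.2)), mul_inv_cancel, cj_one] }
      map_one' := Equiv.ext fun χ => cj_one χ
      map_mul' := fun a b => Equiv.ext fun χ => cj_mul (hRH a.2) (hRH b.2) χ }
  let ψ := QuotientGroup.lift (L.subgroupOf R) act fun r hr =>
    Equiv.ext fun χ => htriv (r : Γ) hr χ
  let _ : MulAction (R ⧸ L.subgroupOf R) (Ch H) := MulAction.compHom _ ψ
  have hsmul : ∀ (r : R) (χ : Ch H), ((r : R ⧸ L.subgroupOf R)) • χ = cj (r : Γ) χ := fun r χ => rfl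
  have hp : IsPGroup p (R ⧸ L.subgroupOf R) := IsPGroup.of_card (n := k) (by
    rw [← Subgroup.index_eq_card]; exact hk)
  have h1 := dvd_sum_sub_fixed hp f fun q χ => by
    induction q using QuotientGroup.induction_on with
    | _ r => rw [hsmul]; exact hf r r.2 χ
  rw [ZMod.natCast_self, zero_dvd_iff, sub_eq_zero] at h1
  refine h1.trans (Finset.sum_congr (Finset.filter_congr fun χ _ => ?_) fun _ _ => rfl)
  constructor
  · exact fun hχ r hr => (hsmul ⟨r, hr⟩ χ).symm.trans (hχ _)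
  · intro hχ q
    induction q using QuotientGroup.induction_on with
    | _ r => rw [hsmul]; exact hχ r r.2

/-- Multiplicities compose modulo `p` through the fixed characters. -/
theorem m_congr (hLR : L ≤ R) (hRL : R ≤ Nz L) {k : ℕ} (hk : L.relIndex R = p ^ k) (hLB : L ≤ B)
    (hDB : D ≤ B) (hBH : B ≤ H) (hRH : R ≤ Nz H) (hRB : R ≤ Nz B) (hRD : R ≤ Nz D)
    [DecidablePred fun β : Ch B => Fix R β] {χ : Ch H} {δ : Ch D} (hχ : Fix R χ) (hδ : Fix R δ) :
    (m χ δ : ZMod p) =
      ∑ β ∈ Finset.univ.filter fun β : Ch B => Fix R β, (m χ β : ZMod p) * (m β δ : ZMod p) := by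
  rw [← sum_eq_sum_fix hLR hRL hRB hk (fun l hl β => cj_of_mem (hLB hl) β), m_trans hDB hBH]
  · push_cast; rfl
  intro r hr β
  have e1 : m χ (cj r β) = m χ β := by
    conv_lhs => rw [← hχ r hr]
    exact m_cj hBH (hRH hr) (hRB hr) χ β
  have e2 : m (cj r β) δ = m β δ := by
    conv_lhs => rw [← hδ r hr]
    exact m_cj hDB (hRB hr) (hRD hr) β δ
  rw [e1, e2]

end CfsgLib.CharBlocks.RelMcKay
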