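import Cfsg.Agent.Lib.CharBlocks.RelMcKay.Twist
import Cfsg.Agent.Lib.Solvable.Basic
import Mathlib.GroupTheory.Sylow

/-!
# Group theoretic preliminaries for the relative McKay correspondence

* relative index lemmas for `K ⊔ R` with `R` normalising `K`;
* relative Sylow conjugacy;
* `Setup`, `fixC`: a `p`-group `R / L` acting on a `p'`-group `K / L` and its fixed points.
-/

set_option autoImplicit false
set_option linter.unusedSectionVars false
set_option linter.unusedVariables false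

noncomputable section

namespace CfsgLib.CharBlocks.RelMcKay

open CfsgLib.Solvable

variable {Γ : Type*} [Group Γ] [Finite Γ] {p : ℕ}

theorem relIndex_sup_of_le_nz {K R : Subgroup Γ} (hR : R ≤ Nz K) :
    K.relIndex (K ⊔ R) = K.relIndex R := by
  have hsup : K ⊔ R ≤ Nz K := sup_le Subgroup.le_normalizer hR
  have : (K.subgroupOf (Nz K)).Normal := normal_sub (X := Nz K) le_rfl
  rw [← Subgroup.relIndex_subgroupOf hsup,
    Subgroup.subgroupOf_sup Subgroup.le_normalizer hR,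
    ← Subgroup.relIndex_subgroupOf (H := K) hR]
  exact Subgroup.relIndex_sup_left _ (K.subgroupOf (Nz K))

theorem pow_relIndex_mem {L R : Subgroup Γ} (hN : R ≤ Nz L) {r : Γ} (hr : r ∈ R) :
    r ^ L.relIndex R ∈ L := by
  have := normal_sub hN
  exact Subgroup.mem_subgroupOf.mp ((L.subgroupOf R).pow_index_mem ⟨r, hr⟩)

theorem exists_mul_pow {K : Subgroup Γ} {k s : Γ} (hk : k ∈ K) (hs : s ∈ Nz K) (i : ℕ) :
    ∃ k' ∈ K, (k * s) ^ i = k' * s ^ i := by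
  induction i with
  | zero => exact ⟨1, K.one_mem, by simp⟩
  | succ i ih =>
    obtain ⟨k', hk', he⟩ := ih
    refine ⟨k' * (s ^ i * k * (s ^ i)⁻¹),
      K.mul_mem hk' ((Subgroup.mem_normalizer_iff.mp ((Nz K).pow_mem hs i) _).mp hk), ?_⟩
    rw [pow_succ, pow_succ, he]
    group

theorem comm_mem_of_cyclic {L Y : Subgroup Γ} (hle : L ≤ Y) (hN : Y ≤ Nz L) {s : Γ} (hs : s ∈ Y)
    (hY : Y ≤ L ⊔ Subgroup.zpowers s) {a b : Γ} (ha : a ∈ Y) (hb : b ∈ Y) :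
    a * b * a⁻¹ * b⁻¹ ∈ L := by
  have := normal_sub hN
  have hcyc := isCyclic_quot hle hs hY
  let : CommGroup (Y ⧸ L.subgroupOf Y) := hcyc.commGroup
  have h := mul_comm ((⟨a, ha⟩ : Y) : Y ⧸ L.subgroupOf Y) ((⟨b, hb⟩ : Y) : Y ⧸ L.subgroupOf Y)
  rw [← QuotientGroup.mk_mul, ← QuotientGroup.mk_mul, QuotientGroup.eq_iff_div_mem,
    Subgroup.mem_subgroupOf] at h
  simpa [div_eq_mul_inv, mul_assoc] using h

theorem relIndex_sup_zpowers_dvd {L : Subgroup Γ} {u : Γ} (hu : u ∈ Nz L) {n : ℕ}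
    (hn : u ^ n ∈ L) : L.relIndex (L ⊔ Subgroup.zpowers u) ∣ n := by
  set Y := L ⊔ Subgroup.zpowers u
  have hN : Y ≤ Nz L := sup_le Subgroup.le_normalizer (Subgroup.zpowers_le.mpr hu)
  have := normal_sub hN
  have huY : u ∈ Y := Subgroup.mem_sup_right (Subgroup.mem_zpowers u)
  have hgen : ∀ q : Y ⧸ L.subgroupOf Y,
      q ∈ Subgroup.zpowers ((⟨u, huY⟩ : Y) : Y ⧸ L.subgroupOf Y) := by
    intro q
    induction q using QuotientGroup.induction_on with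
    | _ x =>
    let U := (Subgroup.zpowers ((⟨u, huY⟩ : Y) : Y ⧸ L.subgroupOf Y)).comap
      (QuotientGroup.mk' (L.subgroupOf Y))
    have h1 : Y ≤ U.map Y.subtype := sup_le (fun k hk =>
        ⟨⟨k, le_sup_left (b := Subgroup.zpowers u) hk⟩, by
          show ((⟨k, _⟩ : Y) : Y ⧸ L.subgroupOf Y) ∈
            Subgroup.zpowers ((⟨u, huY⟩ : Y) : Y ⧸ L.subgroupOf Y)
          rw [(QuotientGroup.eq_one_iff (⟨k, le_sup_left (b := Subgroup.zpowers u) hk⟩ : Y)).mpr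
            (Subgroup.mem_subgroupOf.mpr hk)]
          exact Subgroup.one_mem _, rfl⟩)
      (Subgroup.zpowers_le.mpr ⟨⟨u, huY⟩, Subgroup.mem_zpowers _, rfl⟩)
    obtain ⟨y, hy, hyx⟩ := h1 x.2
    obtain rfl : y = x := Subtype.ext hyx
    exact hy
  show (L.subgroupOf Y).index ∣ n
  rw [Subgroup.index_eq_card, ← orderOf_eq_card_of_forall_mem_zpowers hgen]
  refine orderOf_dvd_of_pow_eq_one ?_
  rw [← QuotientGroup.mk_pow, QuotientGroup.eq_one_iff]
  exact Subgroup.mem_subgroupOf.mpr hn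

/-- A subgroup above a normal `L` with `p`-power index over `L` is conjugate into every subgroup
above `L` of index prime to `p`. -/
theorem rel_conj [Fact p.Prime] {Y : Type*} [Group Y] [Finite Y] (L P Q : Subgroup Y) [L.Normal]
    (hLP : L ≤ P) (hLQ : L ≤ Q) {b : ℕ} (hQ : L.relIndex Q = p ^ b) (hP : ¬ p ∣ P.index) :
    ∃ y : Y, ∀ q ∈ Q, y * q * y⁻¹ ∈ P := by
  have hp : p.Prime := Fact.out
  obtain ⟨SP⟩ := (inferInstance : Nonempty (Sylow p P))
  obtain ⟨SQ⟩ := (inferInstance : Nonempty (Sylow p Q))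
  have hcard : Nat.card (SP.1.map P.subtype) = p ^ (Nat.card Y).factorization p := by
    rw [Subgroup.card_map_of_injective P.subtype_injective, SP.card_eq_multiplicity,
      ← P.index_mul_card, Nat.factorization_mul P.index_ne_zero_of_finite Nat.card_pos.ne',
      Finsupp.add_apply, Nat.factorization_eq_zero_of_not_dvd hP, zero_add]
  let T : Sylow p Y := Sylow.ofCard _ hcard
  obtain ⟨U, hU⟩ := (SQ.2.map Q.subtype).exists_le_sylow
  obtain ⟨y, hy⟩ := MulAction.exists_smul_eq Y U T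
  have hS : SQ.1.map Q.subtype ≤ Q := Subgroup.map_subtype_le _
  have hgen : Q ≤ L ⊔ SQ.1.map Q.subtype := by
    rw [← Subgroup.relIndex_eq_one]
    have h1 : (L ⊔ SQ.1.map Q.subtype).relIndex Q ∣ p ^ b :=
      hQ ▸ Subgroup.relIndex_dvd_of_le_left _ le_sup_left
    have h2 : (L ⊔ SQ.1.map Q.subtype).relIndex Q ∣ (SQ.1.map Q.subtype).relIndex Q :=
      Subgroup.relIndex_dvd_of_le_left _ le_sup_right
    have h3 : (SQ.1.map Q.subtype).relIndex Q = SQ.1.index := by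
      rw [Subgroup.relIndex, ← Subgroup.comap_subtype,
        Subgroup.comap_map_eq_self_of_injective Q.subtype_injective]
    obtain ⟨i, -, hi⟩ := (Nat.dvd_prime_pow hp).mp h1
    rw [hi]
    rcases Nat.eq_zero_or_pos i with rfl | hi0
    · exact pow_zero p
    · exact absurd ((dvd_pow_self p hi0.ne').trans (hi ▸ h3 ▸ h2)) SQ.not_dvd_index
  have hle : L ⊔ SQ.1.map Q.subtype ≤ P.comap (MulAut.conj y).toMonoidHom := by
    refine sup_le (fun l hl => ?_) fun x hx => ?_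
    · exact hLP (‹L.Normal›.conj_mem l hl y)
    · refine Subgroup.map_subtype_le SP.1 ?_
      show MulAut.conj y x ∈ (T : Subgroup Y)
      rw [← hy, Sylow.coe_subgroup_smul]
      exact Subgroup.smul_mem_pointwise_smul x (MulAut.conj y) _ (hU hx)
  exact ⟨y, fun q hq => hle (hgen hq)⟩

/-- The ambient form of `rel_conj`. -/
theorem rel_conj' [Fact p.Prime] {X L P Q : Subgroup Γ} (hN : X ≤ Nz L) (hLP : L ≤ P) (hPX : P ≤ X)
    (hLQ : L ≤ Q) (hQX : Q ≤ X) {b : ℕ} (hQ : L.relIndex Q = p ^ b) (hP : ¬ p ∣ P.relIndex X) :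
    ∃ y ∈ X, ∀ q ∈ Q, y * q * y⁻¹ ∈ P := by
  have := normal_sub hN
  obtain ⟨y, hy⟩ := rel_conj (L.subgroupOf X) (P.subgroupOf X) (Q.subgroupOf X)
    (fun x hx => hLP hx) (fun x hx => hLQ hx) (b := b)
    (by rw [Subgroup.relIndex_subgroupOf hQX, hQ]) hP
  exact ⟨y, y.2, fun q hq => hy ⟨q, hQX hq⟩ hq⟩

/-- `R / L` is a `p`-group acting on the `p'`-group `K / L`; `ν` is invariant. -/
structure Setup (p : ℕ) (L K R : Subgroup Γ) (ν : Ch L) : Prop where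
  LK : L ≤ K
  LR : L ≤ R
  KL : K ≤ Nz L
  RL : R ≤ Nz L
  RK : R ≤ Nz K
  pK : ¬ p ∣ L.relIndex K
  pR : ∃ k : ℕ, L.relIndex R = p ^ k
  fK : Fix K ν
  fR : Fix R ν

/-- The elements of `K` centralised by `R` modulo `L`. -/
def fixC (L K R : Subgroup Γ) : Subgroup Γ where
  carrier := {k | k ∈ K ∧ k ∈ Nz L ∧ ∀ r ∈ R, r * k * r⁻¹ * k⁻¹ ∈ L}
  one_mem' := ⟨K.one_mem, (Nz L).one_mem, fun r _ => by simp⟩
  mul_mem' := fun {a b} ha hb => ⟨K.mul_mem ha.1 hb.1, (Nz L).mul_mem ha.2.1 hb.2.1, fun r hr => by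
    have h1 := L.mul_mem (ha.2.2 r hr) ((Subgroup.mem_normalizer_iff.mp ha.2.1 _).mp (hb.2.2 r hr))
    simpa [mul_assoc] using h1⟩
  inv_mem' := fun {a} ha => ⟨K.inv_mem ha.1, (Nz L).inv_mem ha.2.1, fun r hr => by
    have h1 := (Subgroup.mem_normalizer_iff.mp ((Nz L).inv_mem ha.2.1) _).mp
      (L.inv_mem (ha.2.2 r hr))
    simpa [mul_assoc] using h1⟩

theorem fixC_le (L K R : Subgroup Γ) : fixC L K R ≤ K := fun _ h => h.1

theorem mem_fixC {L K R : Subgroup Γ} {k : Γ} (h : K ≤ Nz L) :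
    k ∈ fixC L K R ↔ k ∈ K ∧ ∀ r ∈ R, r * k * r⁻¹ * k⁻¹ ∈ L :=
  ⟨fun hk => ⟨hk.1, hk.2.2⟩, fun hk => ⟨hk.1, h hk.1, hk.2⟩⟩

theorem fixC_mono {L K R R' : Subgroup Γ} (h : R' ≤ R) : fixC L K R ≤ fixC L K R' :=
  fun _ hk => ⟨hk.1, hk.2.1, fun r hr => hk.2.2 r (h hr)⟩

/-- Centralising the generators modulo `L` suffices. -/
theorem comm_mem_closure {L : Subgroup Γ} {k : Γ} {a : Γ} (hk : k ∈ Nz L) {R : Subgroup Γ}
    (hR : R ≤ Nz L) {S : Set Γ} (hS : R ≤ Subgroup.closure S) (hSR : S ⊆ R)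
    (h : ∀ s ∈ S, s * k * s⁻¹ * k⁻¹ ∈ L) (ha : a ∈ R) : a * k * a⁻¹ * k⁻¹ ∈ L := by
  let A : Subgroup Γ :=
    { carrier := {x | x ∈ Nz L ∧ x * k * x⁻¹ * k⁻¹ ∈ L}
      one_mem' := ⟨(Nz L).one_mem, by simp⟩
      mul_mem' := fun {x y} hx hy => ⟨(Nz L).mul_mem hx.1 hy.1, by
        have h1 := L.mul_mem ((Subgroup.mem_normalizer_iff.mp hx.1 _).mp hy.2) hx.2
        simpa [mul_assoc] using h1⟩
      inv_mem' := fun {x} hx => ⟨(Nz L).inv_mem hx.1, by
        have h1 := (Subgroup.mem_normalizer_iff.mp ((Nz L).inv_mem hx.1) _).mp (L.inv_mem hx.2)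
        simpa [mul_assoc] using h1⟩ }
  exact (((Subgroup.closure_le A).mpr fun s hs => ⟨hR (hSR hs), h s hs⟩) (hS ha)).2

section Basic

variable {L K R : Subgroup Γ} {ν : Ch L}

theorem Setup.le_fixC (h : Setup p L K R ν) : L ≤ fixC L K R := fun l hl =>
  (mem_fixC h.KL).mpr ⟨h.LK hl, fun r hr =>
    L.mul_mem ((Subgroup.mem_normalizer_iff.mp (h.RL hr) l).mp hl) (L.inv_mem hl)⟩

theorem Setup.nz_fixC (h : Setup p L K R ν) : R ≤ Nz (fixC L K R) := by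
  have key : ∀ r ∈ R, ∀ c ∈ fixC L K R, r * c * r⁻¹ ∈ fixC L K R := fun r hr c hc => by
    have h1 := (fixC L K R).mul_mem (h.le_fixC (hc.2.2 r hr)) hc
    rwa [inv_mul_cancel_right] at h1
  intro r hr
  rw [Subgroup.mem_normalizer_iff]
  refine fun c => ⟨key r hr c, fun hc => ?_⟩
  have h1 := key r⁻¹ (R.inv_mem hr) _ hc
  simpa [mul_assoc] using h1

theorem Setup.inf_le [Fact p.Prime] (h : Setup p L K R ν) {x : Γ} (hK : x ∈ K) (hR : x ∈ R) :
    x ∈ L := by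
  obtain ⟨k, hk⟩ := h.pR
  have h1 := pow_relIndex_mem h.KL hK
  have h2 := pow_relIndex_mem h.RL hR
  rw [hk] at h2
  have hg : Nat.gcd (L.relIndex K) (p ^ k) = 1 :=
    (((Fact.out : p.Prime).coprime_iff_not_dvd.mpr h.pK).symm.pow_right k)
  have h3 : (Nat.gcd (L.relIndex K) (p ^ k) : ℤ) =
      (L.relIndex K : ℤ) * (L.relIndex K).gcdA (p ^ k) +
        ((p ^ k : ℕ) : ℤ) * (L.relIndex K).gcdB (p ^ k) := Nat.gcd_eq_gcd_ab _ _
  rw [hg, Nat.cast_one] at h3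
  rw [← zpow_one x, h3, zpow_add, zpow_mul, zpow_mul, zpow_natCast, zpow_natCast]
  exact L.mul_mem (L.zpow_mem h1 _) (L.zpow_mem h2 _)

/-- Replacing `K` by an intermediate subgroup normalised by `R`. -/
theorem Setup.inter (h : Setup p L K R ν) {K' : Subgroup Γ} (h1 : L ≤ K') (h2 : K' ≤ K)
    (h3 : R ≤ Nz K') : Setup p L K' R ν :=
  ⟨h1, h.LR, h2.trans h.KL, h.RL, h3, fun hd => h.pK (hd.trans
    ⟨K'.relIndex K, (Subgroup.relIndex_mul_relIndex _ _ _ h1 h2).symm⟩), h.pR,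
    fun g hg => h.fK g (h2 hg), h.fR⟩

/-- Replacing `R` by a subgroup containing `L`. -/
theorem Setup.restrict [Fact p.Prime] (h : Setup p L K R ν) {R' : Subgroup Γ} (h1 : L ≤ R')
    (h2 : R' ≤ R) : Setup p L K R' ν :=
  ⟨h.LK, h1, h.KL, h2.trans h.RL, h2.trans h.RK, h.pK, by
    obtain ⟨k, hk⟩ := h.pR
    obtain ⟨i, -, hi⟩ := (Nat.dvd_prime_pow (Fact.out : p.Prime)).mp
      (hk ▸ (⟨R'.relIndex R, (Subgroup.relIndex_mul_relIndex _ _ _ h1 h2).symm⟩ :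
        L.relIndex R' ∣ L.relIndex R))
    exact ⟨i, hi⟩, h.fK, fun g hg => h.fR g (h2 hg)⟩

end Basic

end CfsgLib.CharBlocks.RelMcKay
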