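import Cfsg.Agent.Lib.CharBlocks.RelMcKay.Core
import Cfsg.Prelude.Def_Local

/-!
# The relative count for `p`-soluble groups

Induction on the index of the normal subgroup.
-/

set_option autoImplicit false
set_option linter.unusedSectionVars false
set_option linter.unusedVariables false

noncomputable section

namespace CfsgLib.CharBlocks.RelMcKay

open CfsgLib.Char CfsgLib.CharNormal

attribute [local instance] Fintype.ofFinite
attribute [local instance high] subFintype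

variable {Γ : Type*} [Group Γ] [Finite Γ] {p : ℕ} [Fact p.Prime]
variable {L K P G Y : Subgroup Γ} {ν : Ch L}

theorem relIndex_pos (A B : Subgroup Γ) : 0 < A.relIndex B :=
  Nat.pos_of_ne_zero Subgroup.index_ne_zero_of_finite

theorem relIndex_lt_right {T : Subgroup Γ} (hLT : L ≤ T) (hTG : T ≤ G) (hne : ¬ G ≤ T) :
    L.relIndex T < L.relIndex G := by
  rw [← Subgroup.relIndex_mul_relIndex L T G hLT hTG]
  refine lt_mul_of_one_lt_right (relIndex_pos L T) ?_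
  rcases Nat.lt_or_ge 1 (T.relIndex G) with h | h
  · exact h
  · exact absurd (Subgroup.relIndex_eq_one.mp (le_antisymm h (relIndex_pos T G))) hne

theorem relIndex_lt_left (hLK : L ≤ K) (hKG : K ≤ G) (hne : ¬ K ≤ L) :
    K.relIndex G < L.relIndex G := by
  rw [← Subgroup.relIndex_mul_relIndex L K G hLK hKG]
  refine lt_mul_of_one_lt_left (relIndex_pos K G) ?_
  rcases Nat.lt_or_ge 1 (L.relIndex K) with h | h
  · exact h
  · exact absurd (Subgroup.relIndex_eq_one.mp (le_antisymm h (relIndex_pos L K))) hne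

/-- The `P`-fixed characters over `ν`. -/
def fixOver (K P : Subgroup Γ) (ν : Ch L) : Finset (Ch K) :=
  @Finset.filter _ (fun θ : Ch K => m θ ν ≠ 0 ∧ Fix P θ) (Classical.decPred _) Finset.univ

theorem mem_fixOver {θ : Ch K} : θ ∈ fixOver K P ν ↔ m θ ν ≠ 0 ∧ Fix P θ := by
  simp [fixOver]

theorem fixOver_cj (hLK : L ≤ K) (hPK : P ≤ Nz K) {g : Γ} (hK : g ∈ Nz K) (hL : g ∈ Nz L)
    (hP : g ∈ Nz P) (hν : cj g ν = ν) {θ : Ch K} (hθ : θ ∈ fixOver K P ν) :
    cj g θ ∈ fixOver K P ν := by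
  rw [mem_fixOver] at hθ ⊢
  refine ⟨?_, fun r hr => ?_⟩
  · conv => enter [1, 2]; rw [← hν]
    rw [m_cj hLK hK hL]
    exact hθ.1
  · have hr' : g⁻¹ * r * g ∈ P := by
      simpa using (Subgroup.mem_normalizer_iff.mp ((Nz P).inv_mem hP) r).mp hr
    conv_rhs => rw [← hθ.2 _ hr']
    rw [← cj_mul (hPK hr) hK, ← cj_mul hK (hPK hr')]
    congr 1
    group

theorem exists_fix_constituent (hLK : L ≤ K) (hKY : K ≤ Y) (hYK : Y ≤ Nz K) (hYL : Y ≤ Nz L)
    (hν : Fix Y ν) (hLP : L ≤ P) (hPY : P ≤ Y) {k : ℕ} (hk : L.relIndex P = p ^ k) (χ : Ch Y)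
    (hp : ¬ p ∣ dg χ) (hm : m χ ν ≠ 0) :
    ∃ θ ∈ fixOver K P ν, m χ θ ≠ 0 := by
  classical
  by_contra hc
  push Not at hc
  refine hp ((ZMod.natCast_eq_zero_iff _ p).mp ?_)
  rw [dg_decomp hKY χ, Nat.cast_sum,
    sum_eq_sum_fix hLP (hPY.trans hYL) (hPY.trans hYK) hk (fun l hl θ => cj_of_mem (hLK hl) θ)
      (fun θ => ((m χ θ * dg θ : ℕ) : ZMod p)) fun r hr θ => by
        rw [m_cj_right hKY hYK χ (hPY hr), dg_cj (hYK (hPY hr))]]
  refine Finset.sum_eq_zero fun θ hθ => ?_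
  rcases eq_or_ne (m χ θ) 0 with h0 | h0
  · rw [h0, zero_mul, Nat.cast_zero]
  · exact absurd (hc θ (mem_fixOver.mpr ⟨over_of_m hLK hKY hYL hν hm h0,
      (Finset.mem_filter.mp hθ).2⟩)) h0

theorem conj_of_fix_constituents (hLK : L ≤ K) (hKY : K ≤ Y) (hYK : Y ≤ Nz K) (hYL : Y ≤ Nz L)
    (hLP : L ≤ P) (hPY : P ≤ Y) (hidx : ¬ p ∣ P.relIndex Y) {k : ℕ} (hk : L.relIndex P = p ^ k)
    {χ : Ch Y} {θ θ' : Ch K} (h1 : m χ θ ≠ 0) (h2 : m χ θ' ≠ 0) (hf : Fix P θ) (hf' : Fix P θ') :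
    ∃ g ∈ Y ⊓ Nz P, cj g θ = θ' := by
  obtain ⟨x, hx, rfl⟩ := exists_cj_of_constituents hKY hYK h1 h2
  set T := stb Y θ
  have hPT : P ≤ T := fun r hr => (mem_stb hYK).mpr ⟨hPY hr, hf r hr⟩
  set Q := P.map (MulAut.conj x⁻¹).toMonoidHom with hQ
  have hLx : L.map (MulAut.conj x⁻¹).toMonoidHom = L :=
    Subgroup.eq_of_le_of_card_ge (Subgroup.map_le_iff_le_comap.mpr fun a ha =>
      (Subgroup.mem_normalizer_iff.mp ((Nz L).inv_mem (hYL hx)) a).mp ha)
      (by rw [Subgroup.card_map_of_injective (MulAut.conj x⁻¹).injective])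
  have hLQ : L ≤ Q := hLx.ge.trans (Subgroup.map_mono hLP)
  have hQi : L.relIndex Q = p ^ k := by
    calc L.relIndex Q = (L.map (MulAut.conj x⁻¹).toMonoidHom).relIndex Q := by rw [hLx]
      _ = L.relIndex P := Subgroup.relIndex_map_map_of_injective L P (MulAut.conj x⁻¹).injective
      _ = p ^ k := hk
  have hQT : Q ≤ T := by
    rintro _ ⟨r, hr, rfl⟩
    show x⁻¹ * r * x⁻¹⁻¹ ∈ T
    rw [inv_inv]
    refine (mem_stb hYK).mpr ⟨Y.mul_mem (Y.mul_mem (Y.inv_mem hx) (hPY hr)) hx, ?_⟩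
    rw [cj_mul ((Nz K).mul_mem ((Nz K).inv_mem (hYK hx)) (hYK (hPY hr))) (hYK hx),
      cj_mul ((Nz K).inv_mem (hYK hx)) (hYK (hPY hr)), hf' r hr]
    exact cj_inv_eq (hYK hx) rfl
  obtain ⟨y, hy, hconj⟩ := rel_conj' ((stb_le Y θ).trans hYL) hLP hPT hLQ hQT hQi
    (fun h => hidx (h.trans ⟨_, (Subgroup.relIndex_mul_relIndex P T Y hPT (stb_le Y θ)).symm⟩))
  have hn : y * x⁻¹ ∈ Nz P := mem_nz_of_conj fun r hr => by
    simpa [mul_assoc] using hconj _ ⟨r, hr, rfl⟩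
  refine ⟨(y * x⁻¹)⁻¹, ⟨Y.inv_mem (Y.mul_mem (stb_le Y θ hy) (Y.inv_mem hx)),
    (Nz P).inv_mem hn⟩, ?_⟩
  rw [mul_inv_rev, inv_inv, cj_mul (hYK hx) ((Nz K).inv_mem (hYK (stb_le Y θ hy))),
    cj_inv_eq (hYK (stb_le Y θ hy)) hy.2.2]

/-- The count splits along the `P`-fixed characters of a layer. -/
theorem cnt_eq_sum_fixOver (hLK : L ≤ K) (hKY : K ≤ Y) (hYK : Y ≤ Nz K) (hYL : Y ≤ Nz L)
    (hν : Fix Y ν) (hLP : L ≤ P) (hPY : P ≤ Y) (hidx : ¬ p ∣ P.relIndex Y) {k : ℕ}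
    (hk : L.relIndex P = p ^ k) {N : Subgroup Γ} (hN : N = Y ⊓ Nz P) :
    (cnt p Y ν : ℚ) = ∑ θ ∈ fixOver K P ν, (cnt p Y θ : ℚ) / orb N θ := by
  subst hN
  exact cnt_eq_sum hLK hKY hYK inf_le_left _ (fun θ hθ => (mem_fixOver.mp hθ).1)
    (fun θ hθ g hg => fixOver_cj hLK (hPY.trans hYK) (hYK hg.1) (hYL hg.1) hg.2 (hν g hg.1) hθ)
    (exists_fix_constituent hLK hKY hYK hYL hν hLP hPY hk)
    fun χ θ hθ θ' hθ' _ h1 h2 => conj_of_fix_constituents hLK hKY hYK hYL hLP hPY hidx hk h1 h2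
      (mem_fixOver.mp hθ).2 (mem_fixOver.mp hθ').2

theorem exists_layer_over (hG : Cfsg.IsPSolvable p Γ) (hLG : L ≤ G) (hGL : G ≤ Nz L)
    (hne : ¬ G ≤ L) :
    ∃ K : Subgroup Γ, L ≤ K ∧ K ≤ G ∧ ¬ K ≤ L ∧ G ≤ Nz K ∧
      ((∃ j, L.relIndex K = p ^ j) ∨ ¬ p ∣ L.relIndex K) := by
  obtain ⟨n, H, h0, hlast, hmono, hnorm, hstep⟩ := hG
  have hex : ∃ i : Fin n, H i.castSucc ⊓ G ≤ L ∧ ¬ H i.succ ⊓ G ≤ L := by
    by_contra hc
    push Not at hc
    have hall : ∀ i, H i ⊓ G ≤ L := fun i => by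
      induction i using Fin.induction with
      | zero => rw [h0, bot_inf_eq]; exact bot_le
      | succ i ih => exact hc i ih
    exact hne (by simpa [hlast] using hall (Fin.last n))
  obtain ⟨i, hi, hi'⟩ := hex
  set A := H i.succ ⊓ G
  have hGA : G ≤ Nz A := fun g hg => mem_nz_of_conj fun x hx =>
    ⟨(hnorm i.succ).conj_mem x hx.1 g, G.mul_mem (G.mul_mem hg hx.2) (G.inv_mem hg)⟩
  refine ⟨L ⊔ A, le_sup_left, sup_le hLG inf_le_right, fun h => hi' (le_sup_right.trans h),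
    fun g hg => mem_nz_sup (hGL hg) (hGA hg), ?_⟩
  have hdvd : L.relIndex (L ⊔ A) ∣ (H i.castSucc).relIndex (H i.succ) := by
    have hAN : A ≤ Nz (H i.castSucc) := fun a _ =>
      mem_nz_of_conj fun x hx => (hnorm i.castSucc).conj_mem x hx a
    rw [relIndex_sup_of_le_nz (inf_le_right.trans hGL)]
    refine (Subgroup.relIndex_dvd_of_le_left A hi).trans ?_
    rw [show A = H i.succ ⊓ G from rfl, ← Subgroup.inf_relIndex_right (H i.castSucc ⊓ G),
      show H i.castSucc ⊓ G ⊓ (H i.succ ⊓ G) = H i.castSucc ⊓ A from le_antisymm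
        (le_inf (inf_le_left.trans inf_le_left) inf_le_right)
        (le_inf (le_inf inf_le_left (inf_le_right.trans inf_le_right)) inf_le_right),
      Subgroup.inf_relIndex_right, ← relIndex_sup_of_le_nz hAN]
    exact ⟨_, (Subgroup.relIndex_mul_relIndex _ _ _ le_sup_left
      (sup_le (hmono (Fin.castSucc_le_succ i)) inf_le_left)).symm⟩
  rcases hstep i with ⟨j, hj⟩ | hc
  · obtain ⟨j', -, hj'⟩ := (Nat.dvd_prime_pow (Fact.out : p.Prime)).mp (hj ▸ hdvd)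
    exact Or.inl ⟨j', hj'⟩
  · exact Or.inr fun hd => (Fact.out : p.Prime).coprime_iff_not_dvd.mp hc.symm (hd.trans hdvd)

theorem Setup.cor_iff_orb (h : Setup p L K P ν) {N : Subgroup Γ} (hNL : N ≤ Nz L) (hNK : N ≤ Nz K)
    (hNP : N ≤ Nz P) (hν : Fix N ν) {θ : Ch K} (hθ : θ ∈ fixOver K P ν)
    {φ : Ch (fixC L K P)} (hc : Cor p θ φ) : orb N θ = orb N φ := by
  obtain ⟨hθν, hθP⟩ := mem_fixOver.mp hθ
  have hcor : ∀ g ∈ N, Cor p (cj g θ) (cj g φ) := fun g hg => by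
    show ¬ p ∣ m (cj g θ) (cj g φ)
    rw [m_cj (fixC_le L K P) (hNK hg) (fixC_nz (hNL hg) (hNK hg) (hNP hg))]
    exact hc
  have hiff : ∀ g ∈ N, ∀ g' ∈ N, (cj g θ = cj g' θ ↔ cj g φ = cj g' φ) := by
    intro g hg g' hg'
    have hmem : ∀ g ∈ N, cj g θ ∈ fixOver K P ν := fun g hg =>
      fixOver_cj h.LK h.RK (hNK hg) (hNL hg) (hNP hg) (hν g hg) hθ
    refine ⟨fun he => ?_, fun he => ?_⟩
    · obtain ⟨h1, h2⟩ := mem_fixOver.mp (hmem g hg)
      exact (h.corr.1 _ h1 h2).unique (hcor g hg) (he ▸ hcor g' hg')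
    · have h1 := mem_fixOver.mp (hmem g hg)
      exact (h.corr.2 (cj g φ) (h.over_fixC h1.1 (hcor g hg).ne_zero)).unique ⟨h1, hcor g hg⟩
        ⟨mem_fixOver.mp (hmem g' hg'), he ▸ hcor g' hg'⟩
  have hch : ∀ q : {θ' : Ch K // ∃ g ∈ N, cj g θ = θ'}, ∃ g ∈ N, cj g θ = q.1 := fun q => q.2
  choose γ hγ hγe using hch
  refine Nat.card_eq_of_bijective
    (fun q => (⟨cj (γ q) φ, γ q, hγ q, rfl⟩ : {φ' // ∃ g ∈ N, cj g φ = φ'})) ⟨?_, ?_⟩
  · intro a b hab
    exact Subtype.ext (by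
      rw [← hγe a, ← hγe b]; exact (hiff _ (hγ a) _ (hγ b)).mpr (congrArg Subtype.val hab))
  · rintro ⟨φ', g, hg, rfl⟩
    exact ⟨⟨cj g θ, g, hg, rfl⟩,
      Subtype.ext ((hiff _ (hγ _) _ hg).mp (hγe ⟨cj g θ, g, hg, rfl⟩))⟩

/-- The case of a `p'`-layer with `K P` normal. -/
theorem Setup.layer_eq (h : Setup p L K P ν) (hKG : K ≤ G) (hPG : P ≤ G) (hGL : G ≤ Nz L)
    (hGK : G ≤ Nz K) (hGX : G ≤ Nz (K ⊔ P)) (hν : Fix G ν) (hidx : ¬ p ∣ P.relIndex G) :
    cnt p G ν = cnt p (G ⊓ Nz P) ν := by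
  classical
  obtain ⟨k, hk⟩ := h.pR
  set N := G ⊓ Nz P with hN
  have hNG : N ≤ G := inf_le_left
  have hCN : fixC L K P ≤ N := le_inf ((fixC_le L K P).trans hKG) h.fixC_le_nz
  have hNC : N ≤ Nz (fixC L K P) := fun g hg => fixC_nz (hGL hg.1) (hGK hg.1) hg.2
  have hPN : P ≤ N := le_inf hPG Subgroup.le_normalizer
  -- Frattini
  have hfrat : ∀ g ∈ G, g ∈ K ⊔ N := by
    intro g hg
    set Q := P.map (MulAut.conj g).toMonoidHom
    have hLg : L.map (MulAut.conj g).toMonoidHom = L :=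
      Subgroup.eq_of_le_of_card_ge (Subgroup.map_le_iff_le_comap.mpr fun a ha =>
        (Subgroup.mem_normalizer_iff.mp (hGL hg) a).mp ha)
        (by rw [Subgroup.card_map_of_injective (MulAut.conj g).injective])
    have hQX : Q ≤ K ⊔ P := Subgroup.map_le_iff_le_comap.mpr fun a ha =>
      (Subgroup.mem_normalizer_iff.mp (hGX hg) a).mp (Subgroup.mem_sup_right ha)
    have hQi : L.relIndex Q = p ^ k := by
      calc L.relIndex Q = (L.map (MulAut.conj g).toMonoidHom).relIndex Q := by rw [hLg]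
        _ = L.relIndex P := Subgroup.relIndex_map_map_of_injective L P (MulAut.conj g).injective
        _ = p ^ k := hk
    obtain ⟨y, hy, hconj⟩ := rel_conj' (sup_le h.KL h.RL) h.LR le_sup_right
      (hLg.ge.trans (Subgroup.map_mono h.LR)) hQX hQi
      (fun h' => hidx (h'.trans ⟨_, (Subgroup.relIndex_mul_relIndex P _ G le_sup_right
        (sup_le hKG hPG)).symm⟩))
    have hn : y * g ∈ N := ⟨G.mul_mem (sup_le hKG hPG hy) hg,
      mem_nz_of_conj fun r hr => by simpa [mul_assoc] using hconj _ ⟨r, hr, rfl⟩⟩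
    have h1 := (K ⊔ N).mul_mem ((K ⊔ N).inv_mem (sup_le_sup_left hPN K hy))
      (Subgroup.mem_sup_right hn)
    rwa [inv_mul_cancel_left] at h1
  have key : (cnt p G ν : ℚ) = (cnt p N ν : ℚ) := by
    rw [cnt_eq_sum_fixOver (K := K) h.LK hKG hGK hGL hν h.LR hPG hidx hk hN,
      cnt_eq_sum h.le_fixC hCN hNC le_rfl
        (Finset.univ.filter fun φ : Ch (fixC L K P) => m φ ν ≠ 0)
        (fun φ hφ => (Finset.mem_filter.mp hφ).2) (fun φ hφ g hg => by
          refine Finset.mem_filter.mpr ⟨Finset.mem_univ _, ?_⟩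
          conv => enter [1, 2]; rw [← hν g (hNG hg)]
          rw [m_cj h.le_fixC (hNC hg) (hGL (hNG hg))]
          exact (Finset.mem_filter.mp hφ).2)
        (fun χ _ hm => by
          obtain ⟨φ, h1, h2⟩ := exists_between h.le_fixC hCN hm
          exact ⟨φ, Finset.mem_filter.mpr ⟨Finset.mem_univ _, h2⟩, h1⟩)
        (fun χ φ _ φ' _ _ h1 h2 => exists_cj_of_constituents hCN hNC h1 h2)]
    have hcor : ∀ θ : Ch K, θ ∈ fixOver K P ν → ∃! φ : Ch (fixC L K P), Cor p θ φ :=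
      fun θ hθ => h.corr.1 θ (mem_fixOver.mp hθ).1 (mem_fixOver.mp hθ).2
    refine Finset.sum_bij (fun θ hθ => Classical.choose (hcor θ hθ).exists) (fun θ hθ => ?_)
      (fun θ₁ h₁ θ₂ h₂ he => ?_) (fun φ hφ => ?_) (fun θ hθ => ?_)
    · exact Finset.mem_filter.mpr ⟨Finset.mem_univ _, h.over_fixC (mem_fixOver.mp hθ).1
        (Classical.choose_spec (hcor θ hθ).exists).ne_zero⟩
    · have c1 := Classical.choose_spec (hcor θ₁ h₁).exists
      have c2 := Classical.choose_spec (hcor θ₂ h₂).exists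
      rw [← he] at c2
      exact (h.corr.2 _ (h.over_fixC (mem_fixOver.mp h₁).1 c1.ne_zero)).unique
        ⟨mem_fixOver.mp h₁, c1⟩ ⟨mem_fixOver.mp h₂, c2⟩
    · obtain ⟨θ, ⟨hθ, hθc⟩, -⟩ := h.corr.2 φ (Finset.mem_filter.mp hφ).2
      exact ⟨θ, mem_fixOver.mpr hθ, (hcor θ (mem_fixOver.mpr hθ)).unique
        (Classical.choose_spec (hcor θ (mem_fixOver.mpr hθ)).exists) hθc⟩
    · obtain ⟨hθν, hθP⟩ := mem_fixOver.mp hθ
      have hc := Classical.choose_spec (hcor θ hθ).exists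
      generalize Classical.choose (hcor θ hθ).exists = φ at hc ⊢
      rw [h.cor_iff_orb (hNG.trans hGL) (hNG.trans hGK) inf_le_right
        (fun g hg => hν g (hNG hg)) hθ hc]
      congr 2
      -- the stabilisers
      set T := stb G θ
      have hKT : K ≤ T := fun x hx => (mem_stb hGK).mpr ⟨hKG hx, cj_of_mem hx _⟩
      have hPT : P ≤ T := fun x hx => (mem_stb hGK).mpr ⟨hPG hx, hθP x hx⟩
      have hTN : stb N φ = T ⊓ Nz P := by
        refine le_antisymm (fun g hg => ?_) (fun g hg => ?_)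
        · obtain ⟨hgN, he⟩ := (mem_stb hNC).mp hg
          have h2 := mem_fixOver.mp (fixOver_cj h.LK h.RK (hGK hgN.1) (hGL hgN.1) hgN.2
            (hν g hgN.1) hθ)
          refine ⟨(mem_stb hGK).mpr ⟨hgN.1, ?_⟩, hgN.2⟩
          refine (h.corr.2 φ (h.over_fixC hθν hc.ne_zero)).unique ⟨h2, ?_⟩ ⟨⟨hθν, hθP⟩, hc⟩
          show ¬ p ∣ m (cj g θ) φ
          conv => enter [1, 2, 2]; rw [← he]
          rw [m_cj (fixC_le L K P) (hGK hgN.1) (hNC hgN)]
          exact hc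
        · obtain ⟨hgT, hgP⟩ := hg
          have hgN : g ∈ N := ⟨stb_le _ _ hgT, hgP⟩
          exact (mem_stb hNC).mpr ⟨hgN, h.cor_fix hθν hθP hc (hGL hgN.1) (hGK hgN.1) hgP hgT.2.2⟩
      have hTfrat : T ≤ K ⊔ (T ⊓ Nz P) := by
        intro x hx
        obtain ⟨a, ha, n, hn, rfl⟩ := CfsgLib.Solvable.exists_mul_of_mem_sup (hNG.trans hGK)
          (hfrat x (stb_le _ _ hx))
        refine Subgroup.mul_mem_sup ha ⟨?_, hn.2⟩
        simpa using T.mul_mem (T.inv_mem (hKT ha)) hx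
      have hpT : ¬ p ∣ T.relIndex G := fun h' => hidx (h'.trans
        (Subgroup.relIndex_dvd_of_le_left _ hPT))
      have hpP : ¬ p ∣ P.relIndex T := fun h' => hidx (h'.trans
        ⟨_, (Subgroup.relIndex_mul_relIndex P T G hPT (stb_le _ _)).symm⟩)
      have hpN : ¬ p ∣ (stb N φ).relIndex N := fun h' => hidx ((h'.trans
        (Subgroup.relIndex_dvd_of_le_left _ (hTN ▸ le_inf hPT Subgroup.le_normalizer))).trans
        ⟨_, (Subgroup.relIndex_mul_relIndex P N G hPN hNG).symm⟩)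
      rw [cnt_stb hKG hGK θ hpT, cnt_stb hCN hNC φ hpN, hTN]
      exact h.core hθν hc hKT hPT ((stb_le _ _).trans hGL) ((stb_le _ _).trans hGK)
        ((stb_le _ _).trans hGX) hTfrat hpP (fix_stb G θ) (fun g hg => hν g (stb_le _ _ hg))
  exact_mod_cast key

/-- The relative count. -/
theorem count_eq (hG : Cfsg.IsPSolvable p Γ) : ∀ (n : ℕ) {L G P : Subgroup Γ} (ν : Ch L),
    L.relIndex G = n → L ≤ P → P ≤ G → G ≤ Nz L → ¬ p ∣ P.relIndex G →
    (∃ k, L.relIndex P = p ^ k) → Fix P ν → cnt p G ν = cnt p (G ⊓ Nz P) ν := by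
  intro n
  induction n using Nat.strong_induction_on with
  | _ n ih =>
    intro L G P ν hn hLP hPG hGL hidx hpow hνP
    obtain ⟨k, hk⟩ := hpow
    set N := G ⊓ Nz P with hN
    have hNG : N ≤ G := inf_le_left
    have hLG : L ≤ G := hLP.trans hPG
    have hPN : P ≤ N := le_inf hPG Subgroup.le_normalizer
    by_cases hfix : Fix G ν
    swap
    · set T := stb G ν
      have hPT : P ≤ T := fun r hr => (mem_stb hGL).mpr ⟨hPG hr, hνP r hr⟩
      have hlt : L.relIndex T < n := hn ▸ relIndex_lt_right (hLP.trans hPT) (stb_le G ν)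
        fun h => hfix fun g hg => (h hg).2.2
      have hTN : stb N ν = T ⊓ Nz P := le_antisymm
        (fun g hg => ⟨⟨hg.1.1, hg.2⟩, hg.1.2⟩) (fun g hg => ⟨⟨hg.1.1, hg.2⟩, hg.1.2⟩)
      have hpT : ¬ p ∣ T.relIndex G := fun h' => hidx (h'.trans
        (Subgroup.relIndex_dvd_of_le_left _ hPT))
      have hpP : ¬ p ∣ P.relIndex T := fun h' => hidx (h'.trans
        ⟨_, (Subgroup.relIndex_mul_relIndex P T G hPT (stb_le _ _)).symm⟩)
      have hpN : ¬ p ∣ (stb N ν).relIndex N := fun h' => hidx ((h'.trans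
        (Subgroup.relIndex_dvd_of_le_left _ (hTN ▸ le_inf hPT Subgroup.le_normalizer))).trans
        ⟨_, (Subgroup.relIndex_mul_relIndex P N G hPN hNG).symm⟩)
      rw [cnt_stb hLG hGL ν hpT, cnt_stb (hLP.trans hPN) (hNG.trans hGL) ν hpN, hTN]
      exact ih _ hlt ν rfl hLP hPT ((stb_le _ _).trans hGL) hpP ⟨k, hk⟩ hνP
    by_cases hnorm : G ≤ Nz P
    · rw [hN, inf_eq_left.mpr hnorm]
    obtain ⟨K, hLK, hKG, hKL, hGK, hcase⟩ := exists_layer_over hG hLG hGL fun h => hnorm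
      ((h.trans hLP).trans Subgroup.le_normalizer)
    have hlt : K.relIndex G < n := hn ▸ relIndex_lt_left hLK hKG hKL
    rcases hcase with ⟨j, hj⟩ | hp'
    · -- a `p`-layer lies in `P`
      have hKP : K ≤ P := by
        obtain ⟨y, hy, hconj⟩ := rel_conj' hGL hLP hPG hLK hKG hj hidx
        intro x hx
        have h1 : y⁻¹ * x * y ∈ K := by
          simpa using (Subgroup.mem_normalizer_iff.mp ((Nz K).inv_mem (hGK hy)) x).mp hx
        simpa [mul_assoc] using hconj _ h1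
      have hKN : K ≤ N := hKP.trans hPN
      have hidxN : ¬ p ∣ P.relIndex N := fun h' => hidx (h'.trans
        ⟨_, (Subgroup.relIndex_mul_relIndex P N G hPN hNG).symm⟩)
      have key : (cnt p G ν : ℚ) = (cnt p N ν : ℚ) := by
        rw [cnt_eq_sum_fixOver (K := K) hLK hKG hGK hGL hfix hLP hPG hidx hk hN,
          cnt_eq_sum_fixOver (K := K) (Y := N) hLK hKN (hNG.trans hGK) (hNG.trans hGL)
            (fun g hg => hfix g (hNG hg)) hLP hPN hidxN hk (N := N)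
            (inf_eq_left.mpr inf_le_right).symm]
        refine Finset.sum_congr rfl fun θ hθ => ?_
        congr 2
        refine ih _ hlt θ rfl hKP hPG hGK hidx ?_ (mem_fixOver.mp hθ).2
        obtain ⟨i, -, hi⟩ := (Nat.dvd_prime_pow (Fact.out : p.Prime)).mp
          (hk ▸ Subgroup.relIndex_dvd_of_le_left P hLK : K.relIndex P ∣ p ^ k)
        exact ⟨i, hi⟩
      exact_mod_cast key
    have hs : Setup p L K P ν := ⟨hLK, hLP, hKG.trans hGL, hPG.trans hGL, hPG.trans hGK, hp',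
      ⟨k, hk⟩, fun g hg => hfix g (hKG hg), hνP⟩
    by_cases hX : G ≤ Nz (K ⊔ P)
    · exact hs.layer_eq hKG hPG hGL hGK hX hfix hidx
    set M := G ⊓ Nz (K ⊔ P) with hM
    have hMG : M ≤ G := inf_le_left
    have hXM : K ⊔ P ≤ M := le_inf (sup_le hKG hPG) Subgroup.le_normalizer
    have hPM : P ≤ M := le_sup_right.trans hXM
    have hNM : M ⊓ Nz P = N := le_antisymm (inf_le_inf_right _ hMG)
      (fun g hg => ⟨⟨hg.1, mem_nz_sup (hGK hg.1) hg.2⟩, hg.2⟩)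
    have hltM : L.relIndex M < n := hn ▸ relIndex_lt_right (hLP.trans hPM) hMG
      fun h => hX (h.trans inf_le_right)
    have hidxM : ¬ p ∣ P.relIndex M := fun h' => hidx (h'.trans
      ⟨_, (Subgroup.relIndex_mul_relIndex P M G hPM hMG).symm⟩)
    have key : (cnt p G ν : ℚ) = (cnt p M ν : ℚ) := by
      rw [cnt_eq_sum_fixOver (K := K) hLK hKG hGK hGL hfix hLP hPG hidx hk hN,
        cnt_eq_sum_fixOver (K := K) (Y := M) hLK (le_sup_left.trans hXM) (hMG.trans hGK)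
          (hMG.trans hGL) (fun g hg => hfix g (hMG hg)) hLP hPM hidxM hk hNM.symm]
      refine Finset.sum_congr rfl fun θ hθ => ?_
      congr 2
      exact ih _ hlt θ rfl le_sup_left (sup_le hKG hPG) hGK
        (fun h' => hidx (h'.trans (Subgroup.relIndex_dvd_of_le_left _ le_sup_right)))
        hs.relIndex_sup.1 (hs.fixX (mem_fixOver.mp hθ).2)
    rw [show cnt p G ν = cnt p M ν by exact_mod_cast key, ← hNM]
    exact ih _ hltM ν rfl hLP hPM (hMG.trans hGL) hidxM ⟨k, hk⟩ hνP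

end CfsgLib.CharBlocks.RelMcKay
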