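import Cfsg.Agent.Lib.CharBlocks.RelMcKay.MidStep
import Cfsg.Agent.Lib.Solvable.CoprimeAction
import Cfsg.Agent.Lib.Solvable.Averaging
import Mathlib.GroupTheory.Nilpotent
import Mathlib.GroupTheory.Solvable

/-!
# Extendibility along the relative Glauberman correspondence

`extends_iff`: if `J` acts through an abelian `p'`-group on the whole configuration, then `θ` extends
to `K J` exactly when its correspondent `φ` extends to `C J`.
-/

set_option autoImplicit false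
set_option linter.unusedSectionVars false
set_option linter.unusedVariables false

noncomputable section

namespace CfsgLib.CharBlocks.RelMcKay

open CfsgLib.Solvable
open scoped commutatorElement

attribute [local instance] Fintype.ofFinite
attribute [local instance high] subFintype

variable {Γ : Type*} [Group Γ] [Finite Γ] {p : ℕ} [Fact p.Prime] {L K R J B X : Subgroup Γ}

/-- `θ` extends to `X`. -/
def Extends (θ : Ch K) (X : Subgroup Γ) : Prop := ∃ η : Ch X, IsExt θ η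

theorem fix_sup {H A A' : Subgroup Γ} {χ : Ch H} (hA : A ≤ Nz H) (hA' : A' ≤ Nz H) (h : Fix A χ)
    (h' : Fix A' χ) : Fix (A ⊔ A') χ := fun g hg => by
  have h1 : A ⊔ A' ≤ stb (Nz H) χ := sup_le
    (fun a ha => (mem_stb le_rfl).mpr ⟨hA ha, h a ha⟩)
    (fun a ha => (mem_stb le_rfl).mpr ⟨hA' ha, h' a ha⟩)
  exact (h1 hg).2.2

theorem fix_self {H : Subgroup Γ} (χ : Ch H) : Fix H χ := fun g hg => cj_of_mem hg χ

theorem comm_mem_sup {N : Subgroup Γ} (hJN : J ≤ Nz N)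
    (h : ∀ a ∈ J, ∀ b ∈ J, a * b * a⁻¹ * b⁻¹ ∈ N) {a b : Γ} (ha : a ∈ N ⊔ J) (hb : b ∈ N ⊔ J) :
    a * b * a⁻¹ * b⁻¹ ∈ N := by
  obtain ⟨n, hn, j, hj, rfl⟩ := exists_mul_of_mem_sup hJN ha
  obtain ⟨n', hn', j', hj', rfl⟩ := exists_mul_of_mem_sup hJN hb
  set Y := N ⊔ J
  have hY : Y ≤ Nz N := sup_le Subgroup.le_normalizer hJN
  have := normal_sub hY
  have key : ∀ x : Y, (x : Γ) ∈ N → ((x : Y) : Y ⧸ N.subgroupOf Y) = 1 := fun x hx =>
    (QuotientGroup.eq_one_iff x).mpr (Subgroup.mem_subgroupOf.mpr hx)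
  let N₁ : Y := ⟨n, Subgroup.mem_sup_left hn⟩
  let N₂ : Y := ⟨n', Subgroup.mem_sup_left hn'⟩
  let J₁ : Y := ⟨j, Subgroup.mem_sup_right hj⟩
  let J₂ : Y := ⟨j', Subgroup.mem_sup_right hj'⟩
  have h1 : (((N₁ * J₁) * (N₂ * J₂) * (N₁ * J₁)⁻¹ * (N₂ * J₂)⁻¹ : Y) : Y ⧸ N.subgroupOf Y) =
      ((J₁ * J₂ * J₁⁻¹ * J₂⁻¹ : Y) : Y ⧸ N.subgroupOf Y) := by
    simp only [QuotientGroup.mk_mul, QuotientGroup.mk_inv, key N₁ hn, key N₂ hn', one_mul]
  rw [key (J₁ * J₂ * J₁⁻¹ * J₂⁻¹) (h j hj j' hj')] at h1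
  exact Subgroup.mem_subgroupOf.mp ((QuotientGroup.eq_one_iff _).mp h1)

/-- Extending across a cyclic top step. -/
theorem extends_iff_fixed (hKB : K ≤ B) (hBX : B ≤ X) (hXB : X ≤ Nz B) {g : Γ} (hg : g ∈ X)
    (hX : X ≤ B ⊔ Subgroup.zpowers g) (hJX : J ≤ X) (hgJ : g ∈ J) (θ : Ch K) :
    Extends θ X ↔ ∃ η : Ch B, IsExt θ η ∧ Fix J η := by
  constructor
  · rintro ⟨ζ, hζ⟩
    obtain ⟨η, hη, hηζ⟩ := hζ.exists_mid hKB hBX
    refine ⟨η, hη, fun j hj => Ch_ext fun x hx => ?_⟩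
    have hj' : j ∈ X := hJX hj
    rw [z_cj (hXB hj'), ← hηζ.2 x hx, ← hηζ.2 _ ?_]
    · simpa using z_conj_self ζ (X.inv_mem hj') x
    · simpa using (Subgroup.mem_normalizer_iff.mp ((Nz B).inv_mem (hXB hj')) x).mp hx
  · rintro ⟨η, hη, hfix⟩
    obtain ⟨ζ, hζ⟩ := exists_ext_cyclic hBX hXB hg hX η (hfix g hgJ)
    exact ⟨ζ, hη.trans hζ⟩

/-- The card of the image of `M` in `Nz L / L`. -/
theorem card_map_quot {M : Subgroup Γ} (hM : M ≤ Nz L) [(L.subgroupOf (Nz L)).Normal] :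
    Nat.card ((M.subgroupOf (Nz L)).map (QuotientGroup.mk' (L.subgroupOf (Nz L)))) =
      L.relIndex M := by
  rw [← Subgroup.relIndex_ker, QuotientGroup.ker_mk', Subgroup.relIndex_subgroupOf hM]

/-- Coprime lifting of fixed points. -/
theorem le_sup_fixC {R₀ J₀ : Subgroup Γ} (hLR₀ : L ≤ R₀) (hR₀R : R₀ ≤ R) (hRL : R ≤ Nz L)
    (hLJ : L ≤ J₀) (hJL : J₀ ≤ Nz L) (hJR₀ : J₀ ≤ Nz R₀) {k : ℕ} (hk : L.relIndex R₀ = p ^ k)
    (hJp : ¬ p ∣ L.relIndex J₀) (hcomm : ∀ j ∈ J₀, ∀ r ∈ R, j * r * j⁻¹ * r⁻¹ ∈ R₀) :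
    R ≤ R₀ ⊔ fixC L R J₀ := by
  intro r hr
  have := normal_sub (X := Nz L) (K := L) le_rfl
  set π := QuotientGroup.mk' (L.subgroupOf (Nz L))
  set A := (J₀.subgroupOf (Nz L)).map π
  set N := (R₀.subgroupOf (Nz L)).map π
  have hR₀L : R₀ ≤ Nz L := hR₀R.trans hRL
  have hmem : ∀ {M : Subgroup Γ}, L ≤ M → ∀ x : Nz L, π x ∈ (M.subgroupOf (Nz L)).map π →
      (x : Γ) ∈ M := by
    rintro M hLM x ⟨y, hy, hxy⟩
    have h1 : (y : Γ)⁻¹ * x ∈ L :=
      Subgroup.mem_subgroupOf.mp (QuotientGroup.eq.mp hxy : y⁻¹ * x ∈ L.subgroupOf (Nz L))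
    simpa using M.mul_mem (Subgroup.mem_subgroupOf.mp hy) (hLM h1)
  have hAN : A ≤ Subgroup.normalizer (N : Set _) := by
    rintro _ ⟨a, ha, rfl⟩
    refine Subgroup.le_normalizer_map π ⟨a, ?_, rfl⟩
    rw [SetLike.mem_coe, Subgroup.mem_normalizer_iff]
    exact fun x => Subgroup.mem_normalizer_iff.mp (hJR₀ ha) (x : Γ)
  have hcop : (Nat.card A).Coprime (Nat.card N) := by
    rw [card_map_quot hJL, card_map_quot hR₀L, hk]
    exact (((Fact.out : p.Prime).coprime_iff_not_dvd.mpr hJp).pow_left k).symm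
  have hsolv : Group.IsSolvable N := by
    have hpN : IsPGroup p N := IsPGroup.of_card (n := k) (by rw [card_map_quot hR₀L, hk])
    have := hpN.isNilpotent
    infer_instance
  obtain ⟨_, ⟨t, ht, rfl⟩, hcent⟩ := exists_mul_mem_centralizer A N hAN hcop (Or.inr hsolv)
    (π ⟨r, hRL hr⟩) (by
      rintro _ ⟨a, ha, rfl⟩
      refine ⟨a * ⟨r, hRL hr⟩ * a⁻¹ * ⟨r, hRL hr⟩⁻¹,
        Subgroup.mem_subgroupOf.mpr (hcomm a ha r hr), ?_⟩
      simp [commutatorElement_def, π])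
  rw [← map_mul, Subgroup.mem_centralizer_iff] at hcent
  have hmemS : (t : Γ) * r ∈ fixC L R J₀ := by
    refine (mem_fixC hRL).mpr ⟨R.mul_mem (hR₀R ht) hr, fun j hj => ?_⟩
    have h1 := hcent (π ⟨j, hJL hj⟩) ⟨_, Subgroup.mem_subgroupOf.mpr hj, rfl⟩
    have h2 : π (⟨j, hJL hj⟩ * (t * ⟨r, hRL hr⟩) * (⟨j, hJL hj⟩ : Nz L)⁻¹ *
        (t * ⟨r, hRL hr⟩)⁻¹) = 1 := by
      rw [map_mul, map_mul, map_mul, h1, map_inv, map_inv]
      group
    exact Subgroup.mem_subgroupOf.mp ((QuotientGroup.eq_one_iff _).mp h2)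
  have h3 := (R₀ ⊔ fixC L R J₀).mul_mem (Subgroup.mem_sup_left (R₀.inv_mem ht))
    (Subgroup.mem_sup_right hmemS)
  simpa using h3

theorem nz_of_conj {M N : Subgroup Γ} (key : ∀ g ∈ N, ∀ x ∈ M, g * x * g⁻¹ ∈ M) : N ≤ Nz M := by
  intro g hg
  rw [Subgroup.mem_normalizer_iff]
  refine fun x => ⟨key g hg x, fun hx => ?_⟩
  have h1 := key g⁻¹ (N.inv_mem hg) _ hx
  simpa [mul_assoc] using h1

set_option maxHeartbeats 400000 in
/-- A `J`-invariant normal subgroup with abelian quotient and cyclic action of `J`. -/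
theorem exists_layer {C : Subgroup Γ} (hLR : L ≤ R) (hRL : R ≤ Nz L) {k : ℕ}
    (hk : L.relIndex R = p ^ k) (hne : ¬ R ≤ L) (hLJ : L ≤ J) (hJL : J ≤ Nz L) (hJR : J ≤ Nz R)
    (hab : ∀ a ∈ J, ∀ b ∈ J, a * b * a⁻¹ * b⁻¹ ∈ C)
    (hC : ∀ r ∈ R, ∀ c ∈ C, r * c * r⁻¹ * c⁻¹ ∈ L) :
    ∃ (R₀ J₀ : Subgroup Γ) (g : Γ), L ≤ R₀ ∧ R₀ ≤ R ∧ R₀.relIndex R ≠ 1 ∧ R ≤ Nz R₀ ∧ J ≤ Nz R₀ ∧
      L ≤ J₀ ∧ J₀ ≤ J ∧ J ≤ Nz J₀ ∧ g ∈ J ∧ J ≤ J₀ ⊔ Subgroup.zpowers g ∧
      ∀ j ∈ J₀, ∀ r ∈ R, j * r * j⁻¹ * r⁻¹ ∈ R₀ := by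
  classical
  let S : Finset (Subgroup Γ) :=
    Finset.univ.filter fun T => L ≤ T ∧ T < R ∧ R ≤ Nz T ∧ J ≤ Nz T
  have hLS : L ∈ S := Finset.mem_filter.mpr
    ⟨Finset.mem_univ _, le_rfl, lt_of_le_not_ge hLR hne, hRL, hJL⟩
  obtain ⟨R₀, hR₀S, hmax⟩ := S.exists_maximal ⟨L, hLS⟩
  obtain ⟨-, hLR₀, hR₀lt, hRn, hJn⟩ := Finset.mem_filter.mp hR₀S
  have hR₀R : R₀ ≤ R := hR₀lt.le
  have hmax' : ∀ T, R₀ ≤ T → T ≤ R → R ≤ Nz T → J ≤ Nz T → T = R₀ ∨ T = R := by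
    intro T h1 h2 h3 h4
    rcases eq_or_lt_of_le h2 with h5 | h5
    · exact Or.inr h5
    · exact Or.inl (le_antisymm
        (hmax (Finset.mem_filter.mpr ⟨Finset.mem_univ _, hLR₀.trans h1, h5, h3, h4⟩) h1) h1)
  have hidx : R₀.relIndex R ≠ 1 := fun h1 => not_le_of_gt hR₀lt (Subgroup.relIndex_eq_one.mp h1)
  have := normal_sub hRn
  set Q := R ⧸ R₀.subgroupOf R
  have hQp : IsPGroup p Q := by
    obtain ⟨i, -, hi⟩ := (Nat.dvd_prime_pow (Fact.out : p.Prime)).mp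
      (hk ▸ (Dvd.intro_left _ (Subgroup.relIndex_mul_relIndex _ _ _ hLR₀ hR₀R) :
        R₀.relIndex R ∣ L.relIndex R))
    exact IsPGroup.of_card (n := i) (by rw [← Subgroup.index_eq_card]; exact hi)
  have : Nontrivial Q := by
    rw [← Finite.one_lt_card_iff_nontrivial]
    have h1 : Nat.card Q = R₀.relIndex R := (Subgroup.index_eq_card _).symm
    have h2 : 0 < Nat.card Q := Nat.card_pos
    omega
  -- the quotient is abelian
  have habR : ∀ a ∈ R, ∀ b ∈ R, a * b * a⁻¹ * b⁻¹ ∈ R₀ := by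
    set D := R₀ ⊔ ⁅R, R⁆
    have hcomm : ⁅R, R⁆ ≤ R := Subgroup.commutator_le.mpr fun a ha b hb =>
      R.mul_mem (R.mul_mem (R.mul_mem ha hb) (R.inv_mem ha)) (R.inv_mem hb)
    have hconj : ∀ g, g ∈ Nz R → ∀ x ∈ ⁅R, R⁆, g * x * g⁻¹ ∈ ⁅R, R⁆ := by
      intro g hg x hx
      have h1 : R.map (MulAut.conj g).toMonoidHom = R := by
        ext y
        constructor
        · rintro ⟨y, hy, rfl⟩
          exact (Subgroup.mem_normalizer_iff.mp hg y).mp hy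
        · intro hy
          refine ⟨g⁻¹ * y * g, ?_, ?_⟩
          · simpa using (Subgroup.mem_normalizer_iff.mp ((Nz R).inv_mem hg) y).mp hy
          · show g * (g⁻¹ * y * g) * g⁻¹ = y
            group
      have h2 : g * x * g⁻¹ ∈ ⁅R, R⁆.map (MulAut.conj g).toMonoidHom := ⟨x, hx, rfl⟩
      rwa [Subgroup.map_commutator, h1] at h2
    have hnz : ∀ M : Subgroup Γ, M ≤ Nz R₀ → M ≤ Nz R → M ≤ Nz D := fun M h1 h2 =>
      nz_of_conj fun g hg x hx => by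
        have h3 : D ≤ D.comap (MulAut.conj g).toMonoidHom := sup_le
          (fun y hy => Subgroup.mem_sup_left ((Subgroup.mem_normalizer_iff.mp (h1 hg) y).mp hy))
          (fun y hy => Subgroup.mem_sup_right (hconj g (h2 hg) y hy))
        exact h3 hx
    rcases hmax' D le_sup_left (sup_le hR₀R hcomm) (hnz R hRn Subgroup.le_normalizer)
      (hnz J hJn hJR) with hD | hD
    · intro a ha b hb
      rw [← hD]
      exact Subgroup.mem_sup_right (Subgroup.commutator_mem_commutator ha hb)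
    · exfalso
      have htop : commutator Q = ⊤ := by
        rw [eq_top_iff]
        rintro q -
        induction q using QuotientGroup.induction_on with
        | _ x =>
        have h4 : D ≤ ((commutator Q).comap (QuotientGroup.mk' (R₀.subgroupOf R))).map R.subtype :=
          sup_le (fun y hy => ⟨⟨y, hR₀R hy⟩, by
            show ((⟨y, hR₀R hy⟩ : R) : Q) ∈ commutator Q
            rw [(QuotientGroup.eq_one_iff (⟨y, hR₀R hy⟩ : R)).mpr (Subgroup.mem_subgroupOf.mpr hy)]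
            exact Subgroup.one_mem _, rfl⟩)
          (Subgroup.commutator_le.mpr fun a ha b hb =>
            ⟨⁅(⟨a, ha⟩ : R), (⟨b, hb⟩ : R)⁆, by
              show QuotientGroup.mk' _ ⁅(⟨a, ha⟩ : R), (⟨b, hb⟩ : R)⁆ ∈ commutator Q
              rw [map_commutatorElement]
              exact Subgroup.commutator_mem_commutator (Subgroup.mem_top _) (Subgroup.mem_top _),
              rfl⟩)
        obtain ⟨y, hy, hyx⟩ := (hD ▸ h4) x.2
        obtain rfl : y = x := Subtype.ext hyx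
        exact hy
      have := hQp.isNilpotent
      have hs : Group.IsSolvable Q := inferInstance
      obtain ⟨n, hn⟩ := hs.solvable
      have hall : ∀ i, derivedSeries Q i = ⊤ := by
        intro i
        induction i with
        | zero => exact derivedSeries_zero Q
        | succ i ih => rw [derivedSeries_succ, ih]; exact htop
      rw [hall n] at hn
      exact top_ne_bot hn
  -- the action of `J`
  let act : J →* MulAut Q :=
    { toFun := fun j => QuotientGroup.congr _ _ (cjEquiv (H := R) (j : Γ)⁻¹ ((Nz R).inv_mem (hJR j.2)))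
        (by
          ext x
          simp only [Subgroup.mem_map, Subgroup.mem_subgroupOf]
          constructor
          · rintro ⟨y, hy, rfl⟩
            show (j : Γ)⁻¹⁻¹ * y * (j : Γ)⁻¹ ∈ R₀
            rw [inv_inv]
            exact (Subgroup.mem_normalizer_iff.mp (hJn j.2) _).mp hy
          · intro hx
            refine ⟨(cjEquiv (H := R) (j : Γ)⁻¹ ((Nz R).inv_mem (hJR j.2))).symm x, ?_,
              MulEquiv.apply_symm_apply _ x⟩
            show (j : Γ)⁻¹ * x * (j : Γ)⁻¹⁻¹ ∈ R₀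
            exact (Subgroup.mem_normalizer_iff.mp ((Nz R₀).inv_mem (hJn j.2)) _).mp hx)
      map_one' := MulEquiv.ext fun q => by
        induction q using QuotientGroup.induction_on with
        | _ x =>
        refine congrArg (fun y : R => (y : Q)) (Subtype.ext ?_)
        show ((1 : J) : Γ)⁻¹⁻¹ * x * ((1 : J) : Γ)⁻¹ = x
        simp
      map_mul' := fun a b => MulEquiv.ext fun q => by
        induction q using QuotientGroup.induction_on with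
        | _ x =>
        refine congrArg (fun y : R => (y : Q)) (Subtype.ext ?_)
        show ((a * b : J) : Γ)⁻¹⁻¹ * x * ((a * b : J) : Γ)⁻¹ =
          (a : Γ)⁻¹⁻¹ * ((b : Γ)⁻¹⁻¹ * x * (b : Γ)⁻¹) * (a : Γ)⁻¹
        simp [mul_assoc] }
  have hact : ∀ (j : J) (r : R),
      act j (r : Q) = (r : Q) ↔ (j : Γ) * r * (j : Γ)⁻¹ * (r : Γ)⁻¹ ∈ R₀ := by
    intro j r
    show ((cjEquiv (H := R) (j : Γ)⁻¹ _ r : R) : Q) = (r : Q) ↔ _
    rw [QuotientGroup.eq_iff_div_mem, Subgroup.mem_subgroupOf, div_eq_mul_inv]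
    show (j : Γ)⁻¹⁻¹ * r * (j : Γ)⁻¹ * (r : Γ)⁻¹ ∈ R₀ ↔ _
    rw [inv_inv]
  have hcomm : ∀ a b : act.range, a * b = b * a := by
    rintro ⟨_, a, rfl⟩ ⟨_, b, rfl⟩
    refine Subtype.ext ?_
    show act a * act b = act b * act a
    have h1 : act (a * b * a⁻¹ * b⁻¹) = 1 := MulEquiv.ext fun q => by
      induction q using QuotientGroup.induction_on with
      | _ x =>
      refine (hact _ x).mpr (hLR₀ ?_)
      have h2 := L.inv_mem (hC x x.2 _ (hab a a.2 b b.2))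
      simpa [mul_assoc] using h2
    rw [map_mul, map_mul, map_mul, map_inv, map_inv, mul_inv_eq_one, mul_inv_eq_iff_eq_mul] at h1
    exact h1
  have hfpf : ∀ e : act.range, e ≠ 1 → ∀ v : Q, (e : MulAut Q) v = v → v = 1 := by
    rintro ⟨_, j, rfl⟩ he v hv
    let U : Subgroup Q :=
      { carrier := {v | act j v = v}
        one_mem' := map_one _
        mul_mem' := fun {a b} (ha : act j a = a) (hb : act j b = b) => by
          show act j (a * b) = a * b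
          rw [map_mul, ha, hb]
        inv_mem' := fun {a} (ha : act j a = a) => by
          show act j a⁻¹ = a⁻¹
          rw [map_inv, ha] }
    set T := (U.comap (QuotientGroup.mk' (R₀.subgroupOf R))).map R.subtype with hT
    have hUn : ∀ (i : J) (u : Q), u ∈ U → act i u ∈ U := by
      intro i u hu
      show act j (act i u) = act i u
      rw [← MulAut.mul_apply, ← map_mul]
      have h2 : (⟨_, j, rfl⟩ : act.range) * ⟨_, i, rfl⟩ = ⟨_, i, rfl⟩ * ⟨_, j, rfl⟩ := hcomm _ _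
      have h3 := congrArg (fun e : act.range => (e : MulAut Q) u) h2
      simp only [Subgroup.coe_mul, MulAut.mul_apply] at h3
      rw [map_mul, MulAut.mul_apply, h3, hu]
    have hTR : T ≤ R := Subgroup.map_subtype_le _
    have hR₀T : R₀ ≤ T := fun y hy => ⟨⟨y, hR₀R hy⟩, by
      show ((⟨y, hR₀R hy⟩ : R) : Q) ∈ U
      rw [(QuotientGroup.eq_one_iff (⟨y, hR₀R hy⟩ : R)).mpr (Subgroup.mem_subgroupOf.mpr hy)]
      exact U.one_mem, rfl⟩
    have hRT : R ≤ Nz T := nz_of_conj fun g hg => by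
      rintro _ ⟨x, hx, rfl⟩
      refine ⟨⟨g, hg⟩ * x * ⟨g, hg⟩⁻¹, ?_, rfl⟩
      show ((⟨g, hg⟩ * x * ⟨g, hg⟩⁻¹ : R) : Q) ∈ U
      have e : ((⟨g, hg⟩ * x * ⟨g, hg⟩⁻¹ : R) : Q) = (x : Q) := by
        rw [QuotientGroup.eq_iff_div_mem, Subgroup.mem_subgroupOf]
        simpa [div_eq_mul_inv, mul_assoc] using habR g hg x x.2
      rw [e]
      exact hx
    have hJT : J ≤ Nz T := nz_of_conj fun g hg => by
      rintro _ ⟨x, hx, rfl⟩
      refine ⟨⟨g * x * g⁻¹, (Subgroup.mem_normalizer_iff.mp (hJR hg) _).mp x.2⟩, ?_, rfl⟩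
      have h1 := hUn ⟨g, hg⟩ (x : Q) hx
      have e : (((⟨g * x * g⁻¹, (Subgroup.mem_normalizer_iff.mp (hJR hg) _).mp x.2⟩ : R)) : Q) =
          act ⟨g, hg⟩ (x : Q) := by
        refine congrArg (fun y : R => (y : Q)) (Subtype.ext ?_)
        show g * x * g⁻¹ = g⁻¹⁻¹ * x * g⁻¹
        rw [inv_inv]
      show ((⟨g * x * g⁻¹, _⟩ : R) : Q) ∈ U
      rw [e]
      exact h1
    rcases hmax' T hR₀T hTR hRT hJT with h1 | h1
    · induction v using QuotientGroup.induction_on with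
      | _ x =>
      have h2 : (x : Γ) ∈ T := ⟨x, hv, rfl⟩
      rw [h1] at h2
      exact (QuotientGroup.eq_one_iff x).mpr (Subgroup.mem_subgroupOf.mpr h2)
    · exfalso
      refine he (Subtype.ext (MulEquiv.ext fun q => ?_))
      induction q using QuotientGroup.induction_on with
      | _ x =>
      obtain ⟨y, hy, hyx⟩ := (h1.symm ▸ x.2 : (x : Γ) ∈ T)
      obtain rfl : y = x := Subtype.ext hyx
      exact hy
  obtain ⟨⟨g₀, hg₀⟩⟩ : IsCyclic act.range := by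
    let : CommGroup Q := { (inferInstance : Group Q) with
      mul_comm := fun x y => by
        induction x using QuotientGroup.induction_on with
        | _ a =>
        induction y using QuotientGroup.induction_on with
        | _ b =>
        rw [← QuotientGroup.mk_mul, ← QuotientGroup.mk_mul, QuotientGroup.eq_iff_div_mem,
          Subgroup.mem_subgroupOf]
        simpa [div_eq_mul_inv, mul_assoc] using habR a a.2 b b.2 }
    exact isCyclic_of_fpf_comm act.range.subtype hfpf hcomm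
  obtain ⟨⟨_, g, rfl⟩, rfl⟩ : ∃ e, e = g₀ := ⟨g₀, rfl⟩
  refine ⟨R₀, act.ker.map J.subtype, g, hLR₀, hR₀R, hidx, hRn, hJn, fun l hl => ?_,
    Subgroup.map_subtype_le _, ?_, g.2, ?_, ?_⟩
  · refine ⟨⟨l, hLJ hl⟩, MulEquiv.ext fun q => ?_, rfl⟩
    induction q using QuotientGroup.induction_on with
    | _ x =>
    refine (hact _ x).mpr (hLR₀ ?_)
    have := L.mul_mem hl ((Subgroup.mem_normalizer_iff.mp (hRL x.2) l⁻¹).mp (L.inv_mem hl))
    simpa [mul_assoc] using this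
  · refine nz_of_conj fun j hj => ?_
    rintro _ ⟨x, hx, rfl⟩
    have hx' : act x = 1 := MonoidHom.mem_ker.mp hx
    refine ⟨⟨j, hj⟩ * x * ⟨j, hj⟩⁻¹, ?_, rfl⟩
    show act (⟨j, hj⟩ * x * ⟨j, hj⟩⁻¹) = 1
    rw [map_mul, map_mul, hx', mul_one, ← map_mul, mul_inv_cancel, map_one]
  · intro j hj
    obtain ⟨i, hi⟩ := Subgroup.mem_zpowers_iff.mp (hg₀ ⟨_, ⟨j, hj⟩, rfl⟩)
    have hker : (⟨j, hj⟩ * (g ^ i)⁻¹ : J) ∈ act.ker := by
      rw [MonoidHom.mem_ker, map_mul, map_inv, map_zpow, mul_inv_eq_one]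
      exact (congrArg Subtype.val hi).symm.trans (Subgroup.coe_zpow _ _ _)
    have h1 := Subgroup.mul_mem _
      (Subgroup.mem_sup_left (T := Subgroup.zpowers (g : Γ))
        (Subgroup.mem_map_of_mem J.subtype hker))
      (Subgroup.mem_sup_right (Subgroup.zpow_mem _ (Subgroup.mem_zpowers (g : Γ)) i))
    simpa using h1
  · rintro _ ⟨j, hj, rfl⟩ r hr
    refine (hact j ⟨r, hr⟩).mp ?_
    rw [MonoidHom.mem_ker.mp hj]
    rfl

/-- Extendibility is preserved by the relative Glauberman correspondence. -/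
theorem Setup.extends_iff {ν : Ch L} (h : Setup p L K R ν) (hLJ : L ≤ J) (hJL : J ≤ Nz L)
    (hJK : J ≤ Nz K) (hJR : J ≤ Nz R) (hJν : Fix J ν) (hJp : ¬ p ∣ L.relIndex J)
    (hab : ∀ a ∈ J, ∀ b ∈ J, a * b * a⁻¹ * b⁻¹ ∈ fixC L K R) (hJC : J ⊓ K ≤ fixC L K R)
    {θ : Ch K} (hθ : m θ ν ≠ 0) (hθR : Fix R θ) (hθJ : Fix J θ) {φ : Ch (fixC L K R)}
    (hc : Cor p θ φ) : Extends θ (K ⊔ J) ↔ Extends φ (fixC L K R ⊔ J) := by
  classical
  obtain ⟨k, hk⟩ := h.pR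
  induction k using Nat.strong_induction_on generalizing R with
  | _ k ih =>
  have hp : p.Prime := Fact.out
  by_cases hne : R ≤ L
  · have hC : fixC L K R = K := le_antisymm (fixC_le L K R) fun x hx =>
      (mem_fixC h.KL).mpr ⟨hx, fun r hr => by
        have h1 := L.mul_mem (hne hr)
          ((Subgroup.mem_normalizer_iff.mp (h.KL hx) r⁻¹).mp (L.inv_mem (hne hr)))
        simpa [mul_assoc] using h1⟩
    revert φ
    rw [hC]
    intro φ hc
    obtain rfl : θ = φ := by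
      by_contra hne'
      exact hc.ne_zero (by rw [m_same, if_neg hne'])
    exact Iff.rfl
  revert φ
  set C := fixC L K R with hCdef
  intro φ hc
  have hC : ∀ r ∈ R, ∀ c ∈ C, r * c * r⁻¹ * c⁻¹ ∈ L := fun r hr c hc' => hc'.2.2 r hr
  obtain ⟨R₀, J₀, g, hLR₀, hR₀R, hidx, hRn, hJn, hLJ₀, hJ₀J, hJJ₀, hgJ, hgen, hJ₀c⟩ :=
    exists_layer h.LR h.RL hk hne hLJ hJL hJR hab hC
  have h₀ := h.restrict hLR₀ hR₀R
  obtain ⟨k₀, hk₀⟩ := h₀.pR
  have hk₀lt : k₀ < k := by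
    have h1 := Subgroup.relIndex_mul_relIndex _ _ _ hLR₀ hR₀R
    rw [hk₀, hk] at h1
    by_contra hge
    have h2 : p ^ k₀ * R₀.relIndex R ≤ p ^ k₀ * 1 := by
      rw [h1, mul_one]; exact Nat.pow_le_pow_right hp.pos (not_lt.mp hge)
    have h3 := Nat.le_of_mul_le_mul_left h2 (pow_pos hp.pos k₀)
    rcases Nat.le_one_iff_eq_zero_or_eq_one.mp h3 with h4 | h4
    · rw [h4, mul_zero] at h1
      exact (pow_pos hp.pos k).ne h1
    · exact hidx h4
  set C₁ := fixC L K R₀ with hC₁def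
  have hCC₁ : C ≤ C₁ := fixC_mono hR₀R
  have hJC₁ : J ≤ Nz C₁ := fun j hj => fixC_nz (hJL hj) (hJK hj) (hJn hj)
  have hJCn : J ≤ Nz C := fun j hj => fixC_nz (hJL hj) (hJK hj) (hJR hj)
  have hRC₁ : R ≤ Nz C₁ := fun r hr => fixC_nz (h.RL hr) (h.RK hr) (hRn hr)
  -- the intermediate correspondent
  obtain ⟨β, hcβ, huβ⟩ := h₀.corr.1 θ hθ fun r hr => hθR r (hR₀R hr)
  have hβν := h₀.over_fixC hθ hcβ.ne_zero
  have hβR : Fix R β := fun r hr => huβ _ (by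
    have h1 : Cor p (cj r θ) (cj r β) := by
      rwa [Cor, m_cj (fixC_le L K R₀) (h.RK hr) (hRC₁ hr)]
    rwa [hθR r hr] at h1)
  have hβJ : Fix J β := fun j hj => huβ _ (by
    have h1 : Cor p (cj j θ) (cj j β) := by
      rwa [Cor, m_cj (fixC_le L K R₀) (hJK hj) (hJC₁ hj)]
    rwa [hθJ j hj] at h1)
  have hφν := h.over_fixC hθ hc.ne_zero
  have hφJ : Fix J φ := fun j hj => (h.corr.1 θ hθ hθR).unique (by
    have h1 : Cor p (cj j θ) (cj j φ) := by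
      rwa [Cor, m_cj (fixC_le L K R) (hJK hj) (hJCn hj)]
    rwa [hθJ j hj] at h1) hc
  have hβφ : Cor p β φ := by
    have h1 := m_congr (B := C₁) (D := C) hLR₀ h₀.RL hk₀ h₀.le_fixC hCC₁ (fixC_le L K R₀)
      h₀.RK h₀.nz_fixC (hR₀R.trans h.nz_fixC) (χ := θ) (δ := φ) (fun r hr => hθR r (hR₀R hr))
      (fun r hr => h.fix_over hφν r (hR₀R hr))
    intro hd
    refine hc ((ZMod.natCast_eq_zero_iff _ p).mp (h1.trans (Finset.sum_eq_zero fun γ hγ => ?_)))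
    by_contra hne'
    rw [mul_eq_zero, not_or] at hne'
    obtain rfl := huβ γ fun hdd => hne'.1 ((ZMod.natCast_eq_zero_iff _ p).mpr hdd)
    exact hne'.2 ((ZMod.natCast_eq_zero_iff _ p).mpr hd)
  have hIH : Extends θ (K ⊔ J) ↔ Extends β (C₁ ⊔ J) :=
    ih k₀ hk₀lt h₀ hJn (fun a ha b hb => hCC₁ (hab a ha b hb)) (hJC.trans hCC₁)
      (fun r hr => hθR r (hR₀R hr)) hcβ hk₀
  rw [hIH]
  -- the acting group centralised by `J₀`
  set S := fixC L R J₀ with hSdef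
  have hJ₀L : J₀ ≤ Nz L := hJ₀J.trans hJL
  have hJp₀ : ¬ p ∣ L.relIndex J₀ := fun hd => hJp (hd.trans
    ⟨J₀.relIndex J, (Subgroup.relIndex_mul_relIndex _ _ _ hLJ₀ hJ₀J).symm⟩)
  have hRS : R ≤ R₀ ⊔ S :=
    le_sup_fixC hLR₀ hR₀R h.RL hLJ₀ hJ₀L (hJ₀J.trans hJn) hk₀ hJp₀ hJ₀c
  have hSR : S ≤ R := fixC_le L R J₀
  have hLS : L ≤ S := fun l hl => (mem_fixC h.RL).mpr ⟨h.LR hl, fun j hj =>
    L.mul_mem ((Subgroup.mem_normalizer_iff.mp (hJ₀L hj) l).mp hl) (L.inv_mem hl)⟩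
  have hJS : J ≤ Nz S := fun j hj => fixC_nz (hJL hj) (hJR hj) (hJJ₀ hj)
  set B := C₁ ⊔ J₀ with hBdef
  have hJ₀C₁ : J₀ ≤ Nz C₁ := hJ₀J.trans hJC₁
  have hBN : B ≤ Nz C₁ := sup_le Subgroup.le_normalizer hJ₀C₁
  have hBL : B ≤ Nz L := sup_le ((fixC_le L K R₀).trans h.KL) hJ₀L
  have hsj : ∀ s ∈ S, ∀ j ∈ J₀, s * j * s⁻¹ * j⁻¹ ∈ L := fun s hs j hj => by
    have h1 := L.inv_mem (hs.2.2 j hj)
    simpa [mul_assoc] using h1
  have hact : ∀ s ∈ S, ∀ x ∈ B, s * x * s⁻¹ * x⁻¹ ∈ C₁ := by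
    intro s hs x hx
    obtain ⟨c, hc', j, hj, rfl⟩ := exists_mul_of_mem_sup hJ₀C₁ hx
    have h1 : s * c * s⁻¹ ∈ C₁ := (Subgroup.mem_normalizer_iff.mp (hRC₁ (hSR hs)) c).mp hc'
    have h2 : s * (c * j) * s⁻¹ * (c * j)⁻¹ = (s * c * s⁻¹) * (s * j * s⁻¹ * j⁻¹) * c⁻¹ := by group
    rw [h2]
    exact C₁.mul_mem (C₁.mul_mem h1 (h₀.le_fixC (hsj s hs j hj))) (C₁.inv_mem hc')
  have hSB : S ≤ Nz B := nz_of_conj fun s hs x hx => by
    have h1 := B.mul_mem (Subgroup.mem_sup_left (T := J₀) (hact s hs x hx)) hx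
    rwa [inv_mul_cancel_right] at h1
  have hC₁J : C₁ ⊓ J₀ = C ⊓ J₀ := le_antisymm
    (fun x hx => ⟨hJC ⟨hJ₀J hx.2, fixC_le L K R₀ hx.1⟩, hx.2⟩) (inf_le_inf_right J₀ hCC₁)
  have hpB : ¬ p ∣ L.relIndex B := by
    rw [← Subgroup.relIndex_mul_relIndex _ _ _ h₀.le_fixC (le_sup_left : C₁ ≤ B),
      relIndex_sup_of_le_nz hJ₀C₁, hp.dvd_mul]
    rintro (h1 | h1)
    · exact h.pK (h1.trans ⟨C₁.relIndex K,
        (Subgroup.relIndex_mul_relIndex _ _ _ h₀.le_fixC (fixC_le L K R₀)).symm⟩)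
    · exact hJp₀ (h1.trans (Subgroup.relIndex_dvd_of_le_left J₀ h₀.le_fixC))
  have hS : Setup p L B S ν :=
    ⟨h₀.le_fixC.trans le_sup_left, hLS, hBL, hSR.trans h.RL, hSB, hpB,
      (h.restrict hLS hSR).pR,
      fix_sup ((fixC_le L K R₀).trans h.KL) hJ₀L (fun g hg => h.fK g (fixC_le L K R₀ hg))
        (fun g hg => hJν g (hJ₀J hg)), fun g hg => h.fR g (hSR hg)⟩
  have hfixC₁ : fixC L C₁ S = C := by
    refine le_antisymm (fun c hc' => (mem_fixC h.KL).mpr ⟨hc'.1.1, fun r hr => ?_⟩)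
      (fun c hc' => ⟨hCC₁ hc', hc'.2.1, fun r hr => hc'.2.2 r (hSR hr)⟩)
    refine comm_mem_closure hc'.2.1 h.RL (S := (R₀ : Set Γ) ∪ (S : Set Γ)) ?_ ?_ ?_ hr
    · rw [Subgroup.closure_union, Subgroup.closure_eq, Subgroup.closure_eq]
      exact hRS
    · exact Set.union_subset hR₀R hSR
    · rintro x (hx | hx)
      · exact hc'.1.2.2 x hx
      · exact hc'.2.2 x hx
  have hfixB : fixC L B S = C ⊔ J₀ := by
    refine le_antisymm (fun x hx => ?_) (sup_le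
      (fun c hc' => ⟨Subgroup.mem_sup_left (hCC₁ hc'), hc'.2.1, fun r hr => hc'.2.2 r (hSR hr)⟩)
      (fun j hj => ⟨Subgroup.mem_sup_right hj, hJ₀L hj, fun s hs => hsj s hs j hj⟩))
    obtain ⟨c, hc', j, hj, rfl⟩ := exists_mul_of_mem_sup hJ₀C₁ hx.1
    refine Subgroup.mul_mem _ (Subgroup.mem_sup_left ?_) (Subgroup.mem_sup_right hj)
    rw [← hfixC₁]
    have hjm : j ∈ fixC L B S := ⟨Subgroup.mem_sup_right hj, hJ₀L hj, fun s hs => hsj s hs j hj⟩
    have h1 := (fixC L B S).mul_mem hx ((fixC L B S).inv_mem hjm)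
    rw [mul_inv_cancel_right] at h1
    exact ⟨hc', h1.2.1, h1.2.2⟩
  have hJ₀C : J₀ ≤ Nz C := hJ₀J.trans hJCn
  have hJB : J ≤ Nz B := nz_of_conj fun j hj x hx => by
    obtain ⟨c, hc', i, hi, rfl⟩ := exists_mul_of_mem_sup hJ₀C₁ hx
    have h1 : j * (c * i) * j⁻¹ = (j * c * j⁻¹) * (j * i * j⁻¹) := by group
    rw [h1]
    exact B.mul_mem (Subgroup.mem_sup_left ((Subgroup.mem_normalizer_iff.mp (hJC₁ hj) c).mp hc'))
      (Subgroup.mem_sup_right ((Subgroup.mem_normalizer_iff.mp (hJJ₀ hj) i).mp hi))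
  have habJ₀ : ∀ a ∈ J₀, ∀ b ∈ J₀, a * b * a⁻¹ * b⁻¹ ∈ C := fun a ha b hb =>
    hab a (hJ₀J ha) b (hJ₀J hb)
  have hstep := fun (φ' : Ch (fixC L C₁ S)) (hc' : Cor p β φ') (hD : Fix (fixC L B S) φ') =>
    hS.ext_step (J := J) h₀.le_fixC le_sup_left hBN (hSR.trans hRC₁)
      (fun a ha b hb => comm_mem_sup hJ₀C₁ (fun x hx y hy => hCC₁ (habJ₀ x hx y hy)) ha hb)
      (fun a ha b hb => by
        rw [hfixC₁]; rw [hfixB] at ha hb; exact comm_mem_sup hJ₀C habJ₀ ha hb)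
      (fun s hs x hx => by simpa [mul_assoc] using hact s⁻¹ (S.inv_mem hs) x hx)
      (by
        rw [hfixC₁, hfixB, relIndex_sup_of_le_nz hJ₀C₁, relIndex_sup_of_le_nz hJ₀C,
          ← Subgroup.inf_relIndex_right C₁, ← Subgroup.inf_relIndex_right C, hC₁J])
      (by rw [hfixC₁, hfixB]; exact sup_le Subgroup.le_normalizer hJ₀C)
      hJB hJS hJL hJν hβν (fun r hr => hβR r (hSR hr))
      (fix_sup Subgroup.le_normalizer hJ₀C₁ (fix_self β) fun g hg => hβJ g (hJ₀J hg)) hc' hD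
  have htrans : (∃ η : Ch B, IsExt β η ∧ Fix J η) ↔
      ∃ δ : Ch (C ⊔ J₀), IsExt φ δ ∧ Fix J δ := by
    clear hIH ih hc hφν
    revert φ
    rw [← hfixB, ← hfixC₁]
    intro φ hφJ hβφ
    refine hstep φ hβφ fun g hg => ?_
    rw [hfixB] at hg
    refine fix_sup (A := fixC L C₁ S) Subgroup.le_normalizer ?_ (fix_self φ)
      (fun x hx => hφJ x (hJ₀J hx)) g (by rwa [hfixC₁])
    rw [hfixC₁]; exact hJ₀C
  have hXB : C₁ ⊔ J ≤ Nz B := sup_le ((le_sup_left : C₁ ≤ B).trans Subgroup.le_normalizer) hJB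
  have hJCJ₀ : J ≤ Nz (C ⊔ J₀) := by
    rw [← hfixB]
    exact fun j hj => fixC_nz (hJL hj) (hJB hj) (hJS hj)
  have hgenB : ∀ (M : Subgroup Γ), M ⊔ J ≤ M ⊔ J₀ ⊔ Subgroup.zpowers g := fun M =>
    sup_le (le_sup_left.trans le_sup_left) (hgen.trans (sup_le_sup_right le_sup_right _))
  rw [extends_iff_fixed (B := B) (X := C₁ ⊔ J) le_sup_left (sup_le_sup_left hJ₀J C₁) hXB
      (Subgroup.mem_sup_right hgJ) (hgenB C₁) le_sup_right hgJ,
    extends_iff_fixed (B := C ⊔ J₀) (X := C ⊔ J) le_sup_left (sup_le_sup_left hJ₀J C)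
      (sup_le ((le_sup_left : C ≤ C ⊔ J₀).trans Subgroup.le_normalizer) hJCJ₀)
      (Subgroup.mem_sup_right hgJ) (hgenB C) le_sup_right hgJ]
  exact htrans

end CfsgLib.CharBlocks.RelMcKay
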