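import Cfsg.Agent.Lib.CharBlocks.RelMcKay.Corr

/-!
# Extendibility and the relative Glauberman correspondence: the basic step

`B / B₁` is abelian and centralised by `S`; `β ∈ Irr B₁` corresponds to `φ ∈ Irr C`.  Then `β` has a
`J`-invariant extension to `B` exactly when `φ` has one to the fixed points `D` of `S` on `B`.
-/

set_option autoImplicit false
set_option linter.unusedSectionVars false
set_option linter.unusedVariables false

noncomputable section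

namespace CfsgLib.CharBlocks.RelMcKay

open CfsgLib.CharNormal

attribute [local instance] Fintype.ofFinite
attribute [local instance high] subFintype

variable {Γ : Type*} [Group Γ] [Finite Γ] {p : ℕ} [Fact p.Prime]

/-- Equal restrictions give equal multiplicities below. -/
theorem IsExt.m_below {K X D : Subgroup Γ} {θ : Ch K} {η : Ch X} (h : IsExt θ η) (hD : D ≤ K)
    (δ : Ch D) : m η δ = m θ δ := by
  have h1 : (m η δ : ℂ) = (m θ δ : ℂ) := by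
    rw [m_eq_classInner (hD.trans h.1), m_eq_classInner hD]
    exact congrArg₂ Cfsg.classInner (funext fun b => h.2 _ (hD b.2)) rfl
  exact_mod_cast h1

/-- The squares of the multiplicities add up to the index. -/
theorem sum_m_sq {K X : Subgroup Γ} (hle : K ≤ X) (hN : X ≤ Nz K) {θ : Ch K} (hfix : Fix X θ) :
    ∑ ψ : Ch X, m ψ θ ^ 2 = K.relIndex X := by
  have := normal_sub hN
  have h1 := sum_degree_mul_classInner_res (K.subgroupOf X) (sub hle θ).2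
  rw [show ((sub hle θ : K.subgroupOf X → ℂ) 1) = (θ : K → ℂ) 1 from
    congrArg (θ : K → ℂ) (map_one _)] at h1
  simp only [classInner_res_sub, apply_one_eq] at h1
  have h2 : ∑ ψ : Ch X, dg ψ * m ψ θ = K.relIndex X * dg θ := by exact_mod_cast h1
  have h3 : ∀ ψ : Ch X, dg ψ * m ψ θ = m ψ θ ^ 2 * dg θ := fun ψ => by
    rcases eq_or_ne (m ψ θ) 0 with h0 | h0
    · simp [h0]
    · rw [dg_eq_of_fix hle hN hfix h0, pow_two]; ring
  rw [Finset.sum_congr rfl fun ψ _ => h3 ψ, ← Finset.sum_mul] at h2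
  exact Nat.eq_of_mul_eq_mul_right (dg_pos θ) h2

theorem card_over_le {K X : Subgroup Γ} (hle : K ≤ X) (hN : X ≤ Nz K) {θ : Ch K} (hfix : Fix X θ) :
    Nat.card {ψ : Ch X // m ψ θ ≠ 0} ≤ K.relIndex X := by
  classical
  rw [← sum_m_sq hle hN hfix, Nat.card_eq_fintype_card, Fintype.card_subtype, Finset.card_filter]
  refine Finset.sum_le_sum fun ψ _ => ?_
  split_ifs with h
  · exact Nat.one_le_pow _ _ (Nat.pos_of_ne_zero h)
  · exact Nat.zero_le _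

/-- With abelian quotient and an extension, every character above is an extension. -/
theorem ext_of_over {K X : Subgroup Γ} (hle : K ≤ X) (hN : X ≤ Nz K)
    (hab : ∀ a ∈ X, ∀ b ∈ X, a * b * a⁻¹ * b⁻¹ ∈ K) {θ : Ch K} {η : Ch X} (hη : IsExt θ η)
    {ψ : Ch X} (hψ : m ψ θ ≠ 0) : IsExt θ ψ := by
  obtain ⟨l, hl, rfl⟩ := exists_tw_of_over hle hN hab
    (by rw [hη.m_eq]; exact one_ne_zero : m η θ ≠ 0) hψ
  exact hη.tw hl

theorem card_over_eq {K X : Subgroup Γ} (hle : K ≤ X) (hN : X ≤ Nz K)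
    (hab : ∀ a ∈ X, ∀ b ∈ X, a * b * a⁻¹ * b⁻¹ ∈ K) {θ : Ch K} {η : Ch X} (hη : IsExt θ η)
    (hfix : Fix X θ) : Nat.card {ψ : Ch X // m ψ θ ≠ 0} = K.relIndex X := by
  classical
  rw [← sum_m_sq hle hN hfix, Nat.card_eq_fintype_card, Fintype.card_subtype, Finset.card_filter]
  refine Finset.sum_congr rfl fun ψ _ => ?_
  split_ifs with h
  · rw [(ext_of_over hle hN hab hη h).m_eq, one_pow]
  · rw [not_ne_iff.mp h]; rfl

/-- Enough characters above force them all to be extensions. -/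
theorem ext_of_card {K X : Subgroup Γ} (hle : K ≤ X) (hN : X ≤ Nz K) {θ : Ch K} (hfix : Fix X θ)
    (hcard : K.relIndex X ≤ Nat.card {ψ : Ch X // m ψ θ ≠ 0}) {ψ : Ch X} (hψ : m ψ θ ≠ 0) :
    IsExt θ ψ := by
  classical
  refine isExt_of_m_eq_one hle hN hfix ?_
  by_contra hne
  have h1 : ∑ ψ : Ch X, (if m ψ θ ≠ 0 then 1 else 0) < ∑ ψ : Ch X, m ψ θ ^ 2 := by
    refine Finset.sum_lt_sum (fun χ _ => ?_) ⟨ψ, Finset.mem_univ ψ, ?_⟩
    · split_ifs with h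
      · exact Nat.one_le_pow _ _ (Nat.pos_of_ne_zero h)
      · exact Nat.zero_le _
    · rw [if_pos hψ]
      exact Nat.one_lt_pow two_ne_zero (by omega)
  rw [sum_m_sq hle hN hfix, ← Finset.card_filter, ← Fintype.card_subtype,
    ← Nat.card_eq_fintype_card] at h1
  omega

variable {L B₁ B S J : Subgroup Γ} {ν : Ch L}

/-- The basic step for extendibility. -/
theorem Setup.ext_step (h : Setup p L B S ν) (hLB₁ : L ≤ B₁) (hB₁B : B₁ ≤ B) (hBN : B ≤ Nz B₁)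
    (hSB₁ : S ≤ Nz B₁) (hab : ∀ a ∈ B, ∀ b ∈ B, a * b * a⁻¹ * b⁻¹ ∈ B₁)
    (habD : ∀ a ∈ fixC L B S, ∀ b ∈ fixC L B S, a * b * a⁻¹ * b⁻¹ ∈ fixC L B₁ S)
    (hact : ∀ s ∈ S, ∀ x ∈ B, s⁻¹ * x * s * x⁻¹ ∈ B₁)
    (hidx : B₁.relIndex B = (fixC L B₁ S).relIndex (fixC L B S))
    (hDN : fixC L B S ≤ Nz (fixC L B₁ S))
    (hJB : J ≤ Nz B) (hJS : J ≤ Nz S) (hJL : J ≤ Nz L) (hJν : Fix J ν)
    {β : Ch B₁} (hβ : m β ν ≠ 0) (hβS : Fix S β) (hβB : Fix B β)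
    {φ : Ch (fixC L B₁ S)} (hc : Cor p β φ) (hφD : Fix (fixC L B S) φ) :
    (∃ η : Ch B, IsExt β η ∧ Fix J η) ↔ ∃ δ : Ch (fixC L B S), IsExt φ δ ∧ Fix J δ := by
  classical
  have hCD : (fixC L B₁ S) ≤ (fixC L B S) := fun c hc => ⟨hB₁B hc.1, hc.2.1, hc.2.2⟩
  have h₁ : Setup p L B₁ S ν := h.inter hLB₁ hB₁B hSB₁
  obtain ⟨k, hk⟩ := h.pR
  have hφν : m φ ν ≠ 0 := h₁.over_fixC hβ hc.ne_zero
  have hLC : L ≤ (fixC L B₁ S) := h₁.le_fixC
  have hCB : (fixC L B₁ S) ≤ B := (fixC_le L B₁ S).trans hB₁B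
  have hDB : (fixC L B S) ≤ B := fixC_le L B S
  have hJD : J ≤ Nz (fixC L B S) := fun j hj => fixC_nz (hJL hj) (hJB hj) (hJS hj)
  obtain ⟨cθ, cβ⟩ := h.corr
  -- extensions of `β` are fixed by `S` and lie over `ν`
  have hext : ∀ η : Ch B, IsExt β η → m η ν ≠ 0 ∧ Fix S η := by
    intro η hη
    refine ⟨by rw [hη.m_below hLB₁]; exact hβ, fun s hs => ?_⟩
    refine cj_ext_eq hBN hη (h.RK hs) (hSB₁ hs) (hβS s hs) (hact s hs) (n := p ^ k)
      (cj_of_mem (h.LK (hk ▸ pow_relIndex_mem h.RL hs)) η)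
      (((Fact.out : p.Prime).coprime_iff_not_dvd.mpr fun hd => h.pK (hd.trans ?_)).pow_left k)
    exact ⟨L.relIndex B₁,
      ((Subgroup.relIndex_mul_relIndex _ _ _ hLB₁ hB₁B).symm.trans (mul_comm _ _))⟩
  have hJfix : ∀ (η : Ch B) (δ : Ch (fixC L B S)), Cor p η δ → ∀ j ∈ J, Cor p (cj j η) (cj j δ) :=
    fun η δ hd j hj => by rwa [Cor, m_cj hDB (hJB hj) (hJD hj)]
  -- composition
  have hdown : ∀ (η : Ch B) (δ : Ch (fixC L B S)), m η ν ≠ 0 → Fix S η → Cor p η δ →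
      (m η φ : ZMod p) = (m η δ : ZMod p) * (m δ φ : ZMod p) := by
    intro η δ hν hS hd
    rw [m_congr (B := fixC L B S) h.LR h.RL hk h.le_fixC hCD hDB h.RK h.nz_fixC h₁.nz_fixC hS
      (h₁.fix_over hφν), Finset.sum_eq_single δ (fun δ' hδ' hne => ?_) (fun hn => absurd
        (Finset.mem_filter.mpr ⟨Finset.mem_univ _, h.fix_over (h.over_fixC hν hd.ne_zero)⟩) hn)]
    rw [(ZMod.natCast_eq_zero_iff (m η δ') p).mpr ?_, zero_mul]
    by_contra hd'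
    exact hne ((cθ η hν hS).unique hd' hd)
  have hCorφ : ∀ (η : Ch B), IsExt β η → ∀ δ : Ch (fixC L B S), Cor p η δ → m δ φ ≠ 0 := by
    intro η hη δ hd h0
    have h2 := hdown η δ (hext η hη).1 (hext η hη).2 hd
    rw [hη.m_below (fixC_le L B₁ S), h0, Nat.cast_zero, mul_zero,
      ZMod.natCast_eq_zero_iff] at h2
    exact hc h2
  have hCorβ : ∀ (δ : Ch (fixC L B S)), IsExt φ δ → ∀ η : Ch B, m η ν ≠ 0 → Fix S η → Cor p η δ →
      m η β ≠ 0 := by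
    intro δ hδ η hν hS hd h0
    have h2 := hdown η δ hν hS hd
    rw [hδ.m_eq, Nat.cast_one, mul_one, m_congr (B := B₁) h.LR h.RL hk hLB₁ (fixC_le L B₁ S) hB₁B
      h.RK hSB₁ h₁.nz_fixC hS (h₁.fix_over hφν), Finset.sum_eq_zero fun γ hγ => ?_] at h2
    · exact hd ((ZMod.natCast_eq_zero_iff _ p).mp h2.symm)
    by_contra hne
    rw [mul_eq_zero, not_or, ← ne_eq, ← ne_eq] at hne
    have hne1 : ¬ p ∣ m η γ := fun hdd => hne.1 ((ZMod.natCast_eq_zero_iff _ p).mpr hdd)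
    have hne2 : ¬ p ∣ m γ φ := fun hdd => hne.2 ((ZMod.natCast_eq_zero_iff _ p).mpr hdd)
    have hγν : m γ ν ≠ 0 :=
      over_of_m hLB₁ hB₁B h.KL h.fK hν fun h0 => hne1 (h0 ▸ dvd_zero p)
    obtain rfl := (h₁.corr.2 φ hφν).unique ⟨⟨hγν, (Finset.mem_filter.mp hγ).2⟩, hne2⟩
      ⟨⟨hβ, hβS⟩, hc⟩
    exact hne1 (h0 ▸ dvd_zero p)
  constructor
  · rintro ⟨η₀, hη₀, hJ⟩
    have hex : ∀ ψ : {ψ : Ch B // m ψ β ≠ 0}, ∃ δ : {δ : Ch (fixC L B S) // m δ φ ≠ 0}, Cor p ψ.1 δ.1 := by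
      intro ψ
      have hψ := ext_of_over hB₁B hBN hab hη₀ ψ.2
      obtain ⟨δ, hd, -⟩ := cθ ψ.1 (hext _ hψ).1 (hext _ hψ).2
      exact ⟨⟨δ, hCorφ _ hψ δ hd⟩, hd⟩
    choose f hf using hex
    have hinj : Function.Injective f := fun a b hab' => Subtype.ext (by
      have ha := ext_of_over hB₁B hBN hab hη₀ a.2
      have hb := ext_of_over hB₁B hBN hab hη₀ b.2
      exact (cβ (f a).1 (h.over_fixC (hext _ ha).1 (hf a).ne_zero)).unique
        ⟨hext _ ha, hf a⟩ ⟨hext _ hb, hab' ▸ hf b⟩)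
    have hcard : (fixC L B₁ S).relIndex (fixC L B S) ≤ Nat.card {δ : Ch (fixC L B S) // m δ φ ≠ 0} := by
      rw [← hidx, ← card_over_eq hB₁B hBN hab hη₀ hβB]
      exact Nat.card_le_card_of_injective f hinj
    obtain ⟨δ, hd, hu⟩ := cθ η₀ (hext _ hη₀).1 (hext _ hη₀).2
    refine ⟨δ, ext_of_card hCD hDN hφD hcard (hCorφ _ hη₀ δ hd), fun j hj => hu _ ?_⟩
    have := hJfix η₀ δ hd j hj
    rwa [hJ j hj] at this
  · rintro ⟨δ₀, hδ₀, hJ⟩
    have hover : ∀ δ : Ch (fixC L B S), IsExt φ δ → m δ ν ≠ 0 := fun δ hδ => by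
      rw [hδ.m_below hLC]; exact hφν
    have hex : ∀ δ : {δ : Ch (fixC L B S) // m δ φ ≠ 0}, ∃ ψ : {ψ : Ch B // m ψ β ≠ 0},
        (m ψ.1 ν ≠ 0 ∧ Fix S ψ.1) ∧ Cor p ψ.1 δ.1 := by
      intro δ
      have hδ := ext_of_over hCD hDN habD hδ₀ δ.2
      obtain ⟨η, ⟨⟨hν, hS⟩, hd⟩, -⟩ := cβ δ.1 (hover _ hδ)
      exact ⟨⟨η, hCorβ _ hδ η hν hS hd⟩, ⟨hν, hS⟩, hd⟩
    choose f hfν hf using hex
    have hcard : B₁.relIndex B ≤ Nat.card {ψ : Ch B // m ψ β ≠ 0} := by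
      rw [hidx, ← card_over_eq hCD hDN habD hδ₀ hφD]
      exact Nat.card_le_card_of_injective f fun a b hab' => Subtype.ext
        ((cθ (f a).1 (hfν a).1 (hfν a).2).unique (hf a) (hab' ▸ hf b))
    obtain ⟨η, ⟨⟨hν, hS⟩, hd⟩, hu⟩ := cβ δ₀ (hover _ hδ₀)
    refine ⟨η, ext_of_card hB₁B hBN hβB hcard (hCorβ _ hδ₀ η hν hS hd), fun j hj =>
      hu _ ⟨⟨?_, ?_⟩, ?_⟩⟩
    · rw [← hJν j hj, m_cj h.LK (hJB hj) (hJL hj)]
      exact hν
    · intro r hr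
      have hconj : j⁻¹ * r * j ∈ S := by
        simpa using (Subgroup.mem_normalizer_iff.mp ((Nz S).inv_mem (hJS hj)) r).mp hr
      rw [← cj_mul (h.RK hr) (hJB hj), show r * j = j * (j⁻¹ * r * j) by group,
        cj_mul (hJB hj) (h.RK hconj), hS _ hconj]
    · have := hJfix η δ₀ hd j hj
      rwa [hJ j hj] at this

end CfsgLib.CharBlocks.RelMcKay
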