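import Cfsg.Agent.Lib.CharBlocks.RelMcKay.Amb
import Cfsg.Agent.Lib.Char.Extension
import Cfsg.Agent.Lib.Char.Restrict
import Cfsg.Agent.Lib.CharNormal.AbelianQuotient

/-!
# Extensions and linear twists

* `IsExt θ η`: the character `η` of `X` restricts to `θ` on `K ≤ X`;
* `tw η l`: the product with a linear character of `X`;
* extensions differ by a unique linear twist; extensions across cyclic quotients;
* `cj_ext_eq`: a coprime operator acting trivially on `X / K` fixes every extension.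
-/

set_option autoImplicit false
set_option linter.unusedSectionVars false
set_option linter.unusedVariables false

noncomputable section

namespace CfsgLib.CharBlocks.RelMcKay

open CfsgLib.Char CfsgLib.CharNormal
open scoped ComplexConjugate

attribute [local instance] Fintype.ofFinite

variable {Γ : Type*} [Group Γ] [Finite Γ] {K X Y B : Subgroup Γ}

/-- `η` restricts to `θ`. -/
def IsExt (θ : Ch K) (η : Ch X) : Prop := K ≤ X ∧ ∀ x ∈ K, z η x = z θ x

theorem IsExt.m_eq {θ : Ch K} {η : Ch X} (h : IsExt θ η) : m η θ = 1 := by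
  have h1 : (m η θ : ℂ) = 1 := by
    rw [m_eq_classInner h.1, ← classInner_irr_self θ.2]
    exact congrArg₂ Cfsg.classInner (funext fun b => by rw [h.2 b b.2, z_coe]) rfl
  exact_mod_cast h1

theorem IsExt.dg_eq {θ : Ch K} {η : Ch X} (h : IsExt θ η) : dg η = dg θ := by
  have := h.2 1 K.one_mem
  rw [z_one, z_one] at this
  exact_mod_cast this

theorem isExt_of_m_eq_one (hle : K ≤ X) (hN : X ≤ Nz K) {θ : Ch K} {η : Ch X} (hfix : Fix X θ)
    (h : m η θ = 1) : IsExt θ η :=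
  ⟨hle, fun x hx => by rw [res_eq_of_fix hle hN hfix (by omega) hx, h, Nat.cast_one, one_mul]⟩

theorem IsExt.isIrr {θ : Ch K} {η : Ch X} (h : IsExt θ η) :
    Cfsg.IsIrrCharacter (K.subgroupOf X) (fun n : K.subgroupOf X => (η : X → ℂ) n) := by
  have he : (fun n : K.subgroupOf X => (η : X → ℂ) n) = (sub h.1 θ : K.subgroupOf X → ℂ) :=
    funext fun n => by
      rw [sub_apply, ← h.2 _ (Subgroup.mem_subgroupOf.mp n.2), z_coe η (n : X)]
  rw [he]
  exact (sub h.1 θ).2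

/-- An extension restricts to an extension on an intermediate subgroup. -/
theorem IsExt.exists_mid {θ : Ch K} {η : Ch X} (h : IsExt θ η) (hKY : K ≤ Y) (hYX : Y ≤ X) :
    ∃ η' : Ch Y, IsExt θ η' ∧ IsExt η' η := by
  have hirr : Cfsg.IsIrrCharacter Y (fun y : Y => (η : X → ℂ) ⟨y, hYX y.2⟩) := by
    refine isIrr_of_comp_isIrr (Subgroup.inclusion hKY)
      (isCharacter_comp (isCharacter_of_isIrr η.2) (Subgroup.inclusion hYX)) ?_
    convert θ.2 using 1
    funext x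
    show (η : X → ℂ) ⟨(x : Γ), _⟩ = _
    rw [← z_coe η, ← z_coe θ]
    exact h.2 x x.2
  refine ⟨⟨_, hirr⟩, ⟨hKY, fun x hx => ?_⟩, ⟨hYX, fun x hx => ?_⟩⟩
  · rw [z_of_mem _ (hKY hx), ← h.2 x hx, z_of_mem η (h.1 hx)]
  · rw [z_of_mem η (hYX hx), z_of_mem _ hx]

theorem IsExt.trans {θ : Ch K} {η : Ch Y} {ζ : Ch X} (h1 : IsExt θ η) (h2 : IsExt η ζ) :
    IsExt θ ζ := ⟨h1.1.trans h2.1, fun x hx => by rw [h2.2 x (h1.1 hx), h1.2 x hx]⟩

theorem IsExt.of_le {θ : Ch K} {η : Ch Y} {ζ : Ch X} (h : IsExt θ ζ) (hη : IsExt η ζ)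
    (hKY : K ≤ Y) : IsExt θ η :=
  ⟨hKY, fun x hx => by rw [← hη.2 x (hKY hx), h.2 x hx]⟩

theorem isExt_refl (θ : Ch K) : IsExt θ θ := ⟨le_rfl, fun _ _ => rfl⟩

theorem IsExt.cj {θ : Ch K} {η : Ch X} (h : IsExt θ η) {g : Γ} (hX : g ∈ Nz X) (hK : g ∈ Nz K) :
    IsExt (cj g θ) (cj g η) := by
  refine ⟨h.1, fun x hx => ?_⟩
  rw [z_cj hX, z_cj hK, h.2]
  simpa using (Subgroup.mem_normalizer_iff.mp ((Nz K).inv_mem hK) x).mp hx

/-! ### Linear twists -/

/-- The values of a linear character, extended by zero. -/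
def lv (l : X →* ℂˣ) : Γ → ℂ := Cfsg.extendByZero X fun y => (l y : ℂ)

theorem lv_of_mem (l : X →* ℂˣ) {x : Γ} (hx : x ∈ X) : lv l x = (l ⟨x, hx⟩ : ℂ) :=
  extendByZero_of_mem _ hx

theorem lv_ne_zero (l : X →* ℂˣ) {x : Γ} (hx : x ∈ X) : lv l x ≠ 0 := by
  rw [lv_of_mem l hx]; exact Units.ne_zero _

theorem lv_mul (l : X →* ℂˣ) {x y : Γ} (hx : x ∈ X) (hy : y ∈ X) :
    lv l (x * y) = lv l x * lv l y := by
  rw [lv_of_mem l hx, lv_of_mem l hy, lv_of_mem l (X.mul_mem hx hy), ← Units.val_mul, ← map_mul]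
  rfl

/-- The product with a linear character. -/
def tw (η : Ch X) (l : X →* ℂˣ) : Ch X :=
  ⟨(η : X → ℂ) * linFun l,
    isIrr_mul_linear η.2 (isCharacter_linFun l).1 (isCharacter_linFun l).2⟩

theorem z_tw (η : Ch X) (l : X →* ℂˣ) (x : Γ) : z (tw η l) x = z η x * lv l x := by
  by_cases hx : x ∈ X
  · rw [z_of_mem _ hx, z_of_mem _ hx, lv_of_mem l hx]; rfl
  · rw [z_of_notMem _ hx, z_of_notMem η hx, zero_mul]

theorem tw_one (η : Ch X) : tw η (1 : X →* ℂˣ) = η := Ch_ext fun x hx => by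
  rw [z_tw, lv_of_mem _ hx]; simp

theorem tw_mul (η : Ch X) (l l' : X →* ℂˣ) : tw η (l * l') = tw (tw η l) l' :=
  Ch_ext fun x hx => by
    rw [z_tw, z_tw, z_tw, lv_of_mem _ hx, lv_of_mem _ hx, lv_of_mem _ hx, MonoidHom.mul_apply,
      Units.val_mul]
    ring

/-- `l` is trivial on `K`. -/
def TrivOn (K : Subgroup Γ) (l : X →* ℂˣ) : Prop := ∀ x : X, (x : Γ) ∈ K → l x = 1

theorem TrivOn.lv {l : X →* ℂˣ} (h : TrivOn K l) (hle : K ≤ X) {x : Γ} (hx : x ∈ K) :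
    lv l x = 1 := by
  rw [lv_of_mem l (hle hx), h ⟨x, hle hx⟩ hx]; rfl

theorem TrivOn.mul {l l' : X →* ℂˣ} (h : TrivOn K l) (h' : TrivOn K l') : TrivOn K (l * l') :=
  fun x hx => by rw [MonoidHom.mul_apply, h x hx, h' x hx, one_mul]

theorem trivOn_one : TrivOn K (1 : X →* ℂˣ) := fun _ _ => rfl

theorem TrivOn.inv {l : X →* ℂˣ} (h : TrivOn K l) : TrivOn K l⁻¹ := fun x hx => by
  rw [MonoidHom.inv_apply, h x hx, inv_one]

theorem TrivOn.pow {l : X →* ℂˣ} (h : TrivOn K l) (n : ℕ) : TrivOn K (l ^ n) := fun x hx => by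
  rw [MonoidHom.pow_apply, h x hx, one_pow]

theorem IsExt.tw {θ : Ch K} {η : Ch X} (h : IsExt θ η) {l : X →* ℂˣ} (hl : TrivOn K l) :
    IsExt θ (tw η l) := ⟨h.1, fun x hx => by rw [z_tw, hl.lv h.1 hx, mul_one, h.2 x hx]⟩

theorem m_tw_trivOn (hle : K ≤ X) (η : Ch X) (θ : Ch K) {l : X →* ℂˣ} (hl : TrivOn K l) :
    m (tw η l) θ = m η θ := by
  have h1 : (m (tw η l) θ : ℂ) = (m η θ : ℂ) := by
    rw [m_eq_classInner hle, m_eq_classInner hle]
    exact congrArg₂ Cfsg.classInner (funext fun b => by rw [z_tw, hl.lv hle b.2, mul_one]) rfl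
  exact_mod_cast h1

theorem m_tw (hle : B ≤ X) (η : Ch X) (β : Ch B) (l : X →* ℂˣ) :
    m (tw η l) (tw β (l.comp (Subgroup.inclusion hle))) = m η β := by
  have h1 : (m (tw η l) (tw β (l.comp (Subgroup.inclusion hle))) : ℂ) * (Nat.card B : ℂ) =
      (m η β : ℂ) * (Nat.card B : ℂ) := by
    rw [m_sum hle, m_sum hle]
    refine Finset.sum_congr rfl fun b _ => ?_
    rw [z_tw, z_tw, lv_of_mem l (hle b.2), lv_of_mem _ b.2]
    show z η b * (l ⟨b, _⟩ : ℂ) * conj (z β b * (l ⟨b, _⟩ : ℂ)) = _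
    have hu : (l ⟨(b : Γ), hle b.2⟩ : ℂ) * conj (l ⟨(b : Γ), hle b.2⟩ : ℂ) = 1 := by
      rw [← linFun_apply, ← char_inv (isCharacter_linFun l).1, linFun_apply, linFun_apply,
        ← Units.val_mul, ← map_mul, mul_inv_cancel, map_one, Units.val_one]
    rw [map_mul]
    calc _ = z η b * conj (z β b) *
        ((l ⟨(b : Γ), hle b.2⟩ : ℂ) * conj (l ⟨(b : Γ), hle b.2⟩ : ℂ)) := by ring
      _ = _ := by rw [hu, mul_one]
  exact_mod_cast mul_right_cancel₀ card_ne_zero' h1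

/-- Extensions differ by a linear twist. -/
theorem IsExt.exists_tw (hN : X ≤ Nz K) {θ : Ch K} {η η' : Ch X} (h : IsExt θ η)
    (h' : IsExt θ η') : ∃ l : X →* ℂˣ, TrivOn K l ∧ η' = RelMcKay.tw η l := by
  have := normal_sub hN
  obtain ⟨lam, hlam, h1, htriv, he⟩ := exists_linear_eq_mul_of_extensions (K.subgroupOf X)
    (isCharacter_of_isIrr η.2) (isCharacter_of_isIrr η'.2) h.isIrr (fun n => by
      rw [← z_coe η' (n : X), ← z_coe η (n : X), h'.2 _ (Subgroup.mem_subgroupOf.mp n.2),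
        h.2 _ (Subgroup.mem_subgroupOf.mp n.2)])
  refine ⟨linearHom hlam h1, fun x hx => ?_, Subtype.ext ?_⟩
  · exact Units.ext ((linearHom_apply hlam h1 x).trans
      (htriv x (Subgroup.mem_subgroupOf.mpr hx)))
  · rw [he]
    funext x
    show _ = (η : X → ℂ) x * (linearHom hlam h1 x : ℂ)
    rw [linearHom_apply]; rfl

/-- An extension is nonzero somewhere on every coset. -/
theorem IsExt.exists_ne_zero {θ : Ch K} {η : Ch X} (h : IsExt θ η) {g : Γ} (hg : g ∈ X) :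
    ∃ x ∈ K, z η (g * x) ≠ 0 := by
  by_contra hc
  push Not at hc
  have h1 := sum_normSq_coset (K.subgroupOf X) (isCharacter_of_isIrr η.2) h.isIrr ⟨g, hg⟩
  rw [Finset.sum_eq_zero fun n _ => by
    rw [← z_coe η]
    show z η (g * ((n : X) : Γ)) * _ = 0
    rw [hc _ (Subgroup.mem_subgroupOf.mp n.2), zero_mul]] at h1
  exact card_ne_zero' h1.symm

/-- Twisting an extension is free. -/
theorem IsExt.tw_eq_self {θ : Ch K} {η : Ch X} (h : IsExt θ η) {l : X →* ℂˣ} (hl : TrivOn K l)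
    (he : RelMcKay.tw η l = η) : l = 1 := by
  ext g
  obtain ⟨x, hx, hne⟩ := h.exists_ne_zero g.2
  have h1 : z (RelMcKay.tw η l) ((g : Γ) * x) = z η ((g : Γ) * x) := by rw [he]
  rw [z_tw, lv_mul l g.2 (h.1 hx), hl.lv h.1 hx, mul_one] at h1
  have h2 : lv l (g : Γ) = 1 := (mul_eq_left₀ hne).mp h1
  rwa [lv_of_mem l g.2] at h2

theorem IsExt.tw_inj {θ : Ch K} {η : Ch X} (h : IsExt θ η) {l l' : X →* ℂˣ} (hl : TrivOn K l)
    (hl' : TrivOn K l') (he : RelMcKay.tw η l = RelMcKay.tw η l') : l = l' := by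
  have h1 : RelMcKay.tw η (l * l'⁻¹) = η := by
    rw [tw_mul, he, ← tw_mul]
    rw [show l' * l'⁻¹ = 1 from MonoidHom.ext fun x => mul_inv_cancel (l' x), tw_one]
  exact mul_inv_eq_one.mp (h.tw_eq_self (hl.mul hl'.inv) h1)

/-- Characters over one character of a subgroup with abelian quotient differ by twists. -/
theorem exists_tw_of_over (hle : K ≤ X) (hN : X ≤ Nz K)
    (hab : ∀ a ∈ X, ∀ b ∈ X, a * b * a⁻¹ * b⁻¹ ∈ K) {θ : Ch K} {ψ ψ' : Ch X}
    (h1 : m ψ θ ≠ 0) (h2 : m ψ' θ ≠ 0) :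
    ∃ l : X →* ℂˣ, TrivOn K l ∧ ψ' = RelMcKay.tw ψ l := by
  have := normal_sub hN
  obtain ⟨l, hl⟩ := exists_eq_linear_mul_of_over (K.subgroupOf X) (fun a b => by
      induction a using QuotientGroup.induction_on with
      | _ a =>
      induction b using QuotientGroup.induction_on with
      | _ b =>
      rw [← QuotientGroup.mk_mul, ← QuotientGroup.mk_mul, QuotientGroup.eq_iff_div_mem,
        Subgroup.mem_subgroupOf]
      simpa [div_eq_mul_inv, mul_assoc] using hab a a.2 b b.2) ψ.2 ψ'.2 (sub hle θ).2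
    (by rw [classInner_res_sub]; exact Nat.cast_ne_zero.mpr h1)
    (by rw [classInner_res_sub]; exact Nat.cast_ne_zero.mpr h2)
  refine ⟨l.comp (QuotientGroup.mk' _), fun x hx => ?_, Subtype.ext ?_⟩
  · rw [MonoidHom.comp_apply, QuotientGroup.mk'_apply,
      (QuotientGroup.eq_one_iff x).mpr (Subgroup.mem_subgroupOf.mpr hx), map_one]
  · rw [hl]
    funext x
    show _ = (ψ : X → ℂ) x * (l (x : X ⧸ K.subgroupOf X) : ℂ)
    exact mul_comm _ _

theorem isCyclic_quot (hle : K ≤ X) [(K.subgroupOf X).Normal] {s : Γ} (hs : s ∈ X)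
    (hX : X ≤ K ⊔ Subgroup.zpowers s) : IsCyclic (X ⧸ K.subgroupOf X) := by
  refine ⟨⟨((⟨s, hs⟩ : X) : X ⧸ K.subgroupOf X), fun q => ?_⟩⟩
  induction q using QuotientGroup.induction_on with
  | _ x =>
  let U := (Subgroup.zpowers ((⟨s, hs⟩ : X) : X ⧸ K.subgroupOf X)).comap
    (QuotientGroup.mk' (K.subgroupOf X))
  have h1 : K ⊔ Subgroup.zpowers s ≤ U.map X.subtype := sup_le (fun k hk =>
      ⟨⟨k, hle hk⟩, by
        show ((⟨k, hle hk⟩ : X) : X ⧸ K.subgroupOf X) ∈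
          Subgroup.zpowers ((⟨s, hs⟩ : X) : X ⧸ K.subgroupOf X)
        rw [(QuotientGroup.eq_one_iff (⟨k, hle hk⟩ : X)).mpr (Subgroup.mem_subgroupOf.mpr hk)]
        exact Subgroup.one_mem _, rfl⟩)
    (Subgroup.zpowers_le.mpr ⟨⟨s, hs⟩, Subgroup.mem_zpowers _, rfl⟩)
  obtain ⟨y, hy, hyx⟩ := h1 (hX x.2)
  have : y = x := Subtype.ext hyx
  subst this
  exact hy

/-- An invariant character extends across a cyclic quotient. -/
theorem exists_ext_cyclic (hle : K ≤ X) (hN : X ≤ Nz K) {s : Γ} (hs : s ∈ X)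
    (hX : X ≤ K ⊔ Subgroup.zpowers s) (θ : Ch K) (hfix : cj s θ = θ) : ∃ η : Ch X, IsExt θ η := by
  have := normal_sub hN
  have hF : Fix X θ := fun g hg => by
    have h1 : K ⊔ Subgroup.zpowers s ≤ stb (Nz K) θ := sup_le
      (fun k hk => (mem_stb le_rfl).mpr ⟨Subgroup.le_normalizer hk, cj_of_mem hk θ⟩)
      (Subgroup.zpowers_le.mpr ((mem_stb le_rfl).mpr ⟨hN hs, hfix⟩))
    exact (h1 (hX hg)).2.2
  obtain ⟨χ, hχ, he⟩ := extend_of_cyclic (N := K.subgroupOf X) (isCyclic_quot hle hs hX)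
    (sub hle θ).2 (fun g n => by
      rw [sub_apply, sub_apply]
      exact hF.apply hN g.2 _)
  refine ⟨⟨χ, hχ⟩, hle, fun x hx => ?_⟩
  rw [z_of_mem _ (hle hx)]
  refine (he ⟨⟨x, hle hx⟩, Subgroup.mem_subgroupOf.mpr hx⟩).trans ?_
  rw [sub_apply]

theorem TrivOn.pow_relIndex (hN : X ≤ Nz K) {l : X →* ℂˣ} (h : TrivOn K l) :
    l ^ K.relIndex X = 1 := by
  have := normal_sub hN
  exact pow_index_eq_one_of_trivial (N := K.subgroupOf X) fun n => h (n : X) n.2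

/-- A coprime operator acting trivially on `X / K` fixes the extensions of a fixed character. -/
theorem cj_ext_eq (hN : X ≤ Nz K) {θ : Ch K} {η : Ch X} (h : IsExt θ η) {s : Γ} (hsX : s ∈ Nz X)
    (hsK : s ∈ Nz K) (hfix : RelMcKay.cj s θ = θ)
    (hact : ∀ x ∈ X, s⁻¹ * x * s * x⁻¹ ∈ K) {n : ℕ} (hn : RelMcKay.cj (s ^ n) η = η)
    (hcop : n.Coprime (K.relIndex X)) : RelMcKay.cj s η = η := by
  have h1 := h.cj hsX hsK
  rw [hfix] at h1
  obtain ⟨l, hl, he⟩ := h.exists_tw hN h1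
  have hpow : ∀ i : ℕ, RelMcKay.cj (s ^ i) η = RelMcKay.tw η (l ^ i) := by
    intro i
    induction i with
    | zero =>
      rw [pow_zero, cj_one, show l ^ 0 = 1 from MonoidHom.ext fun x => pow_zero (l x), tw_one]
    | succ i ih =>
      rw [pow_succ', cj_mul hsX ((Nz X).pow_mem hsX i), ih, pow_succ' l, tw_mul, ← he]
      refine Ch_ext fun x hx => ?_
      rw [z_cj hsX, z_tw, z_tw, z_cj hsX]
      congr 1
      have hy := hact x hx
      have hmem : s⁻¹ * x * s * x⁻¹ ∈ X := h.1 hy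
      calc lv (l ^ i) (s⁻¹ * x * s) = lv (l ^ i) ((s⁻¹ * x * s * x⁻¹) * x) := by
            rw [inv_mul_cancel_right]
        _ = lv (l ^ i) x := by rw [lv_mul _ hmem hx, (hl.pow i).lv h.1 hy, one_mul]
  have h2 : l ^ n = 1 := h.tw_eq_self (hl.pow n) ((hpow n).symm.trans hn)
  have h3 := hl.pow_relIndex hN
  have h4 : l = 1 := by
    refine MonoidHom.ext fun x => orderOf_eq_one_iff.mp (Nat.eq_one_of_dvd_coprimes hcop ?_ ?_)
    · exact orderOf_dvd_of_pow_eq_one (DFunLike.congr_fun h2 x)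
    · exact orderOf_dvd_of_pow_eq_one (DFunLike.congr_fun h3 x)
  rw [he, h4, tw_one]

end CfsgLib.CharBlocks.RelMcKay
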